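import Cfsg.Agent.Lib.Classical.PSpThree.Iso
import Cfsg.Agent.Lib.Classical.PSpThree.Congr

/-!
Six generators of `PSp₄(3) ≅ PSU₄(2)` acting on forty points: three diagonal elements of order three, two
permutation matrices and one reflection.
-/

set_option autoImplicit false
set_option maxRecDepth 100000

namespace CfsgLib.Recognition.USixTwoOuter

open CfsgLib.Classical.PSpThree (perms)

/-- Permutations of forty points. -/
abbrev P40 := Equiv.Perm (Fin 40)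

theorem perms_cube : ∀ v i, perms v (perms v (perms v i)) = i := by decide +kernel

/-- One of the forty reflections. -/
def gc (v : Fin 40) : P40 where
  toFun := perms v
  invFun i := perms v (perms v i)
  left_inv := perms_cube v
  right_inv := perms_cube v

/-- The group. -/
def K40 : Subgroup P40 := Subgroup.closure (Set.range gc)

/-- Generator `k1`. -/
def gk1 : P40 := gc 3 * gc 2 * gc 2

/-- Generator `k2`. -/
def gk2 : P40 := gc 3 * gc 1 * gc 1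

/-- Generator `k3`. -/
def gk3 : P40 := gc 3 * gc 0 * gc 0

/-- Generator `s`. -/
def gs : P40 := gc 6 * gc 4 * gc 0

/-- Generator `p`. -/
def gp : P40 := gc 35 * gc 33 * gc 11 * gc 5 * gc 5

/-- Generator `h`. -/
def gh : P40 := gc 22 * gc 3 * gc 3

/-- The six generators. -/
def gen : Fin 6 → P40 := ![gk1, gk2, gk3, gs, gp, gh]

/-- The reflections as words. -/
def cWords : Fin 40 → List (Fin 6) := ![
  [1, 0],
  [2, 0],
  [2, 1],
  [2, 1, 0],
  [4, 4, 5, 4, 4, 2, 0],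
  [4, 4, 0, 5, 4, 4, 1, 0],
  [4, 0, 3, 5, 4, 2, 4, 1],
  [4, 3, 5, 4, 1, 4, 0],
  [4, 4, 2, 5, 4, 4, 2, 1],
  [1, 4, 4, 5, 0, 4, 4, 0],
  [0, 4, 4, 5, 4, 4, 2],
  [4, 3, 0, 5, 4, 2, 4, 0],
  [1, 4, 3, 5, 2, 4, 1, 4],
  [4, 4, 4, 5, 4, 1, 0],
  [1, 4, 4, 4, 5, 4, 0],
  [4, 4, 2, 3, 5, 4, 0],
  [4, 4, 4, 2, 5, 4, 2, 0],
  [4, 4, 4, 1, 5, 4, 2, 1],
  [1, 4, 4, 4, 1, 5, 4, 2],
  [4, 1, 4, 3, 5, 2, 4, 1],
  [4, 4, 0, 3, 5, 1, 4, 0],
  [5, 4, 2, 4, 5, 3, 5, 2],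
  [5, 2, 1, 0],
  [2, 5, 1, 0],
  [1, 0, 5, 2],
  [1, 5, 2, 0],
  [2, 1, 5, 0],
  [1, 5, 2, 2, 5, 0],
  [2, 0, 5, 1],
  [2, 5, 1, 1, 5, 0],
  [0, 5, 2, 1],
  [3, 5, 3, 2, 1],
  [3, 1, 0, 5, 2, 3],
  [3, 2, 5, 3, 1, 0],
  [3, 1, 5, 3, 2, 0],
  [2, 3, 5, 3, 1],
  [0, 3, 5, 2, 3, 1],
  [3, 2, 0, 5, 1, 3],
  [2, 3, 1, 5, 3, 0],
  [1, 3, 5, 3, 2]]

theorem gc_word : ∀ v, gc v = ((cWords v).map gen).prod := by decide +kernel

theorem gc_mem (v : Fin 40) : gc v ∈ K40 := Subgroup.subset_closure ⟨v, rfl⟩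

theorem gen_mem (i : Fin 6) : gen i ∈ K40 := by
  fin_cases i <;> simp [gen, gk1, gk2, gk3, gs, gp, gh] <;> (first | exact mul_mem (mul_mem (mul_mem (mul_mem (gc_mem _) (gc_mem _)) (gc_mem _)) (gc_mem _)) (gc_mem _) | exact mul_mem (mul_mem (gc_mem _) (gc_mem _)) (gc_mem _))

theorem closure_gen : Subgroup.closure (Set.range gen) = K40 := by
  refine le_antisymm ((Subgroup.closure_le _).2 ?_) ((Subgroup.closure_le _).2 ?_)
  · rintro _ ⟨i, rfl⟩
    exact gen_mem i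
  · rintro _ ⟨v, rfl⟩
    rw [gc_word v]
    refine list_prod_mem fun x hx => ?_
    obtain ⟨i, -, rfl⟩ := List.mem_map.1 hx
    exact Subgroup.subset_closure ⟨i, rfl⟩

theorem relations :
    gk1 * gk1 * gk1 = 1 ∧ gk2 * gk2 * gk2 = 1 ∧ gk3 * gk3 * gk3 = 1 ∧ gk1 * gk2 = gk2 * gk1 ∧
      gk1 * gk3 = gk3 * gk1 ∧ gk2 * gk3 = gk3 * gk2 ∧ gs * gs = 1 ∧ gp * gp * gp * gp = 1 ∧
      gh * gh * gh = 1 := by decide +kernel

/-- The transposition of the second and third coordinate. -/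
def gt : P40 := gp * gs * (gp * gp * gp)

/-- The transposition of the third and fourth coordinate. -/
def gu : P40 := gp * gt * (gp * gp * gp)

/-- The diagonal element fixing the first coordinate and scaling the others equally. -/
def ge : P40 := gk1 * gk1 * (gk2 * gk2) * (gk3 * gk3)

theorem conj_relations :
    gs * gk1 = gk1 * gk1 * gs ∧ gs * gk2 = gk1 * gk1 * gk2 * gs ∧ gs * gk3 = gk1 * gk1 * gk3 * gs ∧
      gp * gk1 = gk1 * gk1 * gk2 * gp ∧ gp * gk2 = gk1 * gk1 * gk3 * gp ∧ gp * gk3 = gk1 * gk1 * gp ∧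
      gp * gp * gp * gs = gu * gt := by decide +kernel

theorem reflection_relations :
    gh * ge = ge * gh ∧ gh * gt = gt * gh ∧ gh * gu = gu * gh ∧
      gh * gk1 * (gh * gk1) * (gh * gk1) * (gh * gk1) = 1 := by decide +kernel

end CfsgLib.Recognition.USixTwoOuter
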