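import Mathlib
import Cfsg.Prelude.Def_TwoFusion
import Cfsg.Agent.Lib.Involution.ZStar.Main

/-!
An isolated involution has its centraliser supplemented by the odd core.
-/

set_option autoImplicit false
set_option linter.style.haveILetI false

namespace CfsgLib.Recognition.USixTwoOuter

open Subgroup CfsgLib.Involution

theorem sup_oddCore_eq_top {G : Type*} [Group G] [Finite G] {z : G} (hiso : Cfsg.IsIsolatedInvolution z) :
    centralizer ({z} : Set G) ⊔ Cfsg.oddCore G = ⊤ := by
  classical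
  set O := Cfsg.oddCore G
  haveI hOn : O.Normal := ZStar.oddCore_normal
  haveI := Fintype.ofFinite G
  have hz2 : z * z = 1 := by rw [← pow_two, ← hiso.1, pow_orderOf_eq_one]
  refine eq_top_iff.2 fun g _ => ?_
  have hclosed : ∀ y : G, g⁻¹ * y ∈ O → g⁻¹ * (z * y * z⁻¹) ∈ O := by
    intro y hy
    rw [show g⁻¹ * (z * y * z⁻¹) = g⁻¹ * (z * g * z⁻¹ * g⁻¹) * g * (z * (g⁻¹ * y) * z⁻¹) by group]
    refine mul_mem ?_ (hOn.conj_mem _ hy z)
    have := hOn.conj_mem _ (ZStar.comm_mem_oddCore hiso g) g⁻¹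
    rwa [inv_inv] at this
  let Y := {y : G // g⁻¹ * y ∈ O}
  let σ : Equiv.Perm Y :=
    Function.Involutive.toPerm (fun y : Y => ⟨z * y * z⁻¹, hclosed y y.2⟩) fun y => Subtype.ext (by
      change z * (z * (y : G) * z⁻¹) * z⁻¹ = y
      rw [inv_eq_of_mul_eq_one_left hz2]
      calc z * (z * (y : G) * z) * z = z * z * y * (z * z) := by group
        _ = y := by rw [hz2, one_mul, mul_one])
  have hYcard : Fintype.card Y = Fintype.card O :=
    Fintype.card_congr ((Equiv.mulLeft g⁻¹).subtypeEquiv fun y => Iff.rfl)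
  haveI : Fact (Nat.Prime 2) := ⟨Nat.prime_two⟩
  obtain ⟨y, hy⟩ := Equiv.Perm.exists_fixed_point_of_prime (p := 2) (n := 1) (σ := σ)
    (by
      rw [hYcard, ← Nat.card_eq_fintype_card]
      have := ZStar.odd_card_oddCore (G := G)
      exact fun h => (Nat.not_even_iff_odd.mpr this) (even_iff_two_dvd.mpr h))
    (by
      ext w
      simp only [pow_one, pow_two, Equiv.Perm.mul_apply, Equiv.Perm.one_apply]
      exact congrArg Subtype.val (Function.Involutive.toPerm_involutive _ w))
  have hyC : (y : G) ∈ centralizer ({z} : Set G) := mem_centralizer_singleton_iff.mpr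
    (mul_inv_eq_iff_eq_mul.1 (congrArg Subtype.val hy : z * (y : G) * z⁻¹ = y)).symm
  rw [show g = (y : G) * ((g⁻¹ * y)⁻¹) by group]
  exact mul_mem_sup hyC (inv_mem y.2)

/-- Either the centraliser is supplemented by the odd core, or another conjugate commutes with `z`. -/
theorem supplement_or_member {G : Type*} [Group G] [Finite G] {z : G} (hz : orderOf z = 2) :
    centralizer ({z} : Set G) ⊔ Cfsg.oddCore G = ⊤ ∨ ∃ w, IsConj z w ∧ w * z = z * w ∧ w ≠ z := by
  by_cases h : Cfsg.IsIsolatedInvolution z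
  · exact Or.inl (sup_oddCore_eq_top h)
  · right
    simp only [Cfsg.IsIsolatedInvolution, hz, true_and, not_forall] at h
    obtain ⟨g, hc, hne⟩ := h
    exact ⟨g * z * g⁻¹, isConj_iff.2 ⟨g, rfl⟩, hc.eq.symm, hne⟩

end CfsgLib.Recognition.USixTwoOuter
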