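import Cfsg.Agent.Lib.Recognition.USixTwo.Sylow

/-!
# Semilinear maps of the hermitian space of dimension four normalising the unitary group

Only scalars commute with the group generated by the transvections, so an isometry of the quadratic space
normalising that group is linear or semilinear. Also some facts read on the Sylow subgroup fixing a singular
vector.
-/

set_option autoImplicit false
set_option linter.unusedSectionVars false
set_option maxRecDepth 100000

namespace CfsgLib.Recognition.USixTwoOuter

open CfsgLib.Recognition.USixTwo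
open CfsgLib.Sporadic.LargeFischer (D4 om nzd)

/-- Anticommuting with the scalar of order three. -/
def Anti (g : V4 ≃ₗ[ZMod 2] V4) : Prop := ∀ v, g (omV v) = omV (omV (g v))

theorem omV_cube (v : V4) : omV (omV (omV v)) = v :=
  funext fun i => (by decide : ∀ a : D4, om (om (om a)) = a) (v i)

theorem syl_fix_v0 : sylCols.all (fun a => apN a 5 == 5) = true := by decide +kernel

theorem TS_fix {g : V4 ≃ₗ[ZMod 2] V4} (hg : g ∈ TS) : g v0 = v0 := code_injective (by
  rw [code_apply, code_v0]
  exact beq_iff_eq.1 (List.all_eq_true.1 syl_fix_v0 _ (mem_TS.1 hg)))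

theorem singular_span : (List.range 256).all (fun n =>
    (List.range 256).any fun a => !qN a && !qN (n ^^^ a)) = true := by decide +kernel

/-- Only scalars commute with the group generated by the transvections. -/
theorem eq_scl_of_commute (x : V4 ≃ₗ[ZMod 2] V4) (hx : ∀ g ∈ TG, ∀ v, x (g v) = g (x v)) :
    ∃ c, ∀ v, x v = scl c v := by
  obtain ⟨c, hc⟩ : ∃ c, x v0 = scl c v0 := by
    refine (lineN_iff v0 (x v0)).1 ?_
    rw [code_v0]
    have h := List.all_eq_true.1 fixed_ok (code (x v0)) (List.mem_range.2 (code_lt _))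
    rw [Bool.or_eq_true, Bool.not_eq_true'] at h
    refine h.resolve_left fun e => ?_
    rw [List.all_eq_false] at e
    obtain ⟨l, hl, hne⟩ := e
    obtain ⟨w, -, -, hw⟩ := syl_word hl
    have hgS : wordE w ∈ TS := by rw [mem_TS, hw]; exact hl
    refine hne (beq_iff_eq.2 ?_)
    rw [← hw, ← code_apply, ← hx _ (TS_le hgS), TS_fix hgS]
  refine ⟨c, fun v => ?_⟩
  have hs : ∀ u, q4 u = 0 → x u = scl c u := fun u hu => by
    by_cases h0 : u = 0
    · rw [h0, map_zero, scl_zero_vec]
    obtain ⟨g, hg, rfl⟩ := exists_moving hu h0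
    rw [hx g hg, hc, IsIso.scl (TG_le hg)]
  obtain ⟨a, ha, hab⟩ := List.any_eq_true.1 (forall_of_codes singular_span v)
  rw [Bool.and_eq_true, Bool.not_eq_true', Bool.not_eq_true'] at hab
  have hca : code (dec a) = a := codes_ok a (List.mem_range.1 ha)
  have h1 : q4 (dec a) = 0 := (q4_eq_zero_iff _).2 (by rw [hca]; exact hab.1)
  have h2 : q4 (v + dec a) = 0 := (q4_eq_zero_iff _).2 (by rw [code_add, hca]; exact hab.2)
  have e : v = (v + dec a) + dec a := by rw [add_assoc, add_self_V4, add_zero]
  rw [show x v = x (v + dec a) + x (dec a) by rw [← map_add, ← e], hs _ h2, hs _ h1, ← scl_add, ← e]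

/-- An isometry normalising the group of transvections is linear or semilinear. -/
theorem lin_or_anti {g : V4 ≃ₗ[ZMod 2] V4} (hn : ∀ t ∈ TG, g⁻¹ * t * g ∈ TG) :
    (∀ v, g (omV v) = omV (g v)) ∨ Anti g := by
  let omE : V4 ≃ₗ[ZMod 2] V4 :=
    { toFun := omV
      invFun := fun v => omV (omV v)
      map_add' := fun u v => by rw [omV_eq, omV_eq, omV_eq, scl_add]
      map_smul' := fun r v => by
        rcases (by decide : ∀ c : ZMod 2, c = 0 ∨ c = 1) r with rfl | rfl
        · simp only [zero_smul, RingHom.id_apply]; rw [omV_eq, scl_zero_vec]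
        · simp only [one_smul, RingHom.id_apply]
      left_inv := omV_cube
      right_inv := omV_cube }
  obtain ⟨c, hc⟩ := eq_scl_of_commute (g * omE * g⁻¹) fun t ht v => by
    have ht' : IsIso (g⁻¹ * t * g) := TG_le (hn t ht)
    have h := ht'.lin (g.symm v)
    simp only [LinearEquiv.mul_apply, g.apply_symm_apply] at h
    show g (omV (g.symm (t v))) = t (g (omV (g.symm v)))
    have h' : g.symm (t (g (omV (g.symm v)))) = omV (g.symm (t v)) := h
    rw [← h', g.apply_symm_apply]
  have hc' : ∀ u, g (omV u) = scl c (g u) := fun u => by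
    rw [← hc (g u)]
    show _ = g (omV (g.symm (g u)))
    rw [g.symm_apply_apply]
  rcases D4_cases c with rfl | rfl | rfl | rfl
  · exfalso
    have h0 : omV (fun _ => (1, 0) : V4) = 0 := g.map_eq_zero_iff.1 ((hc' _).trans (scl_zero _))
    exact absurd (congrFun h0 0) (by decide)
  · exfalso
    have h0 : omV (fun _ => (1, 0) : V4) = fun _ => (1, 0) := g.injective ((hc' _).trans (scl_one _))
    exact absurd (congrFun h0 0) (by decide)
  · exact Or.inl fun v => (hc' v).trans (omV_eq _).symm
  · exact Or.inr fun v => (hc' v).trans (scl_ww _)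

/-! ### Facts about the Sylow subgroup fixing the vector -/

theorem syl_center_ok : sylCols.all (fun a => a == idCols ||
    a == (idCols.map fun n => code (tvFun v0 (dec n))) ||
    sylCols.any fun b => mulCols a b != mulCols b a) = true := by decide +kernel

/-- The centre of the Sylow subgroup. -/
theorem TS_center {g : V4 ≃ₗ[ZMod 2] V4} (hg : g ∈ TS) (hc : ∀ t ∈ TS, g * t = t * g) : g = 1 ∨ g = tv v0 := by
  have h := List.all_eq_true.1 syl_center_ok _ (mem_TS.1 hg)
  simp only [Bool.or_eq_true, beq_iff_eq, List.any_eq_true, bne_iff_ne] at h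
  rcases h with (e | e) | ⟨b, hb, hne⟩
  · exact Or.inl (cols_injective (e.trans cols_one.symm))
  · exact Or.inr (cols_injective (e.trans cols_tv0.symm))
  · obtain ⟨w, -, -, hw⟩ := syl_word hb
    refine absurd ?_ hne
    rw [← hw, ← cols_mul, ← cols_mul, hc _ (show wordE w ∈ TS by rw [mem_TS, hw]; exact hb)]

/-- The elements moving the orthogonal of the vector into its multiples. -/
def inRad (a : List ℕ) : Bool := perpCodes.all fun n => lineN 5 (apN a n ^^^ n)

theorem rad_commuting : sylCols.all (fun a => a == idCols ||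
    a == (idCols.map fun n => code (tvFun v0 (dec n))) || !inRad a || mulCols a a != idCols ||
    decide ((sylCols.filter fun b => inRad b && (mulCols b b == idCols) &&
      (mulCols a b == mulCols b a)).length < 16)) = true := by decide +kernel

theorem inRad_cols {g : V4 ≃ₗ[ZMod 2] V4} (h : ∀ x, hm x v0 = 0 → ∃ c, g x + x = scl c v0) :
    inRad (cols g) = true := by
  refine List.all_eq_true.2 fun n hn => ?_
  obtain ⟨hn', hp⟩ := List.mem_filter.1 hn
  have hnc : code (dec n) = n := codes_ok n (List.mem_range.1 hn')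
  have hp' : hm (dec n) v0 = 0 := cd_inj (by rw [cd_hm, hnc, code_v0, cd_zero]; exact beq_iff_eq.1 hp)
  obtain ⟨c, hc⟩ := h (dec n) hp'
  have h' := (lineN_iff v0 (g (dec n) + dec n)).2 ⟨c, hc⟩
  rwa [code_v0, code_add, code_apply, hnc] at h'

/-- An elementary abelian subgroup moving the orthogonal of the vector into its multiples has order below 16. -/
theorem rad_elementary {P : Subgroup (V4 ≃ₗ[ZMod 2] V4)} (hP : P ≤ TS) (hc : ∀ a ∈ P, ∀ b ∈ P, a * b = b * a)
    (hsq : ∀ a ∈ P, a * a = 1) (hrad : ∀ a ∈ P, ∀ x, hm x v0 = 0 → ∃ c, a x + x = scl c v0) :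
    Nat.card P < 16 := by
  classical
  haveI := finite_sub P
  have himg : Nat.card P = (cols '' (P : Set (V4 ≃ₗ[ZMod 2] V4))).ncard := by
    rw [Set.ncard_image_of_injective _ cols_injective, ← Nat.card_coe_set_eq]
    rfl
  by_cases hcase : ∀ a ∈ P, a = 1 ∨ a = tv v0
  · rw [himg]
    refine lt_of_le_of_lt (Set.ncard_le_ncard (t := {cols 1, cols (tv v0)}) ?_ (Set.toFinite _)) ?_
    · rintro _ ⟨a, ha, rfl⟩
      rcases hcase a ha with rfl | rfl
      · exact Or.inl rfl
      · exact Or.inr rfl
    · exact lt_of_le_of_lt (Set.ncard_insert_le _ _) (by rw [Set.ncard_singleton]; norm_num)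
  push Not at hcase
  obtain ⟨a, ha, ha1, hat⟩ := hcase
  have h := List.all_eq_true.1 rad_commuting _ (mem_TS.1 (hP ha))
  simp only [Bool.or_eq_true, beq_iff_eq, Bool.not_eq_true', bne_iff_ne, decide_eq_true_eq] at h
  rcases h with (((e | e) | e) | e) | e
  · exact absurd (cols_injective (e.trans cols_one.symm)) ha1
  · exact absurd (cols_injective (e.trans cols_tv0.symm)) hat
  · rw [inRad_cols (hrad a ha)] at e; exact absurd e (by decide)
  · exact absurd (by rw [← cols_mul, hsq a ha, cols_one]) e
  · rw [himg]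
    refine lt_of_le_of_lt ((Set.ncard_le_ncard (t := ↑(sylCols.filter fun b => inRad b && (mulCols b b == idCols) &&
      (mulCols (cols a) b == mulCols b (cols a))).toFinset) ?_ (Finset.finite_toSet _)).trans ?_) e
    · rintro _ ⟨b, hb, rfl⟩
      rw [Finset.mem_coe, List.mem_toFinset, List.mem_filter]
      refine ⟨mem_TS.1 (hP hb), ?_⟩
      rw [inRad_cols (hrad b hb), ← cols_mul, ← cols_mul, ← cols_mul, hsq b hb, hc a ha b hb, cols_one]
      simp
    · rw [Set.ncard_coe_finset]; exact List.toFinset_card_le _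

/-- Two words moving every singular vector orthogonal to the vector. -/
def spreadWords : List (List ℕ) :=
  [stabWords.getD 2 [] ++ stabWords.getD 0 [],
    stabWords.getD 2 [] ++ (stabWords.getD 2 [] ++ (stabWords.getD 1 [] ++ stabWords.getD 0 []))]

theorem spread_valid : spreadWords.all (fun w => validW w && (apN (wordCols w) 5 == 5)) = true := by decide +kernel

theorem spread_ok : (List.range 256).all (fun n => qN n || (hN n 5).testBit 1 || lineN 5 n ||
    spreadWords.any fun w => (hN (apN (wordCols w) n) n).testBit 1 ||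
      ((hN n 5 == 0) && !(lineN 5 (apN (wordCols w) n ^^^ n)))) = true := by decide +kernel

/-- A totally singular subgroup through the line of `v0`, invariant under its stabiliser, is that line, or it
has at least 16 elements and is orthogonal to the vector for the hermitian form. -/
theorem spread (W : AddSubgroup V4) (hW : ∀ w ∈ W, q4 w = 0) (hperp : ∀ w ∈ W, bs4 w v0 = 0)
    (hline : ∀ c, scl c v0 ∈ W) (hinv : ∀ g ∈ TG, g v0 = v0 → ∀ w ∈ W, g w ∈ W) :
    (∀ y ∈ W, ∃ c, y = scl c v0) ∨ (16 ≤ Nat.card W ∧ ∀ y ∈ W, hm y v0 = 0) := by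
  classical
  have htest : ∀ y ∈ W, (¬ ∃ c, y = scl c v0) →
      hm y v0 = 0 ∧ ∃ g ∈ TG, g v0 = v0 ∧ ¬ ∃ c, g y + y = scl c v0 := by
    intro y hy hout
    have h := forall_of_codes spread_ok y
    have hq := (q4_eq_zero_iff y).1 (hW y hy)
    have hb : (hN (code y) 5).testBit 1 = false := by
      rw [← code_v0, ← cd_hm, (by decide : ∀ d : D4, (cd d).testBit 1 = (d.2 == 1)) _, ← bs4_eq, hperp y hy]
      rfl
    have hl : lineN 5 (code y) = false := Bool.eq_false_iff.2 fun e => hout ((lineN_iff v0 y).1 (by rw [code_v0]; exact e))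
    rw [hq, hb, hl, Bool.false_or, Bool.false_or, Bool.false_or, List.any_eq_true] at h
    obtain ⟨w, hw, h⟩ := h
    have hv := List.all_eq_true.1 spread_valid w hw
    rw [Bool.and_eq_true, beq_iff_eq] at hv
    have hfix : wordE w v0 = v0 := code_injective (by rw [code_wordE hv.1, code_v0, hv.2])
    rw [← code_wordE hv.1, Bool.or_eq_true] at h
    rcases h with h | h
    · exfalso
      rw [← cd_hm, (by decide : ∀ d : D4, (cd d).testBit 1 = (d.2 == 1)) _, ← bs4_eq, beq_iff_eq] at h
      have hmem := hinv _ (wordE_mem hv.1) hfix y hy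
      rw [bs4, hW _ (add_mem hmem hy), hW _ hmem, hW _ hy] at h
      exact absurd h (by decide)
    · rw [Bool.and_eq_true, beq_iff_eq, Bool.not_eq_true', ← code_add] at h
      refine ⟨cd_inj (by rw [cd_hm, code_v0, cd_zero]; exact h.1), _, wordE_mem hv.1, hfix, fun e => ?_⟩
      have h' := (lineN_iff v0 (wordE w y + y)).2 e
      rw [code_v0, h.2] at h'
      exact absurd h' (by decide)
  by_cases hall : ∀ y ∈ W, ∃ c, y = scl c v0
  · exact Or.inl hall
  push Not at hall
  obtain ⟨y, hy, hyout⟩ := hall
  have hyout' : ¬ ∃ c, y = scl c v0 := fun ⟨c, hc⟩ => hyout c hc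
  obtain ⟨-, g, hg, hgv, hd⟩ := htest y hy hyout'
  refine Or.inr ⟨?_, fun x hx => ?_⟩
  · have hgy : ¬ ∃ c, g y = scl c v0 := fun ⟨c, hc⟩ => by
      refine hyout c (g.injective ?_)
      rw [hc, IsIso.scl (TG_le hg), hgv]
    let emb : D4 × ZMod 2 × ZMod 2 → W := fun p =>
      ⟨scl p.1 v0 + (p.2.1 • y + p.2.2 • g y),
        add_mem (hline _) (add_mem (AddSubgroup.toZModSubmodule 2 W |>.smul_mem _ hy)
          (AddSubgroup.toZModSubmodule 2 W |>.smul_mem _ (hinv g hg hgv y hy)))⟩
    have hker : ∀ p : D4 × ZMod 2 × ZMod 2, scl p.1 v0 + (p.2.1 • y + p.2.2 • g y) = 0 → p = 0 := by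
      rintro ⟨c, a, b⟩ e
      have e' : a • y + b • g y = scl c v0 := by
        have := congrArg (fun u => scl c v0 + u) e
        simp only [← add_assoc, add_self_V4, zero_add, add_zero] at this
        exact this
      rcases (by decide : ∀ c : ZMod 2, c = 0 ∨ c = 1) a with rfl | rfl <;>
        rcases (by decide : ∀ c : ZMod 2, c = 0 ∨ c = 1) b with rfl | rfl
      · simp only [zero_smul, add_zero] at e'
        rw [scl_eq_zero (show v0 ≠ 0 by decide) e'.symm]; rfl
      · simp only [zero_smul, one_smul, zero_add] at e'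
        exact absurd ⟨c, e'⟩ hgy
      · simp only [zero_smul, one_smul, add_zero] at e'
        exact absurd ⟨c, e'⟩ hyout'
      · simp only [one_smul] at e'
        exact absurd ⟨c, by rw [add_comm]; exact e'⟩ hd
    have hinj : Function.Injective emb := fun p p' e => by
      have e' : scl p.1 v0 + (p.2.1 • y + p.2.2 • g y) = scl p'.1 v0 + (p'.2.1 • y + p'.2.2 • g y) :=
        congrArg Subtype.val e
      have h0 := hker (p + p') (by
        simp only [Prod.fst_add, Prod.snd_add, add_scl, add_smul]
        rw [show scl p.1 v0 + scl p'.1 v0 + (p.2.1 • y + p'.2.1 • y + (p.2.2 • g y + p'.2.2 • g y)) =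
          (scl p.1 v0 + (p.2.1 • y + p.2.2 • g y)) + (scl p'.1 v0 + (p'.2.1 • y + p'.2.2 • g y)) by abel,
          e', add_self_V4])
      rwa [← ZModModule.sub_eq_add, sub_eq_zero] at h0
    haveI : Finite W := Finite.of_injective _ Subtype.val_injective
    have := Nat.card_le_card_of_injective emb hinj
    simpa [Nat.card_prod, Nat.card_zmod] using this
  · by_cases hxl : ∃ c, x = scl c v0
    · obtain ⟨c, rfl⟩ := hxl
      rw [hm_scl_left, v0_hm, (by decide : ∀ a : D4, fm a 0 = 0)]
    · exact (htest x hx hxl).1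

end CfsgLib.Recognition.USixTwoOuter
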