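import Cfsg.Agent.Lib.Characterizations.CoType.Setup
import Cfsg.Agent.Lib.Recognition.USixTwo.Unitary
import Cfsg.Agent.Lib.Recognition.USixTwoOuter.Semilinear

/-!
# An involution with centraliser `2¹⁺⁸·(U₄(2):2)`: coordinates

The centraliser acts on `J/⟨z⟩` by semilinear isometries; a subgroup meeting it in the linear part inherits
the configuration of `Core`.
-/

set_option autoImplicit false
set_option linter.unusedSectionVars false
set_option linter.style.haveILetI false

namespace CfsgLib.Recognition.USixTwoOuter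

open CfsgLib.Recognition.USixTwo
open CfsgLib.ThreeTransp.Extraspecial (Extra)

/-- A group of semilinear isometries of order `51840` with linear part of order `25920`. -/
structure Model42 (R : Subgroup (V4 ≃ₗ[ZMod 2] V4)) : Prop where
  semi : ∀ g ∈ R, (∀ v, g (omV v) = omV (g v)) ∨ Anti g
  quad : ∀ g ∈ R, ∀ v, q4 (g v) = q4 v
  card : Nat.card R = 51840
  card_lin : Nat.card ↥(R ⊓ isoGroup) = 25920

/-- The configuration: `J` is extraspecial of order `2⁹` with coordinates `π`, and the centraliser of `z` acts on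
them as the semilinear unitary group. -/
structure Outer {X : Type*} [Group X] [Finite X] (z : X) (J : Subgroup X) (π : X → V4)
    (ψ : ↥(Subgroup.centralizer ({z} : Set X)) →* (V4 ≃ₗ[ZMod 2] V4)) : Prop where
  ord_z : orderOf z = 2
  extra : Extra J z
  card_J : Nat.card J = 512
  norm : ∀ c, c * z = z * c → ∀ a ∈ J, c * a * c⁻¹ ∈ J
  cent_le : ∀ c, (∀ a ∈ J, c * a = a * c) → c ∈ J
  π_mul : ∀ a ∈ J, ∀ b ∈ J, π (a * b) = π a + π b
  π_surj : ∀ v, ∃ a ∈ J, π a = v
  π_ker : ∀ a ∈ J, π a = 0 ↔ a = 1 ∨ a = z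
  q_iff : ∀ a ∈ J, q4 (π a) = 0 ↔ a * a = 1
  act : ∀ c : ↥(Subgroup.centralizer ({z} : Set X)), ∀ a ∈ J, π (c * a * (c : X)⁻¹) = ψ c (π a)
  ker : ∀ c : ↥(Subgroup.centralizer ({z} : Set X)), ψ c = 1 ↔ (c : X) ∈ J
  model : Model42 ψ.range

theorem omV_exists : ∃ w : V4 ≃ₗ[ZMod 2] V4, ∀ v, w v = omV v :=
  ⟨{ toFun := omV
     invFun := fun v => omV (omV v)
     map_add' := fun u v => by rw [omV_eq, omV_eq, omV_eq, scl_add]
     map_smul' := fun r v => by
       rcases (by decide : ∀ c : ZMod 2, c = 0 ∨ c = 1) r with rfl | rfl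
       · simp only [zero_smul, RingHom.id_apply]; rw [omV_eq, scl_zero_vec]
       · simp only [one_smul, RingHom.id_apply]
     left_inv := omV_cube
     right_inv := omV_cube }, fun _ => rfl⟩

/-- An extension of degree two of the linear group with trivial centraliser is semilinear. -/
theorem model42_of_ext {R L : Subgroup (V4 ≃ₗ[ZMod 2] V4)} (hLR : L ≤ R) (hL : Model4 L)
    (hn : ∀ g ∈ R, ∀ t ∈ L, g * t * g⁻¹ ∈ L) (hq : ∀ g ∈ R, ∀ v, q4 (g v) = q4 v) (hcard : Nat.card R = 51840)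
    (hc : ∀ g ∈ R, (∀ t ∈ L, g * t = t * g) → g = 1) : Model42 R := by
  haveI := finite_GL
  have hLT := model_eq hL
  have hsemi : ∀ g ∈ R, (∀ v, g (omV v) = omV (g v)) ∨ Anti g := fun g hg => by
    refine lin_or_anti fun t ht => ?_
    have := hn g⁻¹ (inv_mem hg) t (hLT.symm ▸ ht)
    rw [inv_inv] at this
    exact hLT ▸ this
  have hle : L ≤ R ⊓ isoGroup := le_inf hLR hL.le
  have hnot : ¬ R ≤ isoGroup := fun hRi => by
    obtain ⟨w, hw⟩ := omV_exists
    have hwi : w ∈ isoGroup := ⟨fun v => by rw [hw, hw], fun v => by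
      rw [hw]
      have key : ∀ d : CfsgLib.Sporadic.LargeFischer.D4, CfsgLib.Sporadic.LargeFischer.nzd
        (CfsgLib.Sporadic.LargeFischer.om d) = CfsgLib.Sporadic.LargeFischer.nzd d := by decide
      simp only [q4, omV, key]⟩
    obtain ⟨k, hk⟩ : 51840 ∣ Nat.card isoGroup := hcard ▸ Subgroup.card_dvd_of_le hRi
    have hk0 : 0 < Nat.card isoGroup := Nat.card_pos
    have := isoGroup_card
    have hiso : R = isoGroup := Subgroup.eq_of_le_of_card_ge hRi (by
      rw [hcard]
      rcases k with _ | _ | k <;> omega)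
    have h1 := hc w (hiso ▸ hwi) fun t ht => LinearEquiv.ext fun v => by
      show w (t v) = t (w v)
      rw [hw, hw, (hL.le ht).lin]
    have h2 := congrArg (fun f : V4 ≃ₗ[ZMod 2] V4 => f (fun _ => (1, 0)) 0) h1
    simp only [hw] at h2
    exact absurd h2 (by decide)
  refine ⟨hsemi, hq, hcard, ?_⟩
  have h1 := Subgroup.card_dvd_of_le hle
  rw [hL.card] at h1
  have h2 := Subgroup.card_dvd_of_le (inf_le_left : R ⊓ isoGroup ≤ R)
  rw [hcard] at h2
  have h3 : Nat.card ↥(R ⊓ isoGroup) ≠ 51840 := fun e => hnot (by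
    rw [← inf_eq_left]
    exact Subgroup.eq_of_le_of_card_ge inf_le_left (by rw [e, hcard]))
  obtain ⟨a, ha⟩ := h1
  rw [ha] at h2 h3 ⊢
  have : a ∣ 2 := Nat.dvd_of_mul_dvd_mul_left (k := 25920) (by norm_num) h2
  rcases (Nat.dvd_prime Nat.prime_two).1 this with rfl | rfl
  · rfl
  · exact absurd rfl h3

variable {X : Type*} [Group X] [Finite X]

/-- Half of an extraspecial group centralises an element outside the centre. -/
theorem extra_card_half {J : Subgroup X} {z : X} (h : Extra J z) (hJ : Nat.card J = 512) {s : X} (hs : s ∈ J)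
    (h1 : s ≠ 1) (hne : s ≠ z) : Nat.card ↥(J ⊓ Subgroup.centralizer ({s} : Set X)) = 256 := by
  set D := J ⊓ Subgroup.centralizer ({s} : Set X) with hD
  have hmem : ∀ b : ↥J, b ∈ D.subgroupOf J ↔ (b : X) * s * (b : X)⁻¹ = s := fun b => by
    rw [Subgroup.mem_subgroupOf, hD, Subgroup.mem_inf, Subgroup.mem_centralizer_singleton_iff, mul_inv_eq_iff_eq_mul]
    exact ⟨fun e => e.2, fun e => ⟨b.2, e⟩⟩
  obtain ⟨q, hq, hqe⟩ := h.exists_conj_eq hs h1 hne
  have hidx : (D.subgroupOf J).index = 2 := Subgroup.index_eq_two_iff.2 ⟨⟨q, hq⟩, fun b => by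
    rw [hmem, hmem]
    have e : ((b * ⟨q, hq⟩ : ↥J) : X) * s * ((b * ⟨q, hq⟩ : ↥J) : X)⁻¹ = (b : X) * s * (b : X)⁻¹ * z := by
      show (b : X) * q * s * ((b : X) * q)⁻¹ = _
      calc (b : X) * q * s * ((b : X) * q)⁻¹ = b * (q * s * q⁻¹) * (b : X)⁻¹ := by group
        _ = b * s * (z * (b : X)⁻¹) := by rw [hqe]; group
        _ = _ := by rw [h.z_comm (inv_mem b.2)]; group
    rw [e]
    rcases h.conj_cases hs b.2 with c | c <;> rw [c]
    · exact Or.inr ⟨rfl, fun e1 => h.z_ne (mul_eq_left.1 e1)⟩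
    · exact Or.inl ⟨by rw [mul_assoc, h.z_sq, mul_one], fun e1 => h.z_ne (mul_eq_left.1 e1)⟩⟩
  have := (D.subgroupOf J).card_mul_index
  rw [hidx, Nat.card_congr (Subgroup.subgroupOfEquivOfLe (inf_le_left : D ≤ J)).toEquiv, hJ] at this
  change Nat.card ↥D * 2 = 512 at this
  omega

/-- An abelian subgroup of an extraspecial group of order `2⁹` has order at most `32`. -/
theorem extra_abelian_le {J : Subgroup X} {z : X} (h : Extra J z) (hJ : Nat.card J = 512) {K : Subgroup X}
    (hK : K ≤ J) (hab : ∀ a ∈ K, ∀ b ∈ K, a * b = b * a) : Nat.card K ≤ 32 := by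
  have hcentral : ∀ x y : ↥J, x⁻¹ * y * x * y⁻¹ ∈ Subgroup.center ↥J := fun x y => by
    rw [← h.ext.1.2.2, _root_.commutator_def]
    simpa [commutatorElement_def] using
      Subgroup.commutator_mem_commutator (Subgroup.mem_top x⁻¹) (Subgroup.mem_top y)
  have d := Cfsg.Agent.S2880.double_count (K.subgroupOf J) hcentral h.ext.2
  have hle : Nat.card (K.subgroupOf J) ≤ Nat.card (Subgroup.centralizer ((K.subgroupOf J) : Set ↥J)) := by
    refine Nat.card_le_card_of_injective _ (Subgroup.inclusion_injective (fun x hx => ?_))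
    exact Subgroup.mem_centralizer_iff.2 fun y hy => Subtype.ext (hab y hy x hx)
  have hZ : Nat.card ↥(K.subgroupOf J ⊓ Subgroup.center ↥J) ≤ 2 := by
    rw [← h.ext.2]
    exact Nat.card_le_card_of_injective _ (Subgroup.inclusion_injective inf_le_right)
  rw [Nat.card_congr (Subgroup.subgroupOfEquivOfLe hK).toEquiv] at hle d
  rw [hJ] at d
  nlinarith [d, hle, hZ]

namespace Outer

variable {z : X} {J : Subgroup X} {π : X → V4} {ψ : ↥(Subgroup.centralizer ({z} : Set X)) →* (V4 ≃ₗ[ZMod 2] V4)}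
  (h : Outer z J π ψ)
include h

theorem le_cent : J ≤ Subgroup.centralizer ({z} : Set X) := h.extra.le_centralizer

theorem mem_cent {a : X} (ha : a ∈ J) : a ∈ Subgroup.centralizer ({z} : Set X) := h.le_cent ha

theorem normalizer : Subgroup.centralizer ({z} : Set X) ≤ Subgroup.normalizer (J : Set X) := fun c hc =>
  Subgroup.mem_normalizer_fintype fun x hx => h.norm c (Subgroup.mem_centralizer_singleton_iff.1 hc) x hx

omit h in
/-- The elements of the centraliser acting linearly. -/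
def linK (ψ : ↥(Subgroup.centralizer ({z} : Set X)) →* (V4 ≃ₗ[ZMod 2] V4)) : Subgroup X :=
  (isoGroup.comap ψ).map (Subgroup.centralizer ({z} : Set X)).subtype

omit h in
theorem mem_linK (c : ↥(Subgroup.centralizer ({z} : Set X))) : (c : X) ∈ linK ψ ↔ ψ c ∈ isoGroup :=
  (Subgroup.mem_map_iff_mem (Subgroup.subtype_injective _)).trans Subgroup.mem_comap

theorem J_le_linK : J ≤ linK ψ := fun a ha => by
  rw [show a = ((⟨a, h.mem_cent ha⟩ : ↥(Subgroup.centralizer ({z} : Set X))) : X) from rfl, mem_linK,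
    (h.ker ⟨a, h.mem_cent ha⟩).2 ha]
  exact one_mem _

omit h in
/-- The centraliser inside a subgroup, as elements of the centraliser. -/
def inclCent (H : Subgroup X) (hz : z ∈ H) :
    ↥(Subgroup.centralizer ({(⟨z, hz⟩ : ↥H)} : Set ↥H)) →* ↥(Subgroup.centralizer ({z} : Set X)) where
  toFun c := ⟨((c : ↥H) : X), Subgroup.mem_centralizer_singleton_iff.2
    (congrArg Subtype.val (Subgroup.mem_centralizer_singleton_iff.1 c.2))⟩
  map_one' := rfl
  map_mul' _ _ := rfl

/-- A subgroup meeting the centraliser in the linear part inherits the configuration. -/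
theorem core_sub (H : Subgroup X) (hJH : J ≤ H)
    (hH : ∀ c : ↥(Subgroup.centralizer ({z} : Set X)), (c : X) ∈ H ↔ ψ c ∈ isoGroup) :
    Core (⟨z, hJH h.extra.z_mem⟩ : ↥H) (J.subgroupOf H) (fun a => π (a : X))
      (ψ.comp (inclCent H (hJH h.extra.z_mem))) where
  ord_z := by rw [← h.ord_z, ← Subgroup.orderOf_coe]
  extra := by
    obtain ⟨z', hz'⟩ := CfsgLib.ThreeTransp.Extraspecial.exists_extra (Q := J.subgroupOf H)
      (CfsgLib.Characterizations.CoType.isExtraspecial_congr' (Subgroup.subgroupOfEquivOfLe hJH).symm h.extra.ext)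
    rcases hz'.mem_center_cases (x := ⟨z, hJH h.extra.z_mem⟩) h.extra.z_mem
      (fun q hq => Subtype.ext (h.extra.z_comm hq)) with e | e
    · exact absurd (congrArg Subtype.val e) h.extra.z_ne
    · exact e ▸ hz'
  card_J := by rw [Nat.card_congr (Subgroup.subgroupOfEquivOfLe hJH).toEquiv, h.card_J]
  norm c hc a ha := h.norm (c : X) (congrArg Subtype.val hc) (a : X) ha
  cent_le c hc := h.cent_le (c : X) fun a ha => congrArg Subtype.val (hc ⟨a, hJH ha⟩ ha)
  π_mul a ha b hb := h.π_mul (a : X) ha (b : X) hb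
  π_surj v := by
    obtain ⟨a, ha, e⟩ := h.π_surj v
    exact ⟨⟨a, hJH ha⟩, ha, e⟩
  π_ker a ha := (h.π_ker (a : X) ha).trans (or_congr ⟨fun e => Subtype.ext e, fun e => congrArg Subtype.val e⟩
    ⟨fun e => Subtype.ext e, fun e => congrArg Subtype.val e⟩)
  q_iff a ha := (h.q_iff (a : X) ha).trans ⟨fun e => Subtype.ext e, fun e => congrArg Subtype.val e⟩
  act c a ha := h.act (inclCent H (hJH h.extra.z_mem) c) (a : X) ha
  ker c := h.ker (inclCent H (hJH h.extra.z_mem) c)
  model := by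
    have e : (ψ.comp (inclCent H (hJH h.extra.z_mem))).range = ψ.range ⊓ isoGroup := by
      ext g
      constructor
      · rintro ⟨c, rfl⟩
        exact ⟨⟨_, rfl⟩, (hH (inclCent H (hJH h.extra.z_mem) c)).1 (c : ↥H).2⟩
      · rintro ⟨⟨c, rfl⟩, hc⟩
        exact ⟨⟨⟨(c : X), (hH c).2 hc⟩, Subgroup.mem_centralizer_singleton_iff.2
          (Subtype.ext (Subgroup.mem_centralizer_singleton_iff.1 c.2))⟩, rfl⟩
    rw [e]
    exact ⟨inf_le_right, h.model.card_lin⟩

theorem model_lin : Model4 (ψ.range ⊓ isoGroup) := ⟨inf_le_right, h.model.card_lin⟩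

theorem cent_z {a : X} (ha : a ∈ J) : a * z = z * a := (h.extra.z_comm ha).symm

theorem π_one : π 1 = 0 := (h.π_ker 1 (one_mem _)).2 (Or.inl rfl)

theorem π_z : π z = 0 := (h.π_ker z h.extra.z_mem).2 (Or.inr rfl)

theorem π_inv {a : X} (ha : a ∈ J) : π a⁻¹ = π a := by
  have := h.π_mul a ha a⁻¹ (inv_mem ha)
  rw [mul_inv_cancel, h.π_one] at this
  calc π a⁻¹ = π a + π a + π a⁻¹ := by rw [add_self_V4, zero_add]
    _ = π a := by rw [add_assoc, ← this, add_zero]

theorem π_eq_iff {a b : X} (ha : a ∈ J) (hb : b ∈ J) : π a = π b ↔ b = a ∨ b = a * z := by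
  have hc := (h.core_sub (linK ψ) h.J_le_linK mem_linK).π_eq_iff (a := ⟨a, h.J_le_linK ha⟩)
    (b := ⟨b, h.J_le_linK hb⟩) ha hb
  exact hc.trans (or_congr ⟨fun e => congrArg Subtype.val e, fun e => Subtype.ext e⟩
    ⟨fun e => congrArg Subtype.val e, fun e => Subtype.ext e⟩)

/-- Two elements commute exactly when their images are orthogonal. -/
theorem comm_iff {a b : X} (ha : a ∈ J) (hb : b ∈ J) : a * b = b * a ↔ bs4 (π a) (π b) = 0 :=
  (⟨fun e => Subtype.ext e, fun e => congrArg Subtype.val e⟩ : _ ↔ _).trans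
    ((h.core_sub (linK ψ) h.J_le_linK mem_linK).comm_iff (a := ⟨a, h.J_le_linK ha⟩) (b := ⟨b, h.J_le_linK hb⟩) ha hb)

end Outer

end CfsgLib.Recognition.USixTwoOuter
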