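import Cfsg.Agent.Lib.Recognition.USixTwoOuter.Assemble
import Cfsg.Agent.Lib.Recognition.USixTwoOuter.Outer

/-!
# Natural coordinates on a centraliser with a subgroup of index two over the group of forty points
-/

set_option autoImplicit false
set_option linter.unusedSectionVars false
set_option linter.style.haveILetI false

namespace CfsgLib.Recognition.USixTwoOuter

open CfsgLib.ThreeTransp
open CfsgLib.Recognition.USixTwo (V4 Model4 q4)

variable {G : Type*} [Group G] [Finite G] {z : G} {J K : Subgroup G} {φ : ↥K →* P40}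

theorem card_eq_of_hyp (h : Hyp z J K φ) : Nat.card ↥K = 512 * 25920 := by
  have h1 := φ.ker.card_mul_index
  have e : φ.ker = J.subgroupOf K := Subgroup.ext fun k => by
    rw [MonoidHom.mem_ker, h.ker k, Subgroup.mem_subgroupOf]
  rw [Subgroup.index_ker, h.range, card_K40, e, Nat.card_congr (Subgroup.subgroupOfEquivOfLe h.J_le).toEquiv,
    h.card_J] at h1
  exact h1.symm

/-- In the natural case with `|C(z) : K| = 2`, `C(z)` gives the semilinear configuration. -/
theorem exists_outer (h : Hyp z J K φ) (f : ExtraspecialOut.Frame ↥J 8)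
    (e : V ≃ₗ[ZMod 2] V4) (heq : ∀ v, q4 (e v) = ExtraspecialOut.Q f v)
    (hiso : ∀ k : ↥K, CfsgLib.Recognition.USixTwo.IsIso ((e.symm.trans (lin f h K h.K_le k)).trans e))
    (hn : ∀ c : G, c * z = z * c → ∀ k ∈ K, c * k * c⁻¹ ∈ K)
    (hidx : Nat.card ↥(Subgroup.centralizer ({z} : Set G)) = 2 * Nat.card ↥K)
    (hcent : ∀ c : G, c * z = z * c → (∀ k ∈ K, c * k * c⁻¹ * k⁻¹ ∈ J) → c ∈ J) :
    ∃ π ψ, Outer z J π ψ := by
  classical
  set C := Subgroup.centralizer ({z} : Set G) with hC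
  have hcz : ∀ c ∈ C, c * z = z * c := fun c hc => Subgroup.mem_centralizer_singleton_iff.1 hc
  let π : G → V4 := fun a => if ha : a ∈ J then e (f.π ⟨a, ha⟩) else 0
  let ψ : ↥C →* (V4 ≃ₗ[ZMod 2] V4) :=
    { toFun := fun c => (e.symm.trans (lin f h C hcz c)).trans e
      map_one' := LinearEquiv.ext fun v => by
        show e (lin f h C hcz 1 (e.symm v)) = v
        rw [map_one]
        exact e.apply_symm_apply v
      map_mul' := fun a b => LinearEquiv.ext fun v => by
        show e (lin f h C hcz (a * b) (e.symm v)) =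
          e (lin f h C hcz a (e.symm (e (lin f h C hcz b (e.symm v)))))
        rw [e.symm_apply_apply, map_mul]
        rfl }
  have hπ : ∀ a (ha : a ∈ J), π a = e (f.π ⟨a, ha⟩) := fun a ha => dif_pos ha
  have hker : ∀ c, ψ c = 1 ↔ (c : G) ∈ J := fun c => by
    rw [← lin_eq_one h f C hcz c]
    constructor
    · intro hc
      refine LinearEquiv.ext fun v => e.injective ?_
      have : e (lin f h C hcz c (e.symm (e v))) = e v := LinearEquiv.congr_fun hc (e v)
      rwa [e.symm_apply_apply] at this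
    · intro hc
      refine LinearEquiv.ext fun v => ?_
      show e (lin f h C hcz c (e.symm v)) = v
      rw [hc]
      exact e.apply_symm_apply v
  have hzz : ∀ a : ↥J, a = f.z ↔ (a : G) = z := fun a => by
    have hfz : (f.z : G) = z := by
      rcases h.extra.mem_center_cases f.z.2 (fun q hq => congrArg Subtype.val (f.z_comm ⟨q, hq⟩)) with e' | e'
      · exact absurd (Subtype.ext e') f.z_ne
      · exact e'
    exact ⟨fun e' => by rw [e', hfz], fun e' => Subtype.ext (e'.trans hfz.symm)⟩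
  have hKC : K ≤ C := fun k hk => Subgroup.mem_centralizer_singleton_iff.2 (h.K_le k hk)
  have hJC : J ≤ C := h.J_le.trans hKC
  set L := (K.subgroupOf C).map ψ with hL
  have hcardK := card_eq_of_hyp h
  have hkerJ : ψ.ker = J.subgroupOf C := Subgroup.ext fun c => by
    rw [MonoidHom.mem_ker, hker c, Subgroup.mem_subgroupOf]
  have hLiso : Model4 L := by
    refine ⟨?_, ?_⟩
    · rintro _ ⟨c, hc, rfl⟩
      refine cast (congrArg CfsgLib.Recognition.USixTwo.IsIso ?_) (hiso ⟨c, hc⟩)
      rfl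
    · set g := ψ.comp (K.subgroupOf C).subtype with hg
      have h1 := g.ker.card_mul_index
      have hr : g.range = L := by
        rw [hg, MonoidHom.range_comp, Subgroup.range_subtype]
      have hk : Nat.card g.ker = 512 := by
        rw [← h.card_J]
        refine Nat.card_congr ⟨fun x => ⟨((x.1.1 : ↥C) : G), (hker _).1 x.2⟩,
          fun a => ⟨⟨⟨a.1, hJC a.2⟩, h.J_le a.2⟩, (hker _).2 a.2⟩, fun x => rfl, fun a => rfl⟩
      rw [Subgroup.index_ker, hr, hk, Nat.card_congr (Subgroup.subgroupOfEquivOfLe hKC).toEquiv, hcardK] at h1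
      omega
  have hcard : Nat.card ψ.range = 51840 := by
    have h1 := ψ.ker.card_mul_index
    rw [Subgroup.index_ker, hkerJ, Nat.card_congr (Subgroup.subgroupOfEquivOfLe hJC).toEquiv, h.card_J, hidx,
      hcardK] at h1
    omega
  refine ⟨π, ψ, ⟨h.ord, h.extra, h.card_J, h.normJ, h.cent, ?_, ?_, ?_, ?_, ?_, hker, ?_⟩⟩
  · intro a ha b hb
    rw [hπ _ (mul_mem ha hb), hπ _ ha, hπ _ hb, ← map_add, ← f.π_mul]
    rfl
  · intro v
    obtain ⟨a, ha⟩ := f.π_surj (e.symm v)
    exact ⟨a, a.2, by rw [hπ _ a.2, Subtype.coe_eta, ha, e.apply_symm_apply]⟩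
  · intro a ha
    rw [hπ _ ha, LinearEquiv.map_eq_zero_iff, f.π_ker, hzz]
    exact ⟨Or.imp_left fun e' => congrArg Subtype.val e', Or.imp_left fun e' => Subtype.ext e'⟩
  · intro a ha
    rw [hπ _ ha, heq, ExtraspecialOut.Q_apply, ExtraspecialOut.qf_π, ExtraspecialOut.ε]
    split_ifs with h1
    · exact ⟨fun _ => congrArg Subtype.val h1, fun _ => rfl⟩
    · exact ⟨fun e' => absurd e' one_ne_zero, fun e' => absurd (Subtype.ext e') h1⟩
  · intro c a ha
    rw [hπ _ ha, hπ _ (h.normJ c (hcz c c.2) a ha)]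
    show _ = e (lin f h C hcz c (e.symm (e (f.π ⟨a, ha⟩))))
    rw [e.symm_apply_apply, lin_apply h f]
    rfl
  · refine model42_of_ext (Subgroup.map_le_range ψ _) hLiso ?_ ?_ hcard ?_
    · rintro _ ⟨c, rfl⟩ _ ⟨k, hk, rfl⟩
      exact ⟨c * k * c⁻¹, hn c (hcz c c.2) k hk, by rw [map_mul, map_mul, map_inv]⟩
    · rintro _ ⟨c, rfl⟩ v
      show q4 (e (lin f h C hcz c (e.symm v))) = q4 v
      rw [heq, lin_q h f C hcz c (e.symm v), ← heq, e.apply_symm_apply]
    · rintro _ ⟨c, rfl⟩ hc
      refine (hker c).2 (hcent c (hcz c c.2) fun k hk => ?_)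
      have h1 := hc (ψ ⟨k, hKC hk⟩) ⟨⟨k, hKC hk⟩, hk, rfl⟩
      exact (hker (c * ⟨k, hKC hk⟩ * c⁻¹ * ⟨k, hKC hk⟩⁻¹)).1 (by
        rw [map_mul, map_mul, map_mul, map_inv, map_inv, h1]; group)

end CfsgLib.Recognition.USixTwoOuter
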