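import Cfsg.Agent.Lib.Recognition.USixTwoOuter.Assemble
import Cfsg.Agent.Lib.Recognition.USixTwoOuter.OuterCoords
import Cfsg.Agent.Lib.KnownC.AutPSp.Outer

/-!
When `C(z)/O₂(C(z)) ≅ Aut(PSp₄(3))`, the inner automorphisms give the subgroup of index two.
-/

set_option autoImplicit false
set_option maxRecDepth 100000
set_option linter.unusedSectionVars false
set_option linter.style.haveILetI false

namespace CfsgLib.Recognition.USixTwoOuter

variable {G : Type*} [Group G] [Finite G]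

theorem card_aut_psp_three {F : Type*} [Field F] [Fintype F] (hF : Fintype.card F = 3) :
    Nat.card (Cfsg.PSp 2 F) = 25920 ∧ Nat.card (MulAut (Cfsg.PSp 2 F)) = 51840 := by
  haveI : Fact (Nat.Prime 3) := ⟨by norm_num⟩
  obtain ⟨j⟩ := exists_iso40 hF
  have h1 : Nat.card (Cfsg.PSp 2 F) = 25920 := by rw [Nat.card_congr j.toEquiv, card_K40]
  refine ⟨h1, ?_⟩
  rw [CfsgLib.KnownC.AutPSp.card_aut_semi (p := 3) (f := 1) (by rw [hF]; norm_num) le_rfl (fun _ h2 => ?_), h1]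
  · norm_num
  · haveI : CharP F 3 := charP_of_card_eq_prime hF
    have : ((2 : ℕ) : F) = 0 := by exact_mod_cast h2
    rw [CharP.cast_eq_zero_iff F 3] at this
    norm_num at this

/-- The setting, with the preimage of the inner automorphisms as the subgroup of index two. -/
theorem hyp_of_aut (z : G) (hz : orderOf z = 2)
    (hJ : Cfsg.IsExtraspecial 2 ↥(Cfsg.pCore 2 ↥(Subgroup.centralizer ({z} : Set G))))
    (hJc : Nat.card ↥(Cfsg.pCore 2 ↥(Subgroup.centralizer ({z} : Set G))) = 2 ^ 9)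
    (hCJ : Subgroup.centralizer ((Cfsg.pCore 2 ↥(Subgroup.centralizer ({z} : Set G))) : Set ↥(Subgroup.centralizer ({z} : Set G))) ≤ Cfsg.pCore 2 ↥(Subgroup.centralizer ({z} : Set G)))
    [(Cfsg.pCore 2 ↥(Subgroup.centralizer ({z} : Set G))).Normal]
    {F : Type*} [Field F] [Fintype F] (hF : Fintype.card F = 3)
    (e : (↥(Subgroup.centralizer ({z} : Set G)) ⧸ Cfsg.pCore 2 ↥(Subgroup.centralizer ({z} : Set G))) ≃* MulAut (Cfsg.PSp 2 F)) :
    ∃ (K : Subgroup G) (φ : ↥K →* P40), Hyp z (coreTwo z) K φ ∧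
      (∀ c : G, c * z = z * c → ∀ k ∈ K, c * k * c⁻¹ ∈ K) ∧
      Nat.card ↥(Subgroup.centralizer ({z} : Set G)) = 2 * Nat.card ↥K ∧
      ∀ c : G, c * z = z * c → (∀ k ∈ K, c * k * c⁻¹ * k⁻¹ ∈ coreTwo z) → c ∈ coreTwo z := by
  obtain ⟨hS, hA⟩ := card_aut_psp_three hF
  set C := Subgroup.centralizer ({z} : Set G) with hC
  set P := Cfsg.pCore 2 ↥C with hP
  obtain ⟨j⟩ := exists_iso40 hF
  let q : ↥C →* MulAut (Cfsg.PSp 2 F) := e.toMonoidHom.comp (QuotientGroup.mk' P)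
  have hq : Function.Surjective q := e.surjective.comp (QuotientGroup.mk'_surjective P)
  have hq1 : ∀ c : ↥C, q c = 1 ↔ c ∈ P := fun c => by
    show e (QuotientGroup.mk' P c) = 1 ↔ _
    rw [e.map_eq_one_iff, QuotientGroup.mk'_apply, QuotientGroup.eq_one_iff]
  have hcore : ∀ c : ↥C, (c : G) ∈ coreTwo z ↔ c ∈ P := fun c =>
    Subgroup.mem_map_iff_mem C.subtype_injective
  set K₀ := (Cfsg.Inn (Cfsg.PSp 2 F)).comap q with hK₀
  set K := K₀.map C.subtype with hKdef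
  have hKC : K ≤ C := Subgroup.map_subtype_le _
  have hKmem : ∀ c : ↥C, (c : G) ∈ K ↔ q c ∈ Cfsg.Inn (Cfsg.PSp 2 F) := fun c =>
    (Subgroup.mem_map_iff_mem C.subtype_injective).trans Subgroup.mem_comap
  let ρ : ↥K →* ↥(Cfsg.Inn (Cfsg.PSp 2 F)) :=
    (q.comp (Subgroup.inclusion hKC)).codRestrict _ fun k => (hKmem _).1 k.2
  let cj := MonoidHom.ofInjective (CfsgLib.KnownC.AutPSp.conj_injective_psp (F := F) (m := 2) (by norm_num))
  let φ : ↥K →* P40 := K40.subtype.comp ((cj.symm.trans j).toMonoidHom.comp ρ)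
  have hρ : Function.Surjective ρ := fun a => by
    obtain ⟨c, hc⟩ := hq a
    exact ⟨⟨c, (hKmem c).2 (hc ▸ a.2)⟩, Subtype.ext hc⟩
  have hr : φ.range = K40 := le_antisymm
    (by rintro _ ⟨k, rfl⟩; exact Subtype.coe_prop _)
    (fun p hp => by
      obtain ⟨k, hk⟩ := (cj.symm.trans j).surjective.comp hρ ⟨p, hp⟩
      exact ⟨k, congrArg Subtype.val hk⟩)
  have hker : ∀ k : ↥K, φ k = 1 ↔ (k : G) ∈ coreTwo z := fun k => by
    refine Iff.trans ?_ ((hq1 (Subgroup.inclusion hKC k)).trans (hcore _).symm)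
    show K40.subtype ((cj.symm.trans j) (ρ k)) = 1 ↔ _
    rw [← map_one K40.subtype, K40.subtype_injective.eq_iff, (cj.symm.trans j).map_eq_one_iff]
    exact ⟨fun h => congrArg Subtype.val h, fun h => Subtype.ext h⟩
  have hJK : coreTwo z ≤ K := fun a ha => by
    obtain ⟨hc, hm⟩ := coreTwo_mem ha
    refine (hKmem ⟨a, hc⟩).2 ?_
    rw [(hq1 _).2 hm]
    exact one_mem _
  have h := hyp_of_core z hz hJ hJc hCJ K hKC hJK φ hr hker
  refine ⟨K, φ, h, fun c hc k hk => ?_, ?_, fun c hc hk => ?_⟩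
  · set c' : ↥C := ⟨c, Subgroup.mem_centralizer_singleton_iff.2 hc⟩
    refine (hKmem (c' * ⟨k, hKC hk⟩ * c'⁻¹)).2 ?_
    rw [map_mul, map_mul, map_inv]
    exact (Cfsg.innNormal _).conj_mem _ ((hKmem ⟨k, hKC hk⟩).1 hk) _
  · have h1 := P.card_eq_card_quotient_mul_card_subgroup
    rw [Nat.card_congr e.toEquiv, hA, hJc] at h1
    rw [card_eq_of_hyp h]
    exact h1.trans (by norm_num)
  · set c' : ↥C := ⟨c, Subgroup.mem_centralizer_singleton_iff.2 hc⟩
    refine (hcore c').2 ((hq1 c').1 (MulEquiv.ext fun s => ?_))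
    obtain ⟨k, hks⟩ := hq (MulAut.conj s)
    have hkK : (k : G) ∈ K := (hKmem k).2 ⟨s, hks.symm⟩
    have h1 : q (c' * k * c'⁻¹ * k⁻¹) = 1 := (hq1 _).2 ((hcore _).1 (hk k hkK))
    rw [map_mul, map_mul, map_mul, map_inv, map_inv, hks, mul_inv_eq_one] at h1
    refine CfsgLib.KnownC.AutPSp.conj_injective_psp (F := F) (m := 2) (by norm_num) ?_
    refine Eq.trans ?_ h1
    ext t
    simp

end CfsgLib.Recognition.USixTwoOuter
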