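import Cfsg.Agent.Lib.Recognition.USixTwoOuter.Bridge
import Cfsg.Agent.Lib.Recognition.USixTwoOuter.Isolated
import Cfsg.Agent.Lib.Solvable.Cores
import Cfsg.Agent.Lib.Recognition.USixTwo.Outside
import Cfsg.Agent.Lib.Characterizations.CoType.Setup

/-!
The hypotheses of the statements in terms of subgroups of the whole group, and the natural case.
-/

set_option autoImplicit false
set_option maxRecDepth 100000
set_option linter.unusedSectionVars false
set_option linter.style.haveILetI false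

namespace CfsgLib.Recognition.USixTwoOuter

open CfsgLib.ThreeTransp
open CfsgLib.Recognition.USixTwo (V4 Core Model4)

variable {G : Type*} [Group G] [Finite G]

/-- The subgroup `O₂(C(z))` of `G`. -/
noncomputable def coreTwo (z : G) : Subgroup G :=
  (Cfsg.pCore 2 ↥(Subgroup.centralizer ({z} : Set G))).map (Subgroup.centralizer ({z} : Set G)).subtype

theorem coreTwo_mem {z x : G} (hx : x ∈ coreTwo z) :
    ∃ hc : x ∈ Subgroup.centralizer ({z} : Set G),
      (⟨x, hc⟩ : ↥(Subgroup.centralizer ({z} : Set G))) ∈ Cfsg.pCore 2 ↥(Subgroup.centralizer ({z} : Set G)) := by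
  obtain ⟨⟨y, hy⟩, hm, rfl⟩ := hx
  exact ⟨hy, hm⟩

/-- A hom from a subgroup of `C(z)` onto the group of forty points with kernel `O₂(C(z))` gives the setting. -/
theorem hyp_of_core (z : G) (hz : orderOf z = 2)
    (hJ : Cfsg.IsExtraspecial 2 ↥(Cfsg.pCore 2 ↥(Subgroup.centralizer ({z} : Set G))))
    (hJc : Nat.card ↥(Cfsg.pCore 2 ↥(Subgroup.centralizer ({z} : Set G))) = 2 ^ 9)
    (hCJ : Subgroup.centralizer ((Cfsg.pCore 2 ↥(Subgroup.centralizer ({z} : Set G))) : Set ↥(Subgroup.centralizer ({z} : Set G))) ≤ Cfsg.pCore 2 ↥(Subgroup.centralizer ({z} : Set G)))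
    (K : Subgroup G) (hK : K ≤ Subgroup.centralizer ({z} : Set G)) (hJK : coreTwo z ≤ K)
    (φ : ↥K →* P40) (hr : φ.range = K40) (hker : ∀ k : ↥K, φ k = 1 ↔ (k : G) ∈ coreTwo z) :
    Hyp z (coreTwo z) K φ := by
  set C := Subgroup.centralizer ({z} : Set G) with hC
  set P := Cfsg.pCore 2 ↥C with hP
  have hn : P.Normal := inferInstance
  have hzC : z ∈ C := Subgroup.mem_centralizer_singleton_iff.2 rfl
  have hcomm : ∀ {c}, c ∈ C → c * z = z * c := fun hc => Subgroup.mem_centralizer_singleton_iff.1 hc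
  have eQ : ↥P ≃* ↥(coreTwo z) := Subgroup.equivMapOfInjective _ _ C.subtype_injective
  have hzP : (⟨z, hzC⟩ : C) ∈ P := hCJ fun q _ => Subtype.ext (hcomm q.2)
  have hE : Cfsg.IsExtraspecial 2 ↥(coreTwo z) := CfsgLib.Characterizations.CoType.isExtraspecial_congr' eQ hJ
  refine ⟨hz, ?_, ?_, ?_, ?_, fun k hk => hcomm (hK hk), hJK, hr, hker⟩
  · obtain ⟨z', hz'⟩ := Extraspecial.exists_extra hE
    rcases hz'.mem_center_cases (⟨_, hzP, rfl⟩ : z ∈ coreTwo z) (fun q hq => by
      obtain ⟨hq', -⟩ := coreTwo_mem hq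
      exact (hcomm hq').symm) with e | e
    · rw [e, orderOf_one] at hz; omega
    · exact e.symm ▸ hz'
  · rw [← Nat.card_congr eQ.toEquiv, hJc]; norm_num
  · intro c hc a ha
    obtain ⟨ha', hap⟩ := coreTwo_mem ha
    exact ⟨⟨c, Subgroup.mem_centralizer_singleton_iff.2 hc⟩ * ⟨a, ha'⟩ *
      (⟨c, Subgroup.mem_centralizer_singleton_iff.2 hc⟩)⁻¹, hn.conj_mem _ hap _, rfl⟩
  · intro c hc
    have hcC : c ∈ C := Subgroup.mem_centralizer_singleton_iff.2 (hc z ⟨_, hzP, rfl⟩)
    exact ⟨⟨c, hcC⟩, hCJ fun q hq => Subtype.ext (hc q ⟨q, hq, rfl⟩).symm, rfl⟩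

/-- In the natural case `C(z)` itself gives the configuration of the unitary library. -/
theorem exists_core {z : G} {J : Subgroup G} {φ : ↥(Subgroup.centralizer ({z} : Set G)) →* P40}
    (h : Hyp z J (Subgroup.centralizer ({z} : Set G)) φ) (f : ExtraspecialOut.Frame ↥J 8)
    (e : V ≃ₗ[ZMod 2] V4) (heq : ∀ v, CfsgLib.Recognition.USixTwo.q4 (e v) = ExtraspecialOut.Q f v)
    (hiso : ∀ k, CfsgLib.Recognition.USixTwo.IsIso
      ((e.symm.trans (lin f h (Subgroup.centralizer ({z} : Set G)) h.K_le k)).trans e)) :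
    ∃ π ψ, Core z J π ψ := by
  classical
  let π : G → V4 := fun a => if ha : a ∈ J then e (f.π ⟨a, ha⟩) else 0
  let ψ : ↥(Subgroup.centralizer ({z} : Set G)) →* (V4 ≃ₗ[ZMod 2] V4) :=
    { toFun := fun c => (e.symm.trans (lin f h (Subgroup.centralizer ({z} : Set G)) h.K_le c)).trans e
      map_one' := LinearEquiv.ext fun v => by
        show e (lin f h (Subgroup.centralizer ({z} : Set G)) h.K_le 1 (e.symm v)) = v
        rw [map_one]
        exact e.apply_symm_apply v
      map_mul' := fun a b => LinearEquiv.ext fun v => by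
        show e (lin f h (Subgroup.centralizer ({z} : Set G)) h.K_le (a * b) (e.symm v)) =
          e (lin f h (Subgroup.centralizer ({z} : Set G)) h.K_le a (e.symm (e (lin f h (Subgroup.centralizer ({z} : Set G)) h.K_le b (e.symm v)))))
        rw [e.symm_apply_apply, map_mul]
        rfl }
  have hπ : ∀ a (ha : a ∈ J), π a = e (f.π ⟨a, ha⟩) := fun a ha => dif_pos ha
  have hker : ∀ c, ψ c = 1 ↔ (c : G) ∈ J := fun c => by
    rw [← lin_eq_one h f (Subgroup.centralizer ({z} : Set G)) h.K_le c]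
    constructor
    · intro hc
      refine LinearEquiv.ext fun v => e.injective ?_
      have : e (lin f h (Subgroup.centralizer ({z} : Set G)) h.K_le c (e.symm (e v))) = e v := LinearEquiv.congr_fun hc (e v)
      rwa [e.symm_apply_apply] at this
    · intro hc
      refine LinearEquiv.ext fun v => ?_
      show e (lin f h (Subgroup.centralizer ({z} : Set G)) h.K_le c (e.symm v)) = v
      rw [hc]
      exact e.apply_symm_apply v
  have hzz : ∀ a : ↥J, a = f.z ↔ (a : G) = z := fun a => by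
    have hfz : (f.z : G) = z := by
      rcases h.extra.mem_center_cases f.z.2 (fun q hq => congrArg Subtype.val (f.z_comm ⟨q, hq⟩)) with e' | e'
      · exact absurd (Subtype.ext e') f.z_ne
      · exact e'
    exact ⟨fun e' => by rw [e', hfz], fun e' => Subtype.ext (e'.trans hfz.symm)⟩
  refine ⟨π, ψ, ⟨h.ord, h.extra, h.card_J, h.normJ, h.cent, ?_, ?_, ?_, ?_, ?_, hker, ?_⟩⟩
  · intro a ha b hb
    rw [hπ _ (mul_mem ha hb), hπ _ ha, hπ _ hb, ← map_add, ← f.π_mul]
    rfl
  · intro v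
    obtain ⟨a, ha⟩ := f.π_surj (e.symm v)
    exact ⟨a, a.2, by rw [hπ _ a.2, Subtype.coe_eta, ha, e.apply_symm_apply]⟩
  · intro a ha
    rw [hπ _ ha, LinearEquiv.map_eq_zero_iff, f.π_ker, hzz]
    exact ⟨Or.imp_left fun e' => congrArg Subtype.val e', Or.imp_left fun e' => Subtype.ext e'⟩
  · intro a ha
    rw [hπ _ ha, heq, ExtraspecialOut.Q_apply, ExtraspecialOut.qf_π, ExtraspecialOut.ε]
    split_ifs with h1
    · exact ⟨fun _ => congrArg Subtype.val h1, fun _ => rfl⟩
    · exact ⟨fun e' => absurd e' one_ne_zero, fun e' => absurd (Subtype.ext e') h1⟩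
  · intro c a ha
    rw [hπ _ ha, hπ _ (h.normJ c (Subgroup.mem_centralizer_singleton_iff.1 c.2) a ha)]
    show _ = e (lin f h (Subgroup.centralizer ({z} : Set G)) h.K_le c (e.symm (e (f.π ⟨a, ha⟩))))
    rw [e.symm_apply_apply, lin_apply h f]
    rfl
  · refine ⟨?_, ?_⟩
    · rintro _ ⟨c, rfl⟩
      exact hiso c
    · have e1 : ψ.ker = φ.ker := by
        ext c
        rw [MonoidHom.mem_ker, MonoidHom.mem_ker, hker, h.ker]
      rw [← Subgroup.index_ker, e1, Subgroup.index_ker, h.range, card_K40]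

/-- The natural case gives `PSU₆(2)` as soon as `z` is not isolated. -/
theorem natural_conclusion {z : G} {J : Subgroup G} {φ : ↥(Subgroup.centralizer ({z} : Set G)) →* P40}
    (h : Hyp z J (Subgroup.centralizer ({z} : Set G)) φ) (f : ExtraspecialOut.Frame ↥J 8)
    (e : V ≃ₗ[ZMod 2] V4) (heq : ∀ v, CfsgLib.Recognition.USixTwo.q4 (e v) = ExtraspecialOut.Q f v)
    (hiso : ∀ k, CfsgLib.Recognition.USixTwo.IsIso
      ((e.symm.trans (lin f h (Subgroup.centralizer ({z} : Set G)) h.K_le k)).trans e))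
    (hni : ∃ w, IsConj z w ∧ w * z = z * w ∧ w ≠ z)
    {K : Type*} [Field K] [Fintype K] (hK : Fintype.card K = 4) : Nonempty (G ≃* Cfsg.PSU 6 K 2) := by
  obtain ⟨π, ψ, hc⟩ := exists_core h f e heq hiso
  exact hc.exists_iso_psu hni hK

end CfsgLib.Recognition.USixTwoOuter
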