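import Cfsg.Agent.Lib.Recognition.USixTwoOuter.WSupplement

/-!
Either natural coordinates, or the odd core supplements `C(z)`; and the centre of the group of forty points.
-/

set_option autoImplicit false
set_option maxRecDepth 100000
set_option linter.unusedSectionVars false

namespace CfsgLib.Recognition.USixTwoOuter

open CfsgLib.ThreeTransp
open CfsgLib.Recognition.USixTwo (V4)

theorem fix_table : ∀ u w : Fin 40, u ≠ w →
    ∃ v, (CfsgLib.Classical.PSpThree.perms v u = u) ≠ (CfsgLib.Classical.PSpThree.perms v w = w) := by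
  decide +kernel

/-- Only the identity commutes with every reflection. -/
theorem eq_one_of_comm {g : P40} (hg : ∀ v, g * gc v = gc v * g) : g = 1 := by
  refine Equiv.ext fun u => ?_
  by_contra hne
  obtain ⟨v, hv⟩ := fix_table u (g u) (Ne.symm hne)
  refine hv (propext ⟨fun e => ?_, fun e => ?_⟩)
  · have := congrArg (fun p : P40 => p u) (hg v)
    exact this.symm.trans (congrArg g e)
  · have := congrArg (fun p : P40 => p u) (hg v)
    exact g.injective (this.trans e)

variable {G : Type*} [Group G] [Finite G] {z : G} {J K : Subgroup G} {φ : ↥K →* P40}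

/-- Either the natural coordinates with every element of `K` an isometry, or `C(z) O(G) = G`. -/
theorem natural_or_supplement (h : Hyp z J K φ) (f : ExtraspecialOut.Frame ↥J 8)
    (hKn : ∀ c, c * z = z * c → ∀ a ∈ K, c * a * c⁻¹ ∈ K)
    (hidx : ∀ a b, a * z = z * a → b * z = z * b → a ∉ K → b ∉ K → a * b ∈ K)
    (hcc : ∀ c, c * z = z * c → (∀ a ∈ K, c * a * c⁻¹ * a⁻¹ ∈ J) → c ∈ J) :
    (∃ e : V ≃ₗ[ZMod 2] V4, (∀ v, CfsgLib.Recognition.USixTwo.q4 (e v) = ExtraspecialOut.Q f v) ∧
      ∀ k : ↥K, CfsgLib.Recognition.USixTwo.IsIso ((e.symm.trans (lin f h K h.K_le k)).trans e)) ∨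
    Subgroup.centralizer ({z} : Set G) ⊔ Cfsg.oddCore G = ⊤ := by
  classical
  obtain ⟨k, hk, hops⟩ := exists_ops h f
  by_cases hs : ∃ x, Seed (opsOf h f k) x
  · rcases natural_or_fixed h f with he | ⟨F, hF, hinv, hdec⟩
    · exact Or.inl he
    · obtain ⟨x, hx⟩ := hs
      exact Or.inl (natural_of_seed h f k hk hops hx)
  · push Not at hs
    exact Or.inr (fixed_supplement h f k hk hops hs hKn hidx hcc)

end CfsgLib.Recognition.USixTwoOuter
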