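import Cfsg.Agent.Lib.Recognition.USixTwoOuter.OuterWeak
import Cfsg.Agent.Lib.Recognition.USixTwo.Outside
import Cfsg.Agent.Lib.Characterizations.LargeExtraspecialQuadratic
import Cfsg.Agent.Lib.Fusion.Basic

/-!
# The subgroup of index two

In the semilinear configuration `O²` of the group meets the centraliser in its linear part, hence inherits
the configuration of the unitary group, and has index two.
-/

set_option autoImplicit false
set_option linter.unusedSectionVars false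
set_option linter.style.haveILetI false

namespace CfsgLib.Recognition.USixTwoOuter

open CfsgLib.Recognition.USixTwo
open scoped commutatorElement

/-- The transvection group is its own commutator subgroup. -/
theorem TG_commutator : ⁅TG, TG⁆ = TG := by
  refine le_antisymm (Subgroup.commutator_le.2 fun a ha b hb =>
    mul_mem (mul_mem (mul_mem ha hb) (inv_mem ha)) (inv_mem hb)) ?_
  refine (Subgroup.closure_le _).2 ?_
  rintro _ ⟨i, rfl⟩
  obtain ⟨a, ha, b, hb, hab⟩ := tv0_comm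
  obtain ⟨g, hg, hgv⟩ := exists_moving (ptV_q _ i.2).1 (ptV_q _ i.2).2
  have e : tvP (i : ℕ) = ⁅g * a * g⁻¹, g * b * g⁻¹⁆ := by
    rw [tvP, ← hgv, ← tv_conj (TG_le hg) v0_hm, ← hab, commutatorElement_def]
    group
  show tvP (i : ℕ) ∈ ⁅TG, TG⁆
  rw [e]
  exact Subgroup.commutator_mem_commutator (mul_mem (mul_mem hg ha) (inv_mem hg))
    (mul_mem (mul_mem hg hb) (inv_mem hg))

theorem singular_moving : ∀ n < 256, q4 (dec n) = 0 → dec n ≠ 0 → ∃ m < 256, hm (dec m) (dec n) = (1, 0) := by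
  decide +kernel

theorem unit_two_singular : ∀ k < 8, ∃ i < 256, q4 (dec i) = 0 ∧ q4 (dec i + dec (2 ^ k)) = 0 := by decide +kernel

/-- The commutators of the transvection group with the space fill the space. -/
theorem moving_span (P : AddSubgroup V4) (hP : ∀ g ∈ TG, ∀ x, g x + x ∈ P) (v : V4) : v ∈ P := by
  have hsing : ∀ u : V4, q4 u = 0 → u ∈ P := fun u hu => by
    by_cases h0 : u = 0
    · rw [h0]; exact zero_mem _
    obtain ⟨m, -, hm1⟩ := singular_moving (code u) (code_lt u) (by rwa [dec_code]) (by rwa [dec_code])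
    rw [dec_code] at hm1
    obtain ⟨g, hg, hgv⟩ := exists_moving hu h0
    have hh : hm u u = 0 := by rw [← hgv, (TG_le hg).hm]; exact v0_hm
    have ht : tv u ∈ TG := by
      obtain ⟨a, ha, b, hb, hab⟩ := tv0_comm
      rw [← hgv, ← tv_conj (TG_le hg) v0_hm, ← hab]
      exact mul_mem (mul_mem hg (mul_mem (mul_mem (mul_mem ha hb) (inv_mem ha)) (inv_mem hb))) (inv_mem hg)
    have := hP (tv u) ht (dec m)
    rwa [tv_apply hh, hm1, scl_one, add_comm, ← add_assoc, add_self_V4, zero_add] at this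
  have hu : ∀ k < 8, dec (2 ^ k) ∈ P := fun k hk => by
    obtain ⟨i, -, h1, h2⟩ := unit_two_singular k hk
    have := add_mem (hsing _ h1) (hsing _ h2)
    rwa [← add_assoc, add_self_V4, zero_add] at this
  have hpart : ∀ n k, k < 8 → part n k ∈ P := fun n k hk => by
    unfold part
    split
    · exact hu k hk
    · exact zero_mem _
  rw [← dec_code v, split_code _ (code_lt v)]
  repeat' refine add_mem ?_ ?_
  all_goals exact hpart _ _ (by norm_num)

variable {X : Type*} [Group X] [Finite X]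

namespace Outer

variable {z : X} {J : Subgroup X} {π : X → V4} {ψ : ↥(Subgroup.centralizer ({z} : Set X)) →* (V4 ≃ₗ[ZMod 2] V4)}
  (h : Outer z J π ψ)
include h

/-- The linear part of the centraliser is its own commutator subgroup. -/
theorem lin_perfect : ⁅isoGroup.comap ψ, isoGroup.comap ψ⁆ = isoGroup.comap ψ := by
  set L := isoGroup.comap ψ with hL
  set D := ⁅L, L⁆ with hD
  have hDL : D ≤ L := Subgroup.commutator_le.2 fun a ha b hb =>
    mul_mem (mul_mem (mul_mem ha hb) (inv_mem ha)) (inv_mem hb)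
  have hLmap : L.map ψ = TG := by
    rw [hL, Subgroup.map_comap_eq, model_eq h.model_lin]
  have hDmap : D.map ψ = TG := by rw [hD, Subgroup.map_commutator, hLmap, TG_commutator]
  have hmemL : ∀ a : ↥(Subgroup.centralizer ({z} : Set X)), (a : X) ∈ J → a ∈ L := fun a ha =>
    Subgroup.mem_comap.2 (by rw [(h.ker a).2 ha]; exact one_mem _)
  -- `z` is a commutator
  have hzD : (⟨z, h.mem_cent h.extra.z_mem⟩ : ↥(Subgroup.centralizer ({z} : Set X))) ∈ D := by
    obtain ⟨a, ha, hav⟩ := h.π_surj v0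
    obtain ⟨q, hq, hqe⟩ := h.extra.exists_conj_eq ha
      (fun e => (show v0 ≠ 0 by decide +kernel) (by rw [← hav, e, h.π_one]))
      (fun e => (show v0 ≠ 0 by decide +kernel) (by rw [← hav, e, h.π_z]))
    have hm := Subgroup.commutator_mem_commutator (hmemL ⟨a⁻¹, h.mem_cent (inv_mem ha)⟩ (inv_mem ha))
      (hmemL ⟨q, h.mem_cent hq⟩ hq)
    convert hm using 1
    refine Subtype.ext ?_
    show z = a⁻¹ * q * a⁻¹⁻¹ * q⁻¹
    calc z = a⁻¹ * (a * z) := by group
      _ = a⁻¹ * (q * a * q⁻¹) := by rw [hqe]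
      _ = _ := by group
  let P : AddSubgroup V4 :=
    { carrier := {v | ∃ a, ∃ ha : a ∈ J, (⟨a, h.mem_cent ha⟩ : ↥(Subgroup.centralizer ({z} : Set X))) ∈ D ∧ π a = v}
      add_mem' := fun {u v} => by
        rintro ⟨a, ha, had, rfl⟩ ⟨b, hb, hbd, rfl⟩
        exact ⟨a * b, mul_mem ha hb, mul_mem had hbd, h.π_mul a ha b hb⟩
      zero_mem' := ⟨1, one_mem _, one_mem D, h.π_one⟩
      neg_mem' := fun {v} hv => by rwa [ZModModule.neg_eq_self] }
  have hP : ∀ v, v ∈ P := moving_span P fun g hg x => by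
    obtain ⟨c, hc, rfl⟩ := Subgroup.mem_map.1 (hLmap.symm ▸ hg)
    obtain ⟨a, ha, rfl⟩ := h.π_surj x
    have hca : (c : X) * a * (c : X)⁻¹ ∈ J := h.norm c (Subgroup.mem_centralizer_singleton_iff.1 c.2) a ha
    refine ⟨(c : X) * a * (c : X)⁻¹ * a⁻¹, mul_mem hca (inv_mem ha), ?_, ?_⟩
    · have := Subgroup.commutator_mem_commutator hc (hmemL ⟨a, h.mem_cent ha⟩ ha)
      convert this using 1
      exact Subtype.ext rfl
    · rw [h.π_mul _ hca _ (inv_mem ha), h.π_inv ha, h.act c a ha]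
  refine le_antisymm hDL fun c hc => ?_
  obtain ⟨d, hd, hdc⟩ := Subgroup.mem_map.1 (hDmap.symm ▸ (hLmap ▸ Subgroup.mem_map_of_mem ψ hc : ψ c ∈ TG))
  have hj : ((d⁻¹ * c : ↥(Subgroup.centralizer ({z} : Set X))) : X) ∈ J :=
    (h.ker _).1 (by rw [map_mul, map_inv, hdc, inv_mul_cancel])
  obtain ⟨a, ha, had, hae⟩ := hP (π ((d⁻¹ * c : ↥(Subgroup.centralizer ({z} : Set X))) : X))
  have hdd : d⁻¹ * c ∈ D := by
    rcases (h.π_eq_iff ha hj).1 hae with e | e
    · convert had using 1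
      exact Subtype.ext e
    · convert mul_mem had hzD using 1
      exact Subtype.ext e
  simpa using mul_mem hd hdd

theorem lin_index : (isoGroup.comap ψ).index = 2 := by
  haveI := finite_GL
  rw [Subgroup.index_comap, ← Subgroup.inf_relIndex_right]
  have hle : isoGroup ⊓ ψ.range ≤ ψ.range := inf_le_right
  have := ((isoGroup ⊓ ψ.range).subgroupOf ψ.range).card_mul_index
  rw [Nat.card_congr (Subgroup.subgroupOfEquivOfLe hle).toEquiv, inf_comm, h.model.card_lin, h.model.card] at this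
  rw [Subgroup.relIndex, inf_comm]
  omega

/-- The linear part lies in `O²`. -/
theorem lin_le_residual : ∀ c : ↥(Subgroup.centralizer ({z} : Set X)), ψ c ∈ isoGroup →
    (c : X) ∈ Cfsg.pResidual 2 X := by
  haveI : Fact (Nat.Prime 2) := ⟨Nat.prime_two⟩
  intro c hc
  set N := Cfsg.pResidual 2 X
  haveI : Group.IsNilpotent (X ⧸ N) := CfsgLib.Fusion.Basic.isPGroup_quotient_pResidual.isNilpotent
  set f := (QuotientGroup.mk' N).comp (Subgroup.centralizer ({z} : Set X)).subtype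
  have hm : ⁅(isoGroup.comap ψ).map f, (isoGroup.comap ψ).map f⁆ = (isoGroup.comap ψ).map f := by
    rw [← Subgroup.map_commutator, h.lin_perfect]
  have hbot : (isoGroup.comap ψ).map f = ⊥ := by
    by_contra hne
    exact (Group.IsSolvable.commutator_lt_of_ne_bot hne).ne hm
  have : f c = 1 := Subgroup.mem_bot.1 (hbot ▸ Subgroup.mem_map_of_mem f (Subgroup.mem_comap.2 hc))
  exact (QuotientGroup.eq_one_iff _).1 this

/-- `O²` meets the centraliser in the linear part. -/
theorem residual_cent (c : ↥(Subgroup.centralizer ({z} : Set X))) :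
    (c : X) ∈ Cfsg.pResidual 2 X ↔ ψ c ∈ isoGroup := by
  classical
  haveI : Fact (Nat.Prime 2) := ⟨Nat.prime_two⟩
  refine ⟨fun hcN => ?_, h.lin_le_residual c⟩
  by_contra hc
  set N := Cfsg.pResidual 2 X
  have hJN : J ≤ N := fun a ha => h.lin_le_residual ⟨a, h.mem_cent ha⟩ (by
    rw [(h.ker ⟨a, h.mem_cent ha⟩).2 ha]; exact one_mem _)
  have hz : z ∈ N := hJN h.extra.z_mem
  have hE : CfsgLib.Characterizations.LargeExtraspecialTransfer.Setting (J.subgroupOf N) (⟨z, hz⟩ : ↥N) := by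
    refine ⟨?_, fun a ha => Subgroup.mem_centralizer_singleton_iff.2
      (Subtype.ext (h.cent_z (Subgroup.mem_subgroupOf.1 ha))), fun c hc a ha => ?_, fun c hc => ?_⟩
    · obtain ⟨z', hz'⟩ := CfsgLib.ThreeTransp.Extraspecial.exists_extra (Q := J.subgroupOf N)
        (CfsgLib.Characterizations.CoType.isExtraspecial_congr' (Subgroup.subgroupOfEquivOfLe hJN).symm h.extra.ext)
      rcases hz'.mem_center_cases (x := ⟨z, hz⟩) h.extra.z_mem
        (fun q hq => Subtype.ext (h.extra.z_comm hq)) with e | e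
      · exact absurd (congrArg Subtype.val e) h.extra.z_ne
      · exact e ▸ hz'
    · exact h.norm (c : X) (congrArg Subtype.val (Subgroup.mem_centralizer_singleton_iff.1 hc)) (a : X) ha
    · exact h.cent_le (c : X) fun a ha =>
        (congrArg Subtype.val (Subgroup.mem_centralizer_iff.1 hc ⟨a, hJN ha⟩ ha)).symm
  haveI := Fintype.ofFinite (↥N ⧸ Subgroup.centralizer ({(⟨z, hz⟩ : ↥N)} : Set ↥N))
  have h128 : 128 ≤ Nat.card (J.subgroupOf N) := by
    rw [Nat.card_congr (Subgroup.subgroupOfEquivOfLe hJN).toEquiv, h.card_J]; norm_num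
  have hnf : ∀ g : ↥N, g * ⟨z, hz⟩ * g⁻¹ ∈ J.subgroupOf N → g * ⟨z, hz⟩ * g⁻¹ = ⟨z, hz⟩ :=
    fun g hg => Subtype.ext (h.weakly_closed hg)
  have hχ := CfsgLib.Characterizations.LargeExtraspecialTransfer.chi_eq_zero_quad hE h128
    CfsgLib.Fusion.Basic.pResidual_pResidual hnf
    (fun u => if inclCent N hz u ∈ isoGroup.comap ψ then (0 : ZMod 2) else 1) (fun a b => ?_)
    ⟨⟨(c : X), hcN⟩, Subgroup.mem_centralizer_singleton_iff.2
      (Subtype.ext (Subgroup.mem_centralizer_singleton_iff.1 c.2))⟩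
  · have e : inclCent N hz ⟨⟨(c : X), hcN⟩, Subgroup.mem_centralizer_singleton_iff.2
        (Subtype.ext (Subgroup.mem_centralizer_singleton_iff.1 c.2))⟩ = c := Subtype.ext rfl
    simp only [e, Subgroup.mem_comap, if_neg hc] at hχ
    exact one_ne_zero hχ
  · simp only [map_mul, Subgroup.mul_mem_iff_of_index_two h.lin_index]
    by_cases ha : inclCent N hz a ∈ isoGroup.comap ψ <;> by_cases hb : inclCent N hz b ∈ isoGroup.comap ψ <;>
      simp only [ha, hb, if_true, if_false, iff_self, iff_false, false_iff, not_true, not_false_iff] <;>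
      decide +revert

/-- Conjugation in the whole group is conjugation in `O²` followed by the centraliser. -/
theorem frattini (g : X) : ∃ n ∈ Cfsg.pResidual 2 X, g * z * g⁻¹ = n * z * n⁻¹ := by
  classical
  haveI : Fact (Nat.Prime 2) := ⟨Nat.prime_two⟩
  set N := Cfsg.pResidual 2 X
  have hJN : J ≤ N := fun a ha => (h.residual_cent ⟨a, h.mem_cent ha⟩).2 (by
    rw [(h.ker ⟨a, h.mem_cent ha⟩).2 ha]; exact one_mem _)
  have hp : IsPGroup 2 (J.subgroupOf N) := (IsPGroup.of_card (n := 9) (by rw [h.card_J]; rfl)).of_equiv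
    (Subgroup.subgroupOfEquivOfLe hJN).symm
  obtain ⟨P, hJP⟩ := hp.exists_le_sylow
  have hcentral : ∀ y : ↥N, (∀ p ∈ P.toSubgroup, y * p = p * y) → (y : X) = 1 ∨ (y : X) = z := fun y hy => by
    have hyc : ∀ a ∈ J, (y : X) * a = a * y := fun a ha =>
      congrArg Subtype.val (hy ⟨a, hJN ha⟩ (hJP (show a ∈ J from ha)))
    exact h.extra.mem_center_cases (h.cent_le _ hyc) hyc
  have hzP : ∀ p ∈ P.toSubgroup, (⟨z, hJN h.extra.z_mem⟩ : ↥N) * p = p * ⟨z, hJN h.extra.z_mem⟩ := by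
    haveI : Nontrivial ↥P.toSubgroup := ⟨⟨1, ⟨⟨z, hJN h.extra.z_mem⟩, hJP h.extra.z_mem⟩, fun e =>
      h.extra.z_ne (congrArg (fun t : ↥P.toSubgroup => ((t : ↥N) : X)) e).symm⟩⟩
    haveI := P.isPGroup'.center_nontrivial
    obtain ⟨y, hy⟩ := exists_ne (1 : ↥(Subgroup.center ↥P.toSubgroup))
    have hyP : ∀ p ∈ P.toSubgroup, ((y : ↥P.toSubgroup) : ↥N) * p = p * ((y : ↥P.toSubgroup) : ↥N) := fun p hp =>
      (congrArg Subtype.val (Subgroup.mem_center_iff.1 y.2 ⟨p, hp⟩)).symm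
    rcases hcentral _ hyP with e | e
    · exact absurd (Subtype.ext (Subtype.ext (Subtype.ext e))) hy
    · have e' : ((y : ↥P.toSubgroup) : ↥N) = ⟨z, hJN h.extra.z_mem⟩ := Subtype.ext e
      rw [← e']
      exact hyP
  let σ : ↥N ≃* ↥N := MulAut.conjNormal g
  obtain ⟨n, hn⟩ := MulAction.exists_smul_eq ↥N P (P.mapSurjective (f := σ.toMonoidHom) σ.surjective)
  refine ⟨n, n.2, ?_⟩
  set zN : ↥N := ⟨z, hJN h.extra.z_mem⟩
  set y : ↥N := n⁻¹ * σ zN * n with hy
  have hyc : ∀ p ∈ P.toSubgroup, y * p = p * y := fun p hp => by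
    have h1 : n * p * n⁻¹ ∈ P.toSubgroup.map σ.toMonoidHom := by
      have h2 : MulAut.conj n p ∈ ((n • P : Sylow 2 ↥N) : Subgroup ↥N) := Subgroup.mem_map_of_mem _ hp
      rw [hn] at h2
      exact h2
    obtain ⟨q, hq, hqe⟩ := Subgroup.mem_map.1 h1
    change σ q = n * p * n⁻¹ at hqe
    have e : p = n⁻¹ * σ q * n := by rw [hqe]; group
    have hc : σ zN * σ q = σ q * σ zN := by rw [← map_mul, ← map_mul, hzP q hq]
    calc y * p = n⁻¹ * (σ zN * σ q) * n := by rw [e, hy]; group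
      _ = n⁻¹ * (σ q * σ zN) * n := by rw [hc]
      _ = _ := by rw [e, hy]; group
  have hval : (y : X) = (n : X)⁻¹ * (g * z * g⁻¹) * n := rfl
  rcases hcentral y hyc with e | e
  · exfalso
    rw [hval] at e
    apply h.extra.z_ne
    calc z = g⁻¹ * ((n : X) * ((n : X)⁻¹ * (g * z * g⁻¹) * n) * (n : X)⁻¹) * g := by group
      _ = 1 := by rw [e]; group
  · rw [hval] at e
    calc g * z * g⁻¹ = (n : X) * ((n : X)⁻¹ * (g * z * g⁻¹) * n) * (n : X)⁻¹ := by group
      _ = n * z * (n : X)⁻¹ := by rw [e]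

theorem residual_index : (Cfsg.pResidual 2 X).index = 2 := by
  set N := Cfsg.pResidual 2 X
  have htop : Subgroup.centralizer ({z} : Set X) ⊔ N = ⊤ := eq_top_iff.2 fun g _ => by
    obtain ⟨n, hn, e⟩ := h.frattini g
    rw [show g = n * (n⁻¹ * g) by group]
    refine mul_mem (Subgroup.mem_sup_right hn) (Subgroup.mem_sup_left
      (Subgroup.mem_centralizer_singleton_iff.2 ?_))
    calc n⁻¹ * g * z = n⁻¹ * (g * z * g⁻¹) * g := by group
      _ = n⁻¹ * (n * z * n⁻¹) * g := by rw [e]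
      _ = z * (n⁻¹ * g) := by group
  rw [← Subgroup.relIndex_top_right, ← htop, Subgroup.relIndex_sup_right, Subgroup.relIndex]
  convert h.lin_index using 2
  ext c
  rw [Subgroup.mem_subgroupOf, h.residual_cent, Subgroup.mem_comap]

/-- The recognition in the semilinear case. -/
theorem exists_psu_index_two (hni : ∃ w, IsConj z w ∧ w * z = z * w ∧ w ≠ z) {K : Type*} [Field K] [Fintype K]
    (hK : Fintype.card K = 4) : ∃ G₀ : Subgroup X, G₀.index = 2 ∧ Nonempty (↥G₀ ≃* Cfsg.PSU 6 K 2) ∧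
      Subgroup.centralizer (G₀ : Set X) = ⊥ := by
  haveI : Fact (Nat.Prime 2) := ⟨Nat.prime_two⟩
  set N := Cfsg.pResidual 2 X
  have hJN : J ≤ N := fun a ha => (h.residual_cent ⟨a, h.mem_cent ha⟩).2 (by
    rw [(h.ker ⟨a, h.mem_cent ha⟩).2 ha]; exact one_mem _)
  obtain ⟨w, hw, hwz, hne⟩ := hni
  obtain ⟨g, rfl⟩ := isConj_iff.1 hw
  obtain ⟨n, hn, e⟩ := h.frattini g
  rw [e] at hwz hne
  have hcore := h.core_sub N hJN h.residual_cent
  refine ⟨N, h.residual_index, hcore.exists_iso_psu ⟨⟨n, hn⟩ * ⟨z, hJN h.extra.z_mem⟩ * (⟨n, hn⟩ : ↥N)⁻¹,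
    isConj_iff.2 ⟨⟨n, hn⟩, rfl⟩, Subtype.ext hwz, fun e' => hne (congrArg Subtype.val e')⟩ hK, ?_⟩
  refine eq_bot_iff.2 fun c hc => Subgroup.mem_bot.2 ?_
  have hcc : ∀ a ∈ J, c * a = a * c := fun a ha => (Subgroup.mem_centralizer_iff.1 hc a (hJN ha)).symm
  rcases h.extra.mem_center_cases (h.cent_le c hcc) hcc with e' | e'
  · exact e'
  · exfalso
    subst e'
    refine hne ?_
    rw [Subgroup.mem_centralizer_iff.1 hc n hn, mul_inv_cancel_right]

end Outer

end CfsgLib.Recognition.USixTwoOuter
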