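import Cfsg.Agent.Lib.Recognition.USixTwoOuter.Weights

/-!
The orthogonal complement of the fixed vectors when there is no seed for the natural module: it is
irreducible, and no orbit on its nonzero vectors has length divisible by five.
-/

set_option autoImplicit false
set_option maxRecDepth 100000
set_option linter.unusedSectionVars false
set_option linter.style.haveILetI false

namespace CfsgLib.Recognition.USixTwoOuter

/-- Orthogonal to every fixed vector. -/
def Pp {U : Type*} [AddCommGroup U] [Module (ZMod 2) U] (f : Fin 6 → U →ₗ[ZMod 2] U)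
    (β : U →ₗ[ZMod 2] U →ₗ[ZMod 2] ZMod 2) (y : U) : Prop :=
  ∀ v, Fx f v → β v y = 0

theorem axis_table : ∀ c d e : Fin 13, 4 ≤ c.val → c.val < 7 → 4 ≤ d.val → d.val < 7 → 4 ≤ e.val → e.val < 7 →
    d ≠ c → e ≠ c → ∃ n, dot (reps c) n ≠ 0 ∧ dot (reps d) n = 0 ∧ dot (reps e) n = 0 := by decide +kernel

theorem permRep_three : permRep false 4 = 5 ∧ permRep false 5 = 4 ∧ permRep false 6 = 6 ∧
    permRep true 4 = 6 ∧ permRep true 5 = 5 ∧ permRep true 6 = 4 := by decide +kernel

/-- The value at a support of given size. -/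
def bySize (g₁ g₂ g₃ a b c : Bool) : Bool :=
  match a, b, c with
  | false, false, false => false
  | true, false, false => g₁
  | false, true, false => g₁
  | false, false, true => g₁
  | true, true, true => g₃
  | _, _, _ => g₂

theorem size_count : ∀ g₁ g₂ g₃ : Bool, (g₁ || g₂ || g₃) = true →
    ¬ 5 ∣ (Finset.univ.filter fun t : Fin 4 × Fin 4 × Fin 4 =>
      bySize g₁ g₂ g₃ (decide (t.1 ≠ 0)) (decide (t.2.1 ≠ 0)) (decide (t.2.2 ≠ 0)) = true).card := by
  decide +kernel

/-- Unions of classes of supports, invariant under two transpositions. -/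
theorem count_table (S : Bool → Bool → Bool → Bool) (h0 : S false false false = false)
    (h₁ : ∀ a b c, S a b c = S b a c) (h₂ : ∀ a b c, S a b c = S c b a) (h₃ : ∃ a b c, S a b c = true) :
    ¬ 5 ∣ (Finset.univ.filter fun t : Fin 4 × Fin 4 × Fin 4 =>
      S (decide (t.1 ≠ 0)) (decide (t.2.1 ≠ 0)) (decide (t.2.2 ≠ 0)) = true).card := by
  have hS : ∀ a b c, S a b c = bySize (S true false false) (S true true false) (S true true true) a b c := by
    intro a b c
    cases a <;> cases b <;> cases c <;> simp only [bySize]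
    · exact h0
    · exact h₂ _ _ _
    · exact h₁ _ _ _
    · exact h₂ _ _ _
    · exact (h₁ _ _ _).trans (h₂ _ _ _)
  have e : (Finset.univ.filter fun t : Fin 4 × Fin 4 × Fin 4 =>
      S (decide (t.1 ≠ 0)) (decide (t.2.1 ≠ 0)) (decide (t.2.2 ≠ 0)) = true) =
      Finset.univ.filter fun t : Fin 4 × Fin 4 × Fin 4 =>
      bySize (S true false false) (S true true false) (S true true true)
        (decide (t.1 ≠ 0)) (decide (t.2.1 ≠ 0)) (decide (t.2.2 ≠ 0)) = true :=
    Finset.filter_congr fun t _ => by rw [hS]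
  rw [e]
  apply size_count
  obtain ⟨a, b, c, h⟩ := h₃
  rw [hS] at h
  revert h
  generalize S true false false = g₁
  generalize S true true false = g₂
  generalize S true true true = g₃
  cases a <;> cases b <;> cases c <;> revert g₁ g₂ g₃ <;> decide

section

variable {U : Type*} [AddCommGroup U] [Module (ZMod 2) U] {f : Fin 6 → U →ₗ[ZMod 2] U} {Q : U → ZMod 2}
  {β : U →ₗ[ZMod 2] U →ₗ[ZMod 2] ZMod 2} (hf : Ops f Q β) (hno : ∀ x, ¬ Seed f x)
include hf

theorem Ops.beta_comm (u v : U) : β u v = β v u := by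
  have h1 := hf.q_add u v
  have h2 := hf.q_add v u
  rw [add_comm v u, h1, add_comm (Q v) (Q u)] at h2
  exact add_left_cancel h2

theorem Wt.mem_Pp {c : Fin 13} {y : U} (hy : Wt f c y) : Pp f β y := fun _ hv => Wt.orth hf hv hy

theorem Pp.add {x y : U} (hx : Pp f β x) (hy : Pp f β y) : Pp f β (x + y) := fun v hv => by
  rw [map_add, hx v hv, hy v hv, add_zero]

include hno

theorem Pp.parts {y : U} (hy : Pp f β y) :
    ∃ a b c, Wt f 4 a ∧ Wt f 5 b ∧ Wt f 6 c ∧ y = a + b + c := by
  obtain ⟨u, hu, Y, hY, e⟩ := decompose hf y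
  rw [three_weights hf hno Y hY] at e
  refine ⟨_, _, _, hY 4, hY 5, hY 6, ?_⟩
  suffices u = 0 by rw [e, this, zero_add]
  refine hf.nondeg u fun v => ?_
  obtain ⟨u', hu', Y', hY', rfl⟩ := decompose hf v
  rw [three_weights hf hno Y' hY', map_add, map_add, map_add, Wt.orth hf hu (hY' 4), Wt.orth hf hu (hY' 5),
    Wt.orth hf hu (hY' 6), add_zero, add_zero, add_zero, hf.beta_comm]
  have h := hy u' hu'
  rwa [e, map_add, map_add, map_add, Wt.orth hf hu' (hY 4), Wt.orth hf hu' (hY 5), Wt.orth hf hu' (hY 6),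
    add_zero, add_zero, add_zero] at h

theorem parts_zero {u a b c : U} (hu : Fx f u) (ha : Wt f 4 a) (hb : Wt f 5 b) (hc : Wt f 6 c)
    (h0 : u + (a + b + c) = 0) : u = 0 ∧ a = 0 ∧ b = 0 ∧ c = 0 := by
  let Y : Fin 13 → U := fun d => if d = 4 then a else if d = 5 then b else if d = 6 then c else 0
  have hY : ∀ d, Wt f d (Y d) := fun d => by
    simp only [Y]
    split_ifs with h1 h2 h3
    · exact h1 ▸ ha
    · exact h2 ▸ hb
    · exact h3 ▸ hc
    · exact Wt.zero d
  have hz := indep hf Y hY hu (by rw [three_weights hf hno Y hY]; simpa [Y] using h0)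
  have e4 := hz 4; have e5 := hz 5; have e6 := hz 6
  simp [Y] at e4 e5 e6
  exact ⟨by simpa [e4, e5, e6] using h0, e4, e5, e6⟩

/-- A fixed vector orthogonal to the fixed vectors is zero. -/
theorem Pp.eq_zero_of_fixed {x : U} (hx : Pp f β x) (hF : Fx f x) : x = 0 := by
  obtain ⟨a, b, c, ha, hb, hc, e⟩ := hx.parts hf hno
  exact (parts_zero hf hno hF ha hb hc (by rw [← e, ZModModule.add_self])).1

variable (hmove : ∃ n x, op f n x ≠ x)
include hmove

theorem exists_wt (c : Fin 13) (h1 : 4 ≤ c.val) (h2 : c.val < 7) : ∃ x, Wt f c x ∧ x ≠ 0 := by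
  by_contra h
  push Not at h
  haveI : Subsingleton {x : U // Wt f c x} := ⟨fun a b => Subtype.ext ((h _ a.2).trans (h _ b.2).symm)⟩
  have := (fixed_cards hf hno hmove).2 c h1 h2
  rw [Nat.card_eq_one_iff_unique.2 ⟨inferInstance, ⟨⟨0, Wt.zero c⟩⟩⟩] at this
  omega

/-- The four elements of a weight space. -/
theorem four_surjective {c : Fin 13} (h1 : 4 ≤ c.val) (h2 : c.val < 7) {x : U} (hx : Wt f c x) (hne : x ≠ 0)
    {n : N3} (hn : dot (reps c) n ≠ 0) {w : U} (hw : Wt f c w) : ∃ i, four f n x i = w := by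
  haveI : Finite U := Nat.finite_of_card_ne_zero (by rw [hf.card]; norm_num)
  let F : Fin 4 → {y : U // Wt f c y} := fun i => ⟨_, four_wt hf hx n i⟩
  have hinj : Function.Injective F := fun i j e => four_injective hf hx hne hn (congrArg Subtype.val e)
  have hb := (Nat.bijective_iff_injective_and_card F).2 ⟨hinj, by
    rw [(fixed_cards hf hno hmove).2 c h1 h2, Nat.card_eq_fintype_card, Fintype.card_fin]⟩
  obtain ⟨i, hi⟩ := hb.2 ⟨w, hw⟩
  exact ⟨i, congrArg Subtype.val hi⟩

/-- A nonzero subgroup invariant under the operators contains the whole complement. -/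
theorem irreducible {W : AddSubgroup U} (hop : ∀ n, ∀ x ∈ W, op f n x ∈ W)
    (hgi : ∀ b, ∀ x ∈ W, f (gi b) x ∈ W) {x : U} (hxW : x ∈ W) (hxP : Pp f β x) (hne : x ≠ 0) :
    ∀ y, Pp f β y → y ∈ W := by
  have hmvW : ∀ n, ∀ t ∈ W, mv f n t ∈ W := fun n t ht => add_mem ht (hop n t ht)
  have hfull : ∀ c : Fin 13, 4 ≤ c.val → c.val < 7 → ∀ v, Wt f c v → v ≠ 0 → v ∈ W →
      ∀ w, Wt f c w → w ∈ W := by
    intro c h1 h2 v hv hv0 hvW w hw
    obtain ⟨m, hm⟩ := nonzero c
    obtain ⟨i, rfl⟩ := four_surjective hf hno hmove h1 h2 hv hv0 hm hw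
    fin_cases i
    · exact zero_mem W
    · exact hvW
    · exact hop _ _ hvW
    · exact hop _ _ hvW
  obtain ⟨a, b, c, ha, hb, hc, rfl⟩ := hxP.parts hf hno
  have hmvadd : ∀ n (s t : U), mv f n (s + t) = mv f n s + mv f n t :=
    fun n s t => by simp only [mv, op_map_add]; abel
  have hmv0 : ∀ {d : Fin 13} {y : U} {n : N3}, Wt f d y → dot (reps d) n = 0 → mv f n y = 0 :=
    fun hy h0 => by rw [mv, (hy _).1 h0, ZModModule.add_self]
  have hmvne : ∀ {d : Fin 13} {y : U} {n : N3}, Wt f d y → y ≠ 0 → dot (reps d) n ≠ 0 → mv f n y ≠ 0 :=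
    fun hy hy0 hn e => hy0 (hy.eq_zero hf hn
      ((eq_neg_of_add_eq_zero_right e).trans (ZModModule.neg_eq_self _)))
  obtain ⟨p1, p2, p3, p4, p5, p6⟩ := permRep_three
  have h4 : ∃ v, Wt f 4 v ∧ v ≠ 0 ∧ v ∈ W := by
    by_cases ha0 : a ≠ 0
    · obtain ⟨n, hn, hn5, hn6⟩ := axis_table 4 5 6 (by decide) (by decide) (by decide) (by decide) (by decide)
        (by decide) (by decide) (by decide)
      refine ⟨mv f n a, mv_wt hf ha n, hmvne ha ha0 hn, ?_⟩
      have := hmvW n _ hxW
      rwa [hmvadd, hmvadd, hmv0 hb hn5, hmv0 hc hn6, add_zero, add_zero] at this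
    rw [not_not] at ha0
    by_cases hb0 : b ≠ 0
    · obtain ⟨n, hn, hn4, hn6⟩ := axis_table 5 4 6 (by decide) (by decide) (by decide) (by decide) (by decide)
        (by decide) (by decide) (by decide)
      refine ⟨f (gi false) (mv f n b), p2 ▸ (mv_wt hf hb n).move hf false, ?_, hgi _ _ ?_⟩
      · exact fun e => hmvne hb hb0 hn (gi_inj hf false (e.trans (map_zero _).symm))
      · have := hmvW n _ hxW
        rwa [hmvadd, hmvadd, hmv0 ha hn4, hmv0 hc hn6, zero_add, add_zero] at this
    rw [not_not] at hb0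
    subst ha0 hb0
    rw [zero_add, zero_add] at hne hxW
    exact ⟨f (gi true) c, p6 ▸ hc.move hf true, fun e => hne (gi_inj hf true (e.trans (map_zero _).symm)),
      hgi _ _ hxW⟩
  obtain ⟨v, hv, hv0, hvW⟩ := h4
  intro y hy
  obtain ⟨a', b', c', ha', hb', hc', rfl⟩ := hy.parts hf hno
  refine add_mem (add_mem (hfull 4 (by decide) (by decide) v hv hv0 hvW _ ha') ?_) ?_
  · exact hfull 5 (by decide) (by decide) _ (p1 ▸ hv.move hf false)
      (fun e => hv0 (gi_inj hf false (e.trans (map_zero _).symm))) (hgi _ _ hvW) _ hb'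
  · exact hfull 6 (by decide) (by decide) _ (p4 ▸ hv.move hf true)
      (fun e => hv0 (gi_inj hf true (e.trans (map_zero _).symm))) (hgi _ _ hvW) _ hc'

/-- No invariant set of nonzero vectors of the complement has cardinality divisible by five. -/
theorem orbit_five {O : Set U} (hOP : ∀ x ∈ O, Pp f β x) (h0 : (0 : U) ∉ O) (hne : O.Nonempty)
    (hop : ∀ n, ∀ x ∈ O, op f n x ∈ O) (hgi : ∀ b, ∀ x ∈ O, f (gi b) x ∈ O) : ¬ 5 ∣ Nat.card O := by
  classical
  obtain ⟨n4, h44, h45, h46⟩ := axis_table 4 5 6 (by decide) (by decide) (by decide) (by decide) (by decide)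
    (by decide) (by decide) (by decide)
  obtain ⟨n5, h55, h54, h56⟩ := axis_table 5 4 6 (by decide) (by decide) (by decide) (by decide) (by decide)
    (by decide) (by decide) (by decide)
  obtain ⟨n6, h66, h64, h65⟩ := axis_table 6 4 5 (by decide) (by decide) (by decide) (by decide) (by decide)
    (by decide) (by decide) (by decide)
  obtain ⟨e4, he4, hz4⟩ := exists_wt hf hno hmove 4 (by decide) (by decide)
  obtain ⟨e5, he5, hz5⟩ := exists_wt hf hno hmove 5 (by decide) (by decide)
  obtain ⟨e6, he6, hz6⟩ := exists_wt hf hno hmove 6 (by decide) (by decide)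
  have w4 := four_wt hf he4 n4
  have w5 := four_wt hf he5 n5
  have w6 := four_wt hf he6 n6
  let E : Fin 4 × Fin 4 × Fin 4 → U := fun t => four f n4 e4 t.1 + four f n5 e5 t.2.1 + four f n6 e6 t.2.2
  have hneg : ∀ {p q : U}, p + q = 0 → p = q := fun h =>
    (eq_neg_of_add_eq_zero_left h).trans (ZModModule.neg_eq_self _)
  have hEinj : Function.Injective E := by
    rintro ⟨i, j, k⟩ ⟨i', j', k'⟩ e
    simp only [E] at e
    obtain ⟨-, d4, d5, d6⟩ := parts_zero hf hno (u := 0) (fun n => op_map_zero n) ((w4 i).add (w4 i'))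
      ((w5 j).add (w5 j')) ((w6 k).add (w6 k')) (by
        rw [zero_add]
        calc _ = (four f n4 e4 i + four f n5 e5 j + four f n6 e6 k) +
              (four f n4 e4 i' + four f n5 e5 j' + four f n6 e6 k') := by abel
          _ = 0 := by rw [e, ZModModule.add_self])
    rw [four_injective hf he4 hz4 h44 (hneg d4), four_injective hf he5 hz5 h55 (hneg d5),
      four_injective hf he6 hz6 h66 (hneg d6)]
  have hEsur : ∀ x ∈ O, ∃ t, E t = x := by
    intro x hx
    obtain ⟨a, b, c, ha, hb, hc, rfl⟩ := (hOP x hx).parts hf hno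
    obtain ⟨i, rfl⟩ := four_surjective hf hno hmove (by decide) (by decide) he4 hz4 h44 ha
    obtain ⟨j, rfl⟩ := four_surjective hf hno hmove (by decide) (by decide) he5 hz5 h55 hb
    obtain ⟨k, rfl⟩ := four_surjective hf hno hmove (by decide) (by decide) he6 hz6 h66 hc
    exact ⟨(i, j, k), rfl⟩
  -- the value depends on the support only
  have hrot : ∀ {c : Fin 13} {x : U} {n : N3}, Wt f c x → ∀ r : U, op f n r = r → ∀ i : Fin 4, i ≠ 0 →
      (four f n x i + r ∈ O ↔ x + r ∈ O) := by
    intro c x n _ r hr i hi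
    have key : ∀ k : Fin 3, op f (k • n) (x + r) ∈ O ↔ x + r ∈ O := fun k => by
      refine ⟨fun h => ?_, hop _ _⟩
      have := hop ((2 * k) • n) _ h
      have e : ∀ k : Fin 3, ∀ m : Fin 3, 2 * k * m + k * m = 0 := by decide
      rwa [op_op hf, show (2 * k) • n + k • n = 0 from funext fun j => e k (n j), op_zero] at this
    fin_cases i
    · exact absurd rfl hi
    · exact Iff.rfl
    · have := key 1
      rwa [smul_id, op_map_add, hr] at this
    · have := key 2
      rwa [smul_two, op_map_add, show op f (n + n) r = r by rw [← op_op hf, hr, hr]] at this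
  let ind : Bool → Fin 4 := fun b => if b then 1 else 0
  let S : Bool → Bool → Bool → Bool := fun a b c => decide (E (ind a, ind b, ind c) ∈ O)
  have hS : ∀ i j k, E (i, j, k) ∈ O ↔ S (decide (i ≠ 0)) (decide (j ≠ 0)) (decide (k ≠ 0)) = true := by
    intro i j k
    have hstep : ∀ (i j k : Fin 4), (E (i, j, k) ∈ O ↔ E (ind (decide (i ≠ 0)), j, k) ∈ O) ∧
        (E (i, j, k) ∈ O ↔ E (i, ind (decide (j ≠ 0)), k) ∈ O) ∧
        (E (i, j, k) ∈ O ↔ E (i, j, ind (decide (k ≠ 0))) ∈ O) := by
      intro i j k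
      refine ⟨?_, ?_, ?_⟩
      · by_cases h : i = 0
        · simp [ind, h]
        · have := hrot (n := n4) he4 (four f n5 e5 j + four f n6 e6 k)
            (by rw [op_map_add, (w5 j _).1 h45, (w6 k _).1 h46]) i h
          simp [ind, h, E, add_assoc]
          exact this
      · by_cases h : j = 0
        · simp [ind, h]
        · have := hrot (n := n5) he5 (four f n4 e4 i + four f n6 e6 k)
            (by rw [op_map_add, (w4 i _).1 h54, (w6 k _).1 h56]) j h
          simp [ind, h, E]
          rw [show four f n4 e4 i + four f n5 e5 j + four f n6 e6 k =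
            four f n5 e5 j + (four f n4 e4 i + four f n6 e6 k) by abel,
            show four f n4 e4 i + four f n5 e5 1 + four f n6 e6 k =
            four f n5 e5 1 + (four f n4 e4 i + four f n6 e6 k) by abel]
          exact this
      · by_cases h : k = 0
        · simp [ind, h]
        · have := hrot (n := n6) he6 (four f n4 e4 i + four f n5 e5 j)
            (by rw [op_map_add, (w4 i _).1 h64, (w5 j _).1 h65]) k h
          simp [ind, h, E]
          rw [add_comm _ (four f n6 e6 k), add_comm _ (four f n6 e6 1)]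
          exact this
    rw [(hstep i j k).1, (hstep _ j k).2.1, (hstep _ _ k).2.2]
    simp [S]
  -- the two permutations
  have hperm : ∀ (b : Bool) (a₁ a₂ a₃ : Bool), S a₁ a₂ a₃ = true →
      S (bif b then a₃ else a₂) (bif b then a₂ else a₁) (bif b then a₁ else a₃) = true := by
    intro b a₁ a₂ a₃ h
    obtain ⟨p1, p2, p3, p4, p5, p6⟩ := permRep_three
    have hx : E (ind a₁, ind a₂, ind a₃) ∈ O := by simpa [S] using h
    have hy := hgi b _ hx
    simp only [E, map_add] at hy
    have m4 := (w4 (ind a₁)).move hf b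
    have m5 := (w5 (ind a₂)).move hf b
    have m6 := (w6 (ind a₃)).move hf b
    have hz : ∀ {c : Fin 13} {e : U} {n : N3} (_ : Wt f c e) (_ : e ≠ 0) (_ : dot (reps c) n ≠ 0)
        {d : Fin 13} {e' : U} {n' : N3} (_ : Wt f d e') (_ : e' ≠ 0) (_ : dot (reps d) n' ≠ 0)
        (a : Bool) (i : Fin 4), four f n' e' i = f (gi b) (four f n e (ind a)) → decide (i ≠ 0) = a := by
      intro c e n he hne hn d e' n' he' hne' hn' a i heq
      cases a
      · have : four f n' e' i = four f n' e' 0 := by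
          rw [heq]; exact map_zero (f (gi b))
        simpa using four_injective hf he' hne' hn' this
      · have hi : i ≠ 0 := fun h0 => hne (gi_inj hf b (by
          rw [map_zero]
          have : f (gi b) (four f n e (ind true)) = 0 := by rw [← heq, h0]; rfl
          exact this))
        simpa using hi
    cases b
    · rw [p1] at m4; rw [p2] at m5; rw [p3] at m6
      obtain ⟨j, hj⟩ := four_surjective hf hno hmove (by decide) (by decide) he5 hz5 h55 m4
      obtain ⟨i, hi⟩ := four_surjective hf hno hmove (by decide) (by decide) he4 hz4 h44 m5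
      obtain ⟨k, hk⟩ := four_surjective hf hno hmove (by decide) (by decide) he6 hz6 h66 m6
      rw [← hi, ← hj, ← hk, add_comm (four f n5 e5 j)] at hy
      have := (hS i j k).1 hy
      rwa [hz he5 hz5 h55 he4 hz4 h44 _ _ hi, hz he4 hz4 h44 he5 hz5 h55 _ _ hj,
        hz he6 hz6 h66 he6 hz6 h66 _ _ hk] at this
    · rw [p4] at m4; rw [p5] at m5; rw [p6] at m6
      obtain ⟨k, hk⟩ := four_surjective hf hno hmove (by decide) (by decide) he6 hz6 h66 m4
      obtain ⟨j, hj⟩ := four_surjective hf hno hmove (by decide) (by decide) he5 hz5 h55 m5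
      obtain ⟨i, hi⟩ := four_surjective hf hno hmove (by decide) (by decide) he4 hz4 h44 m6
      rw [← hi, ← hj, ← hk, add_comm (four f n6 e6 k), add_comm _ (four f n4 e4 i), ← add_assoc] at hy
      have := (hS i j k).1 hy
      rwa [hz he6 hz6 h66 he4 hz4 h44 _ _ hi, hz he5 hz5 h55 he5 hz5 h55 _ _ hj,
        hz he4 hz4 h44 he6 hz6 h66 _ _ hk] at this
  have hEz : E (0, 0, 0) = 0 := by simp [E, four]
  have hcard : Nat.card O = (Finset.univ.filter fun t : Fin 4 × Fin 4 × Fin 4 =>
      S (decide (t.1 ≠ 0)) (decide (t.2.1 ≠ 0)) (decide (t.2.2 ≠ 0)) = true).card := by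
    rw [← Fintype.card_subtype, ← Nat.card_eq_fintype_card]
    refine (Nat.card_congr (Equiv.ofBijective (fun t => (⟨E t.1, (hS t.1.1 t.1.2.1 t.1.2.2).2 t.2⟩ : O))
      ⟨fun s t e => Subtype.ext (hEinj (congrArg Subtype.val e)), fun x => ?_⟩)).symm
    obtain ⟨t, ht⟩ := hEsur x x.2
    exact ⟨⟨t, (hS _ _ _).1 (show E (t.1, t.2.1, t.2.2) ∈ O from ht.symm ▸ x.2)⟩, Subtype.ext ht⟩
  rw [hcard]
  have hiff : ∀ {p q : Bool}, (p = true → q = true) → (q = true → p = true) → p = q := by decide
  refine count_table S (by simp [S, ind, hEz, h0]) (fun a b c => ?_) (fun a b c => ?_) ?_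
  · exact hiff (hperm false a b c) (hperm false b a c)
  · exact hiff (hperm true a b c) (hperm true c b a)
  · obtain ⟨x, hx⟩ := hne
    obtain ⟨t, rfl⟩ := hEsur x hx
    exact ⟨_, _, _, (hS t.1 t.2.1 t.2.2).1 hx⟩

end

end CfsgLib.Recognition.USixTwoOuter
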