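import Cfsg.Agent.Lib.Recognition.USixTwoOuter.Bridge
import Cfsg.Agent.Lib.Recognition.USixTwoOuter.WOrbit

/-!
# Operators commuting with a map without fixed vectors have a seed
-/

set_option autoImplicit false
set_option linter.unusedSectionVars false

namespace CfsgLib.Recognition.USixTwoOuter

variable {U : Type*} [AddCommGroup U] [Module (ZMod 2) U]
  {f : Fin 6 → U →ₗ[ZMod 2] U} {Q : U → ZMod 2} {β : U →ₗ[ZMod 2] U →ₗ[ZMod 2] ZMod 2}

theorem five_table : permRep true 5 = 5 ∧ ∀ n, dot (reps 5) n ≠ 0 → dot (reps 5) (perm true n + (n + n)) ≠ 0 := by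
  decide +kernel

/-- A map without fixed vectors commuting with the operators forces a seed. -/
theorem seed_of_commuting (hf : Ops f Q β) (hmove : ∃ n x, op f n x ≠ x) {C : U →ₗ[ZMod 2] U}
    (hC : ∀ i x, C (f i x) = f i (C x)) (hinj : Function.Injective C) (hfix : ∀ x, C x = x → x = 0) : ∃ x, Seed f x := by
  classical
  by_contra hno
  push Not at hno
  have hact : ∀ l x, C (act f l x) = act f l (C x) := by
    intro l x
    induction l with
    | nil => rfl
    | cons i l ih => rw [act, hC, ih]; rfl
  have hop : ∀ n x, C (op f n x) = op f n (C x) := fun n x => hact _ x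
  have hcan : ∀ m y, op f (m + m) (op f m y) = y := fun m y => by rw [op_op hf, cube, op_zero]
  have hwt : ∀ {x}, Wt f 5 x → Wt f 5 (C x) := fun {x} hx n => by
    refine ⟨fun h => by rw [← hop, (hx n).1 h], fun h => ?_⟩
    have := congrArg C ((hx n).2 h)
    rwa [map_zero, tr, map_add, map_add, hop, hop] at this
  obtain ⟨x, hx, hne⟩ := exists_wt hf hno hmove 5 (by decide) (by decide)
  obtain ⟨n₀, hn₀⟩ := nonzero 5
  -- the map is one of the two scalars on the weight space
  obtain ⟨n, hn, hCx⟩ : ∃ n, dot (reps 5) n ≠ 0 ∧ C x = op f n x := by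
    obtain ⟨i, hi⟩ := four_surjective hf hno hmove (by decide) (by decide) hx hne hn₀ (hwt hx)
    have hd : dot (reps 5) (n₀ + n₀) ≠ 0 :=
      (by decide +kernel : ∀ m : N3, dot (reps 5) m ≠ 0 → dot (reps 5) (m + m) ≠ 0) n₀ hn₀
    fin_cases i
    · exact absurd (hinj (hi.symm.trans (map_zero C).symm)) hne
    · exact absurd (hfix x hi.symm) hne
    · exact ⟨n₀, hn₀, hi.symm⟩
    · exact ⟨n₀ + n₀, hd, hi.symm⟩
  have hall : ∀ y, Wt f 5 y → C y = op f n y := by
    intro y hy
    obtain ⟨i, rfl⟩ := four_surjective hf hno hmove (by decide) (by decide) hx hne hn₀ hy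
    fin_cases i
    · show C 0 = op f n 0
      rw [map_zero, op_map_zero]
    · exact hCx
    · show C (op f n₀ x) = op f n (op f n₀ x)
      rw [hop, hCx, op_op hf, op_op hf, add_comm]
    · show C (op f (n₀ + n₀) x) = op f n (op f (n₀ + n₀) x)
      rw [hop, hCx, op_op hf, op_op hf, add_comm]
  obtain ⟨hperm, hdot⟩ := five_table
  have hy : Wt f 5 (f 4 x) := by
    have := hx.move hf true
    rwa [hperm] at this
  have hswap : op f (perm true n) (f 4 x) = f 4 (op f n x) := by
    have := hf.word _ _ (perm_table true n) x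
    rw [act_append] at this
    exact this.symm
  have h1 : op f (perm true n) (f 4 x) = op f n (f 4 x) := by
    rw [hswap, ← hCx, ← hC]
    exact hall _ hy
  have h2 : op f (perm true n + (n + n)) (f 4 x) = f 4 x := by
    rw [add_comm, ← op_op hf, h1, hcan]
  have h3 := Wt.eq_zero hf hy (hdot n hn) h2
  have h4 : f 4 x = f 4 0 := by rw [h3, map_zero]
  exact hne (gi_inj hf true h4)

end CfsgLib.Recognition.USixTwoOuter
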