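import Cfsg.Agent.Lib.Recognition.USixTwoOuter.WExclude
import Cfsg.Agent.Lib.Recognition.USixTwoOuter.Isolated
import Cfsg.Agent.Lib.Characterizations.LargeExtraspecialQuadratic
import Cfsg.Agent.Lib.Characterizations.CoType.Setup
import Cfsg.Agent.Lib.Fusion.Basic

/-!
Without natural coordinates `z` is isolated: by transfer `C(z) ∩ O^2(G)` centralises a non-abelian group of
order eight, and a conjugate there would put a conjugate of `z` into `J`.
-/

set_option autoImplicit false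
set_option maxRecDepth 100000
set_option linter.unusedSectionVars false
set_option linter.style.haveILetI false

namespace CfsgLib.Recognition.USixTwoOuter

open CfsgLib.ThreeTransp
open CfsgLib.ThreeTransp.Extraspecial (Extra mem_map_conj)
open CfsgLib.Characterizations.LargeExtraspecialTransfer (chi_eq_zero_quad_mem Setting cb cb_eq_zero_iff cb_eq_zero)

variable {G : Type*} [Group G] [Finite G]

theorem zmod_two_cases : ∀ t : ZMod 2, t = 0 ∨ t = 1 := by decide

/-- An extraspecial subgroup seen inside a larger subgroup. -/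
theorem extra_subgroupOf {Q : Subgroup G} {z : G} (h : Extra Q z) {L : Subgroup G} (hQ : Q ≤ L) (hz : z ∈ L) :
    Extra (Q.subgroupOf L) (⟨z, hz⟩ : ↥L) := by
  have hE : Cfsg.IsExtraspecial 2 ↥(Q.subgroupOf L) :=
    CfsgLib.Characterizations.CoType.isExtraspecial_congr' (Subgroup.subgroupOfEquivOfLe hQ).symm h.ext
  obtain ⟨z', hz'⟩ := Extraspecial.exists_extra hE
  rcases hz'.mem_center_cases (show (⟨z, hz⟩ : ↥L) ∈ Q.subgroupOf L from h.z_mem)
    (fun q hq => Subtype.ext (h.z_comm (Subgroup.mem_subgroupOf.1 hq))) with e | e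
  · exact absurd (congrArg Subtype.val e) h.z_ne
  · exact e.symm ▸ hz'

variable {z : G} {J K : Subgroup G} {φ : ↥K →* P40} (h : Hyp z J K φ) (f : ExtraspecialOut.Frame ↥J 8)
  (k : Fin 6 → ↥K) (hk : ∀ i, φ (k i) = gen i)
  (hops : Ops (opsOf h f k) (fun v => ExtraspecialOut.Q f v) (QuadraticMap.polarBilin (ExtraspecialOut.Q f)))
  (hno : ∀ x, ¬ Seed (opsOf h f k) x)
  (hKn : ∀ c, c * z = z * c → ∀ a ∈ K, c * a * c⁻¹ ∈ K)
  (hidx : ∀ a b, a * z = z * a → b * z = z * b → a ∉ K → b ∉ K → a * b ∈ K)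
  (hcc : ∀ c, c * z = z * c → (∀ a ∈ K, c * a * c⁻¹ * a⁻¹ ∈ J) → c ∈ J)
include h hk hops hno hKn hidx hcc

/-- Without natural coordinates `z` is isolated. -/
theorem isolated_of_fixed : Cfsg.IsIsolatedInvolution z := by
  classical
  refine ⟨h.ord, fun g hgc => ?_⟩
  by_contra hne
  have hnf : ∀ g : G, g * z * g⁻¹ ∈ J → g * z * g⁻¹ = z :=
    fun _ hu => no_fusion h f k hk hops hno hKn hidx hcc hu
  have hz' := frame_z h f
  have hzJ : z ∈ J := h.extra.z_mem
  set C := Subgroup.centralizer ({z} : Set G) with hC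
  have hmemC : ∀ {c}, c ∈ C ↔ c * z = z * c := Subgroup.mem_centralizer_singleton_iff
  have hJC : J ≤ C := h.extra.le_centralizer
  have hset : Setting J z := ⟨h.extra, hJC, fun c hc => h.normJ c (hmemC.1 hc), fun c hc =>
    h.cent c fun a ha => (Subgroup.mem_centralizer_iff.1 hc a ha).symm⟩
  set H := Cfsg.pResidual 2 G with hH
  haveI := Fintype.ofFinite (G ⧸ C)
  haveI hHn : H.Normal := inferInstance
  -- transfer: `C ∩ H ≤ K`
  have hCHK : ∀ c, c ∈ C → c ∈ H → c ∈ K := by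
    intro c hc hcH
    by_contra hcK
    have := chi_eq_zero_quad_mem hset (by rw [h.card_J]; norm_num) hnf
      (fun d => if (d : G) ∈ K then 0 else 1) (fun a b => ?_) ⟨c, hc⟩ hcH
    · simp only [if_neg hcK] at this
      exact one_ne_zero this
    · by_cases ha : (a : G) ∈ K <;> by_cases hb : (b : G) ∈ K
      · have : ((a * b : ↥C) : G) ∈ K := mul_mem ha hb
        simp only [if_pos ha, if_pos hb, if_pos this]
        rfl
      · have : ((a * b : ↥C) : G) ∉ K := fun hm => hb ((mul_mem_cancel_left ha).1 hm)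
        simp only [if_pos ha, if_neg hb, if_neg this]
        rfl
      · have : ((a * b : ↥C) : G) ∉ K := fun hm => ha ((mul_mem_cancel_right hb).1 hm)
        simp only [if_neg ha, if_pos hb, if_neg this]
        rfl
      · have : ((a * b : ↥C) : G) ∈ K := hidx a b (hmemC.1 a.2) (hmemC.1 b.2) ha hb
        simp only [if_neg ha, if_neg hb, if_pos this]
        rfl
  have hsys := plane_sys h f k hk hops hno hKn hidx hcc
  have htriv := triv_plane h f k hk hops hno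
  -- the preimage of the plane
  have hXK : ∀ (a : ↥J), f.π a ∈ plane h f k → ∀ c ∈ K, c * a * c⁻¹ = a ∨ c * a * c⁻¹ = a * z := by
    intro a ha c hc
    have e1 : f.π a = f.π ⟨c * a * c⁻¹, h.normJ c (h.K_le c hc) a a.2⟩ := by
      refine ((htriv _ ⟨⟨c, hc⟩, rfl⟩ _ ha).symm.trans ?_)
      exact lin_apply h f K h.K_le ⟨c, hc⟩ a
    rcases ExtraspecialOut.of_π_eq f e1 with e | e
    · exact Or.inl (congrArg Subtype.val (inv_mul_eq_one.1 e)).symm
    · refine Or.inr ?_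
      have e' : (a : G)⁻¹ * (c * a * c⁻¹) = z := (congrArg Subtype.val e).trans hz'
      rw [← e', mul_inv_cancel_left]
  -- transfer in `HK`: `C ∩ H` centralises the preimage of the plane
  set G1 := H ⊔ K with hG1
  have hKG1 : K ≤ G1 := le_sup_right
  have hJG1 : J ≤ G1 := h.J_le.trans hKG1
  have hC1 : ∀ c, c ∈ G1 → c ∈ C → c ∈ K := by
    intro c hc hcC
    obtain ⟨a, ha, b, hb, rfl⟩ := Subgroup.mem_sup_of_normal_left.1 hc
    refine mul_mem (hCHK a ?_ ha) hb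
    have := mul_mem hcC (inv_mem (hmemC.2 (h.K_le b hb)))
    rwa [mul_inv_cancel_right] at this
  have hHres : ∀ x (hx : x ∈ H) (hxG : x ∈ G1), (⟨x, hxG⟩ : ↥G1) ∈ Cfsg.pResidual 2 ↥G1 := by
    intro x hx
    refine Subgroup.closure_induction (p := fun x _ => ∀ hxG : x ∈ G1, (⟨x, hxG⟩ : ↥G1) ∈ Cfsg.pResidual 2 ↥G1)
      ?_ ?_ ?_ ?_ hx
    · intro y hy hyG
      exact CfsgLib.Fusion.Basic.mem_pResidual_of_coprime (by rw [Subgroup.orderOf_mk]; exact hy)
    · intro _; exact one_mem _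
    · intro a b ha hb iha ihb hab
      exact mul_mem (iha (Subgroup.mem_sup_left (show a ∈ H from ha))) (ihb (Subgroup.mem_sup_left (show b ∈ H from hb)))
    · intro a ha iha hai
      exact inv_mem (iha (Subgroup.mem_sup_left (show a ∈ H from ha)))
  have hcomm : ∀ c, c ∈ C → c ∈ H → ∀ a : ↥J, f.π a ∈ plane h f k → c * a = a * c := by
    intro c hc hcH a ha
    have hzG1 : z ∈ G1 := hJG1 hzJ
    have hcen : ∀ {d : ↥G1}, d ∈ Subgroup.centralizer ({(⟨z, hzG1⟩ : ↥G1)} : Set ↥G1) ↔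
        (d : G) * z = z * d := fun {d} => by
      rw [Subgroup.mem_centralizer_singleton_iff]
      exact ⟨fun e => congrArg Subtype.val e, fun e => Subtype.ext e⟩
    have hS1 : Setting (J.subgroupOf G1) (⟨z, hzG1⟩ : ↥G1) :=
      ⟨extra_subgroupOf h.extra hJG1 hzG1, fun d hd => hcen.2 (h.extra.z_comm (Subgroup.mem_subgroupOf.1 hd)).symm,
        fun d hd e he => Subgroup.mem_subgroupOf.2 (h.normJ d (hcen.1 hd) e (Subgroup.mem_subgroupOf.1 he)),
        fun d hd => Subgroup.mem_subgroupOf.2 (h.cent d fun b hb => (congrArg Subtype.val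
          (Subgroup.mem_centralizer_iff.1 hd ⟨b, hJG1 hb⟩ (Subgroup.mem_subgroupOf.2 hb))).symm)⟩
    have hcard : 128 ≤ Nat.card ↥(J.subgroupOf G1) := by
      rw [Nat.card_congr (Subgroup.subgroupOfEquivOfLe hJG1).toEquiv, h.card_J]; norm_num
    have hnf1 : ∀ t : ↥G1, t * ⟨z, hzG1⟩ * t⁻¹ ∈ J.subgroupOf G1 → t * ⟨z, hzG1⟩ * t⁻¹ = ⟨z, hzG1⟩ :=
      fun t ht => Subtype.ext (hnf t (Subgroup.mem_subgroupOf.1 ht))
    haveI := Fintype.ofFinite (↥G1 ⧸ Subgroup.centralizer ({(⟨z, hzG1⟩ : ↥G1)} : Set ↥G1))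
    have hcG1 : c ∈ G1 := Subgroup.mem_sup_left (show c ∈ H from hcH)
    have := chi_eq_zero_quad_mem hS1 hcard hnf1
      (fun d => cb ((d : ↥G1) : G) (a : G)) (fun p q => ?_) ⟨⟨c, hcG1⟩, hcen.2 (hmemC.1 hc)⟩ (hHres c hcH hcG1)
    · exact cb_eq_zero_iff.1 this
    · have hp : ((p : ↥G1) : G) ∈ K := hC1 _ (p : ↥G1).2 (hmemC.2 (hcen.1 p.2))
      have hq : ((q : ↥G1) : G) ∈ K := hC1 _ (q : ↥G1).2 (hmemC.2 (hcen.1 q.2))
      have hval : ∀ d ∈ K, (cb d (a : G) = 0 ∧ d * a * d⁻¹ = a) ∨ (cb d (a : G) = 1 ∧ d * a * d⁻¹ = a * z) := by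
        intro d hd
        rcases hXK a ha d hd with e | e
        · exact Or.inl ⟨cb_eq_zero (mul_inv_eq_iff_eq_mul.1 e), e⟩
        · refine Or.inr ⟨?_, e⟩
          by_contra hne1
          have h0 : cb d (a : G) = 0 := (zmod_two_cases _).resolve_right hne1
          rw [mul_inv_eq_iff_eq_mul.2 (cb_eq_zero_iff.1 h0)] at e
          exact h.extra.z_ne (left_eq_mul.1 e)
      show cb (((p : ↥G1) : G) * ((q : ↥G1) : G)) (a : G) = _
      set p' := ((p : ↥G1) : G)
      set q' := ((q : ↥G1) : G)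
      have hconj : p' * q' * a * (p' * q')⁻¹ = p' * (q' * a * q'⁻¹) * p'⁻¹ := by group
      have hpz : p' * z * p'⁻¹ = z := mul_inv_eq_iff_eq_mul.2 (h.K_le p' hp)
      have hne2 : (a : G) ≠ a * z := fun e => h.extra.z_ne (left_eq_mul.1 e)
      rcases hval p' hp with ⟨ep, ep'⟩ | ⟨ep, ep'⟩ <;> rcases hval q' hq with ⟨eq, eq'⟩ | ⟨eq, eq'⟩ <;>
        rcases hval (p' * q') (mul_mem hp hq) with ⟨e, e'⟩ | ⟨e, e'⟩ <;> rw [ep, eq, e] <;>
        first
          | decide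
          | (exfalso
             rw [hconj, eq'] at e'
             simp only [show p' * (a * z) * p'⁻¹ = p' * a * p'⁻¹ * (p' * z * p'⁻¹) by group, ep', hpz,
               mul_assoc, h.extra.z_sq, mul_one] at e'
             exact absurd e' (by first | exact hne2 | exact hne2.symm))
  -- two noncommuting elements over the plane
  obtain ⟨v1, hv1, v2, hv2, hv12⟩ : ∃ v1 ∈ plane h f k, ∃ v2 ∈ plane h f k,
      QuadraticMap.polarBilin (ExtraspecialOut.Q f) v1 v2 = 1 := by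
    by_contra hcon
    push Not at hcon
    have : ∀ v ∈ plane h f k, v = 0 := fun v hv => hsys.inf hv fun w hw => by
      exact (zmod_two_cases _).resolve_right (hcon w hw v hv)
    haveI : Subsingleton (plane h f k) := ⟨fun a b => Subtype.ext ((this _ a.2).trans (this _ b.2).symm)⟩
    have h4 := hsys.cardF
    rw [Nat.card_eq_one_iff_unique.2 ⟨inferInstance, ⟨⟨0, zero_mem _⟩⟩⟩] at h4
    omega
  obtain ⟨x1, rfl⟩ := f.π_surj v1
  obtain ⟨x2, rfl⟩ := f.π_surj v2
  have hcm : ∀ {a b : ↥J}, QuadraticMap.polarBilin (ExtraspecialOut.Q f) (f.π a) (f.π b) = 1 →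
      (b : G) * a * (b : G)⁻¹ = a * z := fun {a b} hab =>
    h.extra.conj_eq_of_not_comm a.2 b.2 fun e => by
      rw [QuadraticMap.polarBilin_apply_apply, ExtraspecialOut.polar_Q, ExtraspecialOut.ε,
        if_pos (Subtype.ext (show (a : G)⁻¹ * b * a * (b : G)⁻¹ = 1 by rw [mul_assoc _ (b : G), e]; group))] at hab
      exact zero_ne_one hab
  have h12 : (x2 : G) * x1 * (x2 : G)⁻¹ = x1 * z := hcm hv12
  have h21 : (x1 : G) * x2 * (x1 : G)⁻¹ = x2 * z := hcm (by rw [Plane.beta_comm]; exact hv12)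
  -- `K = XL`
  have hdecomp : ∀ c ∈ K, ∃ a : ↥J, f.π a ∈ plane h f k ∧ (a : G)⁻¹ * c * x1 = x1 * ((a : G)⁻¹ * c) ∧
      (a : G)⁻¹ * c * x2 = x2 * ((a : G)⁻¹ * c) := by
    intro c hc
    have hfix : ∀ (a x : G), a * x * a⁻¹ = x → a * x = x * a := fun a x e => mul_inv_eq_iff_eq_mul.1 e
    have hzc : ∀ w : G, w ∈ J → w⁻¹ * z * w = z := fun w hw => by
      rw [mul_assoc, h.extra.z_comm hw, inv_mul_cancel_left]
    have hconj : ∀ w x : G, w * x * w⁻¹ = x * z → w ∈ J → x ∈ J → w⁻¹ * x * w = x * z := fun w x e hw hx => by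
      have e1 : w⁻¹ * x * w = w⁻¹ * ((w * x * w⁻¹) * z) * w := by
        rw [e, mul_assoc x z z, h.extra.z_sq, mul_one]
      rw [show w⁻¹ * ((w * x * w⁻¹) * z) * w = x * (w⁻¹ * z * w) by group, hzc w hw] at e1
      exact e1
    have hcomp : ∀ w x : G, (w⁻¹ * c) * x * (w⁻¹ * c)⁻¹ = w⁻¹ * (c * x * c⁻¹) * w := fun w x => by group
    have hmm : ∀ w x y : G, w⁻¹ * (x * y) * w = (w⁻¹ * x * w) * (w⁻¹ * y * w) := fun w x y => by group
    rcases hXK x1 hv1 c hc with e1 | e1 <;> rcases hXK x2 hv2 c hc with e2 | e2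
    · refine ⟨1, by rw [ExtraspecialOut.π_one]; exact zero_mem _, hfix _ _ ?_, hfix _ _ ?_⟩ <;>
        simp [e1, e2]
    · refine ⟨x1, hv1, hfix _ _ ?_, hfix _ _ ?_⟩
      · rw [hcomp, e1]; group
      · rw [hcomp, e2, hmm, hconj _ _ h21 x1.2 x2.2, hzc _ x1.2, mul_assoc, h.extra.z_sq, mul_one]
    · refine ⟨x2, hv2, hfix _ _ ?_, hfix _ _ ?_⟩
      · rw [hcomp, e1, hmm, hconj _ _ h12 x2.2 x1.2, hzc _ x2.2, mul_assoc, h.extra.z_sq, mul_one]
      · rw [hcomp, e2]; group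
    · refine ⟨x1 * x2, by rw [f.π_mul]; exact add_mem hv1 hv2, hfix _ _ ?_, hfix _ _ ?_⟩
      · rw [hcomp, e1, Subgroup.coe_mul,
          show ((x1 : G) * x2)⁻¹ * (x1 * z) * (x1 * x2) = (x2 : G)⁻¹ * (x1 * ((x1 : G)⁻¹ * z * x1)) * x2 by group,
          hzc _ x1.2, hmm, hconj _ _ h12 x2.2 x1.2, hzc _ x2.2, mul_assoc, h.extra.z_sq, mul_one]
      · rw [hcomp, e2, Subgroup.coe_mul,
          show ((x1 : G) * x2)⁻¹ * (x2 * z) * (x1 * x2) =
            (x2 : G)⁻¹ * (((x1 : G)⁻¹ * x2 * x1) * ((x1 : G)⁻¹ * z * x1)) * x2 by group,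
          hzc _ x1.2, hconj _ _ h21 x1.2 x2.2, mul_assoc (x2 : G) z z, h.extra.z_sq, mul_one]
        group
  -- elements of `J` over the complement lie in `H`
  have hM : ∀ c ∈ K, ∃ m, m ∈ K ∧ m ∈ H ∧ m⁻¹ * c ∈ J := by
    intro c hc
    let M : Subgroup ↥K := H.subgroupOf K
    have h40 : K40 ≤ M.map φ := by
      refine normal_eq_K40 ?_ ?_
      · intro q hq m hm
        obtain ⟨a, rfl⟩ : ∃ a, φ a = q := MonoidHom.mem_range.1 (h.range ▸ hq)
        obtain ⟨b, hb, rfl⟩ := hm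
        exact ⟨a * b * a⁻¹, hHn.conj_mem _ hb _, by rw [map_mul, map_mul, map_inv]⟩
      · obtain ⟨a, ha⟩ : ∃ a, φ a = gc 0 := MonoidHom.mem_range.1 (h.range ▸ gc_mem 0)
        haveI : Fact (Nat.Prime 2) := ⟨Nat.prime_two⟩
        obtain ⟨n, hn⟩ := CfsgLib.Fusion.Basic.exists_pow_coprime (p := 2) a
        have h2 : (a ^ 2 ^ n) ^ 2 ^ n ∈ M := pow_mem (by
          show ((a ^ 2 ^ n : ↥K) : G) ∈ H
          exact CfsgLib.Fusion.Basic.mem_pResidual_of_coprime (by rwa [Subgroup.orderOf_coe])) _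
        refine ⟨_, h2, ?_⟩
        have h3 : gc 0 ^ 3 = 1 := by decide +kernel
        rw [map_pow, map_pow, ha, ← pow_mul, ← pow_add]
        have h4 : 2 ^ (n + n) % 3 = 1 := by
          rw [← two_mul, pow_mul, Nat.pow_mod]
          norm_num
        conv_lhs => rw [← Nat.div_add_mod (2 ^ (n + n)) 3, h4, pow_add, pow_mul, h3, one_pow, one_mul, pow_one]
    obtain ⟨m, hm, hme⟩ := h40 (h.range ▸ ⟨⟨c, hc⟩, rfl⟩ : φ ⟨c, hc⟩ ∈ K40)
    refine ⟨m, m.2, hm, (h.ker (m⁻¹ * ⟨c, hc⟩)).1 ?_⟩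
    rw [map_mul, map_inv, hme, inv_mul_cancel]
  let W : AddSubgroup V :=
    { carrier := {x | ∃ a : ↥J, (a : G) ∈ H ∧ f.π a = x}
      add_mem' := fun {x y} ⟨a, ha, e⟩ ⟨b, hb, e'⟩ => ⟨a * b, mul_mem ha hb, by rw [f.π_mul, e, e']⟩
      zero_mem' := ⟨1, one_mem _, ExtraspecialOut.π_one f⟩
      neg_mem' := fun {x} ⟨a, ha, e⟩ => ⟨a, ha, by rw [ZModModule.neg_eq_self, e]⟩ }
  have hWmv : ∀ q ∈ G0 h f, ∀ v, q v + v ∈ W := by
    rintro _ ⟨c, rfl⟩ v
    obtain ⟨a, rfl⟩ := f.π_surj v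
    obtain ⟨m, hmK, hmH, hmJ⟩ := hM c c.2
    have e1 : lin f h K h.K_le c = lin f h K h.K_le ⟨m, hmK⟩ := by
      have : lin f h K h.K_le ((⟨m, hmK⟩ : ↥K)⁻¹ * c) = 1 := (lin_eq_one h f _ _ _).2 hmJ
      rw [map_mul, map_inv, inv_mul_eq_one] at this
      exact this.symm
    refine ⟨⟨m * a * m⁻¹, h.normJ m (h.K_le m hmK) a a.2⟩ * a⁻¹, ?_, ?_⟩
    · show m * (a : G) * m⁻¹ * (a : G)⁻¹ ∈ H
      rw [show m * (a : G) * m⁻¹ * (a : G)⁻¹ = m * ((a : G) * m⁻¹ * (a : G)⁻¹) by group]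
      exact mul_mem hmH (hHn.conj_mem _ (inv_mem hmH) _)
    · rw [f.π_mul, ExtraspecialOut.π_inv, e1]
      congr 1
      exact (lin_apply h f K h.K_le ⟨m, hmK⟩ a).symm
  have hPW : Plane.perp (ExtraspecialOut.Q f) (plane h f k) ≤ W := by
    let W' := W ⊓ Plane.perp (ExtraspecialOut.Q f) (plane h f k)
    rcases hsys.irred W' inf_le_right (fun q hq x hx => ⟨by
        have := add_mem (hWmv q hq x) hx.1
        rwa [add_assoc, ZModModule.add_self, add_zero] at this, hsys.presP (hsys.le hq) hx.2⟩) with e | e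
    · exfalso
      obtain ⟨a, ha, ha0⟩ : ∃ a ∈ Plane.perp (ExtraspecialOut.Q f) (plane h f k), a ≠ 0 := by
        by_contra hcon
        push Not at hcon
        have h64 := hsys.cardP
        rw [(AddSubgroup.eq_bot_iff_forall _).2 hcon, AddSubgroup.card_bot] at h64
        omega
      obtain ⟨q, hq, hq5, -⟩ := hsys.five a ha ha0
      have : q = 1 := hsys.faith q (hsys.le hq) fun x hx => by
        have hm : q x + x ∈ W' := ⟨hWmv q hq x, add_mem (hsys.presP (hsys.le hq) hx) hx⟩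
        rw [e, AddSubgroup.mem_bot] at hm
        exact (eq_neg_of_add_eq_zero_left hm).trans (ZModModule.neg_eq_self _)
      rw [this, orderOf_one] at hq5
      omega
    · exact fun x hx => (e hx).1
  have hliftH : ∀ a : ↥J, f.π a ∈ W → z ∈ H → (a : G) ∈ H := by
    intro a ⟨b, hb, hba⟩ hzH
    rcases ExtraspecialOut.of_π_eq f hba with e | e
    · rw [← inv_mul_eq_one.1 e]; exact hb
    · rw [show a = b * f.z by rw [← e, mul_inv_cancel_left], Subgroup.coe_mul, hz']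
      exact mul_mem hb hzH
  have hzH : z ∈ H := by
    obtain ⟨a, ha, ha0⟩ : ∃ a ∈ Plane.perp (ExtraspecialOut.Q f) (plane h f k), a ≠ 0 := by
      by_contra hcon
      push Not at hcon
      have h64 := hsys.cardP
      rw [(AddSubgroup.eq_bot_iff_forall _).2 hcon, AddSubgroup.card_bot] at h64
      omega
    obtain ⟨w, hw, haw⟩ : ∃ w ∈ Plane.perp (ExtraspecialOut.Q f) (plane h f k),
        QuadraticMap.polarBilin (ExtraspecialOut.Q f) a w = 1 := by
      by_contra hcon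
      push Not at hcon
      refine ha0 (hsys.nondeg a fun v => ?_)
      obtain ⟨u, hu, y, hy, rfl⟩ := hsys.dec v
      have hy0 : QuadraticMap.polarBilin (ExtraspecialOut.Q f) a y = 0 :=
        (zmod_two_cases _).resolve_right (hcon y hy)
      rw [map_add, hy0, add_zero, Plane.beta_comm]
      exact ha u hu
    obtain ⟨a', ha', rfl⟩ := hPW ha
    obtain ⟨w', hw', rfl⟩ := hPW hw
    have e := hcm haw
    have : (a' : G)⁻¹ * ((w' : G) * a' * (w' : G)⁻¹) ∈ H := mul_mem (inv_mem ha') (hHn.conj_mem _ ha' _)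
    rwa [e, inv_mul_cancel_left] at this
  -- elements of `K` centralising the two lie in `H`
  have hLH : ∀ l ∈ K, l * x1 = x1 * l → l * x2 = x2 * l → l ∈ H := by
    intro l hl e1 e2
    obtain ⟨m, hmK, hmH, hj⟩ := hM l hl
    set j : ↥J := ⟨m⁻¹ * l, hj⟩
    have hmC : m ∈ C := hmemC.2 (h.K_le m hmK)
    have hjc : ∀ a : ↥J, f.π a ∈ plane h f k → l * a = a * l → (j : G) * a = a * j := by
      intro a ha e
      have hm := hcomm m hmC hmH a ha
      show m⁻¹ * l * a = a * (m⁻¹ * l)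
      calc m⁻¹ * l * (a : G) = m⁻¹ * (a * m) * (m⁻¹ * l) := by rw [mul_assoc, e]; group
        _ = a * (m⁻¹ * l) := by rw [← hm]; group
    have hβ0 : ∀ a : ↥J, (j : G) * a = a * j →
        QuadraticMap.polarBilin (ExtraspecialOut.Q f) (f.π a) (f.π j) = 0 := by
      intro a e
      rw [QuadraticMap.polarBilin_apply_apply, ExtraspecialOut.polar_Q, ExtraspecialOut.ε,
        if_pos (Subtype.ext (show (a : G)⁻¹ * j * a * (j : G)⁻¹ = 1 by rw [mul_assoc _ (j : G), e]; group))]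
    have b1 := hβ0 x1 (hjc x1 hv1 e1)
    have b2 := hβ0 x2 (hjc x2 hv2 e2)
    obtain ⟨u, hu, y, hy, huy⟩ := hsys.dec (f.π j)
    have hu0 : u = 0 := by
      have c1 : QuadraticMap.polarBilin (ExtraspecialOut.Q f) (f.π x1) u = 0 := by
        rwa [huy, map_add, hy _ hv1, add_zero] at b1
      have c2 : QuadraticMap.polarBilin (ExtraspecialOut.Q f) (f.π x2) u = 0 := by
        rwa [huy, map_add, hy _ hv2, add_zero] at b2
      refine hsys.inf hu fun v hv => ?_
      haveI := Fintype.ofFinite (plane h f k)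
      have hx10 : f.π x1 ≠ 0 := fun e => by rw [e, map_zero] at hv12; exact zero_ne_one hv12
      have hx20 : f.π x2 ≠ 0 := fun e => by rw [e, map_zero] at hv12; exact zero_ne_one hv12
      have hx12 : f.π x1 ≠ f.π x2 := fun e => by rw [e, Plane.beta_self] at hv12; exact zero_ne_one hv12
      have hsub : ({0, f.π x1, f.π x2, f.π x1 + f.π x2} : Finset V) ⊆ (plane h f k : Set V).toFinset := by
        intro t ht
        simp at ht
        rcases ht with rfl | rfl | rfl | rfl <;> simp [hv1, hv2, add_mem, zero_mem]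
      have heq := Finset.eq_of_subset_of_card_le hsub (by
        rw [Plane.card_four hx10 hx20 hx12, Set.toFinset_card, ← Nat.card_eq_fintype_card,
          show Nat.card ↥(plane h f k : Set V) = 4 from hsys.cardF])
      have : v ∈ ({0, f.π x1, f.π x2, f.π x1 + f.π x2} : Finset V) := by rw [heq]; simpa using hv
      simp at this
      rcases this with rfl | rfl | rfl | rfl
      · simp
      · exact c1
      · exact c2
      · rw [map_add, LinearMap.add_apply, c1, c2, add_zero]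
    rw [hu0, zero_add] at huy
    have hjH : (j : G) ∈ H := hliftH j (huy ▸ hPW hy) hzH
    have := mul_mem hmH hjH
    rwa [show m * (j : G) = l from mul_inv_cancel_left m l] at this
  -- a conjugate commuting with `z` puts a conjugate of `z` into `J`
  set z1 := g * z * g⁻¹ with hz1
  have hz1C : z1 ∈ C := hmemC.2 hgc.eq.symm
  have hz1H : z1 ∈ H := hHn.conj_mem z hzH g
  set z' := g⁻¹ * z * g with hz''
  have hz'C : z' ∈ C := by
    refine hmemC.2 ?_
    calc g⁻¹ * z * g * z = g⁻¹ * (z * z1) * g := by rw [hz1]; group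
      _ = g⁻¹ * (z1 * z) * g := by rw [hgc.eq]
      _ = _ := by rw [hz'', hz1]; group
  have hz'H : z' ∈ H := by
    have := hHn.conj_mem z hzH g⁻¹
    rwa [inv_inv] at this
  have hback : ∀ a : G, a * z1 = z1 * a → g⁻¹ * a * g ∈ C := fun a ha => by
    refine hmemC.2 ?_
    calc g⁻¹ * a * g * z = g⁻¹ * (a * z1) * g := by rw [hz1]; group
      _ = g⁻¹ * (z1 * a) * g := by rw [ha]
      _ = _ := by rw [hz1]; group
  have hx1C : g⁻¹ * x1 * g ∈ C := hback x1 (hcomm z1 hz1C hz1H x1 hv1).symm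
  have hx2C : g⁻¹ * x2 * g ∈ C := hback x2 (hcomm z1 hz1C hz1H x2 hv2).symm
  obtain ⟨x, y, hxp, hyp, hxy, hxK⟩ : ∃ x y : ↥J, f.π x ∈ plane h f k ∧ f.π y ∈ plane h f k ∧
      QuadraticMap.polarBilin (ExtraspecialOut.Q f) (f.π x) (f.π y) = 1 ∧ g⁻¹ * x * g ∈ K := by
    by_cases k1 : g⁻¹ * x1 * g ∈ K
    · exact ⟨x1, x2, hv1, hv2, hv12, k1⟩
    by_cases k2 : g⁻¹ * x2 * g ∈ K
    · exact ⟨x2, x1, hv2, hv1, by rw [Plane.beta_comm]; exact hv12, k2⟩
    refine ⟨x1 * x2, x2, by rw [f.π_mul]; exact add_mem hv1 hv2, hv2, by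
      rw [f.π_mul, map_add, LinearMap.add_apply, hv12, Plane.beta_self, add_zero], ?_⟩
    rw [Subgroup.coe_mul, show g⁻¹ * ((x1 : G) * x2) * g = g⁻¹ * x1 * g * (g⁻¹ * x2 * g) by group]
    exact hidx _ _ (hmemC.1 hx1C) (hmemC.1 hx2C) k1 k2
  obtain ⟨a, hap, ha1, ha2⟩ := hdecomp _ hxK
  set l' := (a : G)⁻¹ * (g⁻¹ * x * g) with hl'
  have hl'K : l' ∈ K := mul_mem (inv_mem (h.J_le a.2)) hxK
  have hl'H : l' ∈ H := hLH l' hl'K ha1 ha2
  have hlz : g * l' * g⁻¹ ∈ C := by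
    refine hmemC.2 ?_
    have e1 : z' * a = a * z' := hcomm z' hz'C hz'H a hap
    have e2 : z' * (g⁻¹ * x * g) = g⁻¹ * x * g * z' := by
      calc z' * (g⁻¹ * x * g) = g⁻¹ * (z * x) * g := by rw [hz'']; group
        _ = g⁻¹ * (x * z) * g := by rw [h.extra.z_comm x.2]
        _ = _ := by rw [hz'']; group
    have e3 : z' * l' = l' * z' := by
      calc z' * l' = (a : G)⁻¹ * (a * z') * (a : G)⁻¹ * (g⁻¹ * x * g) := by rw [hl']; group
        _ = (a : G)⁻¹ * (z' * (g⁻¹ * x * g)) := by rw [← e1]; group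
        _ = _ := by rw [e2, hl']; group
    calc g * l' * g⁻¹ * z = g * (l' * z') * g⁻¹ := by rw [hz'']; group
      _ = g * (z' * l') * g⁻¹ := by rw [e3]
      _ = _ := by rw [hz'']; group
  set l := g * l' * g⁻¹ with hl
  have hly : l * y = y * l := hcomm l hlz (hHn.conj_mem l' hl'H g) y hyp
  set a' := g * (a : G) * g⁻¹ with ha'
  have hxal : (x : G) = a' * l := by rw [ha', hl, hl']; group
  have hJn' : ∀ b : G, b * z1 = z1 * b → ∀ t : G, g⁻¹ * t * g ∈ J → g⁻¹ * (b * t * b⁻¹) * g ∈ J := by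
    intro b hb t ht
    have := h.normJ _ (hmemC.1 (hback b hb)) _ ht
    rwa [show g⁻¹ * b * g * (g⁻¹ * t * g) * (g⁻¹ * b * g)⁻¹ = g⁻¹ * (b * t * b⁻¹) * g by group] at this
  have hzy : g⁻¹ * z * g ∈ J := by
    have hyx : (y : G) * x * (y : G)⁻¹ = x * z := hcm hxy
    have e : z = l⁻¹ * (a'⁻¹ * ((y : G) * a' * (y : G)⁻¹)) * l := by
      have h1 : (x : G)⁻¹ * ((y : G) * x * (y : G)⁻¹) = z := by rw [hyx, inv_mul_cancel_left]
      calc z = (x : G)⁻¹ * ((y : G) * x * (y : G)⁻¹) := h1.symm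
        _ = l⁻¹ * a'⁻¹ * ((y : G) * a' * (y : G)⁻¹) * ((y : G) * l * (y : G)⁻¹) := by rw [hxal]; group
        _ = _ := by rw [← hly, mul_inv_cancel_right]; group
    have hA : g⁻¹ * a' * g ∈ J := by
      rw [ha', show g⁻¹ * (g * (a : G) * g⁻¹) * g = a by group]; exact a.2
    have hB := hJn' y (hcomm z1 hz1C hz1H y hyp).symm a' hA
    have hz1J : g⁻¹ * (a'⁻¹ * ((y : G) * a' * (y : G)⁻¹)) * g ∈ J := by
      have := mul_mem (inv_mem hA) hB
      rwa [show (g⁻¹ * a' * g)⁻¹ * (g⁻¹ * ((y : G) * a' * (y : G)⁻¹) * g) =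
        g⁻¹ * (a'⁻¹ * ((y : G) * a' * (y : G)⁻¹)) * g by group] at this
    have hlz1 : l⁻¹ * z1 = z1 * l⁻¹ := by
      have e4 : l * z1 = z1 * l := by
        calc l * z1 = g * (l' * z) * g⁻¹ := by rw [hl, hz1]; group
          _ = g * (z * l') * g⁻¹ := by rw [h.K_le l' hl'K]
          _ = _ := by rw [hl, hz1]; group
      exact (Commute.inv_left e4).eq
    have := hJn' l⁻¹ hlz1 _ hz1J
    rw [inv_inv, ← e] at this
    exact this
  have hlast := hnf g⁻¹ (by rwa [inv_inv])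
  rw [inv_inv] at hlast
  exact hne (by
    calc g * z * g⁻¹ = g * (g⁻¹ * z * g) * g⁻¹ := by rw [hlast]
      _ = z := by group)

/-- Without natural coordinates the odd core supplements `C(z)`. -/
theorem fixed_supplement : Subgroup.centralizer ({z} : Set G) ⊔ Cfsg.oddCore G = ⊤ :=
  sup_oddCore_eq_top (isolated_of_fixed h f k hk hops hno hKn hidx hcc)

end CfsgLib.Recognition.USixTwoOuter
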