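import Cfsg.Agent.Lib.Recognition.USixTwoOuter.Weights
import Cfsg.Agent.Lib.Recognition.USixTwo.Setup
import Cfsg.Agent.Lib.Characterizations.LargeExtraspecialTransfer
import Cfsg.Agent.Lib.ThreeTransp.ExtraspecialOut

/-!
From `C(z)` with a normal subgroup `K` such that `K/J ≅ PSp₄(3)`, `J` extraspecial of order `2⁹`, to
coordinates on `J/⟨z⟩`: either those of the natural unitary module, or an invariant subspace of order four.
-/

set_option autoImplicit false
set_option maxRecDepth 100000
set_option linter.unusedSectionVars false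
set_option linter.style.haveILetI false

namespace CfsgLib.Recognition.USixTwoOuter

open CfsgLib.ThreeTransp
open CfsgLib.Classical.PSpThree (exists_psp psp_congr')
open CfsgLib.Recognition.USixTwo (V4)

theorem range_fun_eq (c : Fin 40 → P40) (hc : ∀ v i, c v i = CfsgLib.Classical.PSpThree.perms v i) : c = gc :=
  funext fun v => Equiv.ext fun i => hc v i

theorem card_K40 : Nat.card K40 = 25920 := by
  obtain ⟨φ, -, hcard, c, hc, hr⟩ := exists_psp
  rw [← hcard, hr, range_fun_eq c hc]
  rfl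

theorem exists_iso40 {F : Type*} [Field F] [Fintype F] (hF : Fintype.card F = 3) :
    Nonempty (Cfsg.PSp 2 F ≃* K40) := by
  haveI : Fact (Nat.Prime 3) := ⟨by norm_num⟩
  obtain ⟨φ, hker, -, c, hc, hr⟩ := exists_psp
  obtain ⟨j⟩ := psp_congr' (FiniteField.ringEquivOfCardEq (K := F) (K' := ZMod 3) (by rw [hF, ZMod.card])) 2
  refine ⟨j.trans (((QuotientGroup.quotientMulEquivOfEq hker.symm).trans
    (QuotientGroup.quotientKerEquivRange φ)).trans (MulEquiv.subgroupCongr ?_))⟩
  rw [hr, range_fun_eq c hc]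
  rfl

variable {G : Type*} [Group G] [Finite G]

/-- `J` is extraspecial of order `2⁹` in `C(z)`, `K/J` is the group of forty points. -/
structure Hyp (z : G) (J K : Subgroup G) (φ : ↥K →* P40) : Prop where
  ord : orderOf z = 2
  extra : Extraspecial.Extra J z
  card_J : Nat.card J = 512
  normJ : ∀ c, c * z = z * c → ∀ a ∈ J, c * a * c⁻¹ ∈ J
  cent : ∀ c, (∀ a ∈ J, c * a = a * c) → c ∈ J
  K_le : ∀ k ∈ K, k * z = z * k
  J_le : J ≤ K
  range : φ.range = K40
  ker : ∀ k : ↥K, φ k = 1 ↔ (k : G) ∈ J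

variable {z : G} {J K : Subgroup G} {φ : ↥K →* P40}

theorem Hyp.mem_K {h : Hyp z J K φ} (i : Fin 6) : ∃ k : ↥K, φ k = gen i :=
  MonoidHom.mem_range.1 (h.range ▸ gen_mem i)

/-- Conjugation on `J`. -/
def conjJ (h : Hyp z J K φ) (C : Subgroup G) (hC : ∀ c ∈ C, c * z = z * c) : ↥C →* MulAut ↥J where
  toFun c :=
    { toFun := fun x => ⟨c * x * (c : G)⁻¹, h.normJ c (hC c c.2) x x.2⟩
      invFun := fun x => ⟨(c : G)⁻¹ * x * c, by
        have := h.normJ (c⁻¹ : ↥C) (hC _ (c⁻¹).2) x x.2
        simpa using this⟩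
      left_inv := fun x => Subtype.ext (by simp [mul_assoc])
      right_inv := fun x => Subtype.ext (by simp [mul_assoc])
      map_mul' := fun x y => Subtype.ext (by simp [mul_assoc]) }
  map_one' := MulEquiv.ext fun x => Subtype.ext (by simp)
  map_mul' c d := MulEquiv.ext fun x => Subtype.ext (by simp [mul_assoc])

/-- The action on `J/⟨z⟩` in coordinates. -/
noncomputable def lin (f : ExtraspecialOut.Frame ↥J 8) (h : Hyp z J K φ) (C : Subgroup G)
    (hC : ∀ c ∈ C, c * z = z * c) : ↥C →* (V ≃ₗ[ZMod 2] V) :=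
  (Subgroup.subtype _).comp ((ExtraspecialOut.toO f).comp (conjJ h C hC))

variable (h : Hyp z J K φ) (f : ExtraspecialOut.Frame ↥J 8)
include h

theorem lin_apply (C : Subgroup G) (hC : ∀ c ∈ C, c * z = z * c) (c : ↥C) (a : ↥J) :
    lin f h C hC c (f.π a) = f.π (conjJ h C hC c a) :=
  ExtraspecialOut.toO_apply f _ a

theorem lin_q (C : Subgroup G) (hC : ∀ c ∈ C, c * z = z * c) (c : ↥C) (v : V) :
    ExtraspecialOut.Q f (lin f h C hC c v) = ExtraspecialOut.Q f v :=
  ((ExtraspecialOut.toO f) (conjJ h C hC c)).2 v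

theorem lin_eq_one (C : Subgroup G) (hC : ∀ c ∈ C, c * z = z * c) (c : ↥C) :
    lin f h C hC c = 1 ↔ (c : G) ∈ J := by
  have e : lin f h C hC c = 1 ↔ conjJ h C hC c ∈ Cfsg.Inn ↥J := by
    rw [← ExtraspecialOut.ker_toO f, MonoidHom.mem_ker]
    exact ⟨fun e => Subtype.ext e, fun e => congrArg Subtype.val e⟩
  rw [e]
  constructor
  · rintro ⟨a, ha⟩
    have hm : (a : G)⁻¹ * c ∈ J := h.cent _ fun q hq => by
      have h1 := congrArg (fun φ : MulAut ↥J => ((φ ⟨q, hq⟩ : ↥J) : G)) ha
      change (a : G) * q * (a : G)⁻¹ = (c : G) * q * (c : G)⁻¹ at h1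
      calc (a : G)⁻¹ * c * q = (a : G)⁻¹ * (c * q * (c : G)⁻¹) * c := by group
        _ = q * ((a : G)⁻¹ * c) := by rw [← h1]; group
    simpa using mul_mem a.2 hm
  · intro hc
    exact ⟨⟨c, hc⟩, MulEquiv.ext fun x => rfl⟩

/-- The six operators satisfy the relations. -/
theorem exists_ops : ∃ (k : Fin 6 → ↥K), (∀ i, φ (k i) = gen i) ∧
    Ops (fun i => (lin f h K h.K_le (k i)).toLinearMap) (fun v => ExtraspecialOut.Q f v)
      (QuadraticMap.polarBilin (ExtraspecialOut.Q f)) := by
  classical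
  choose k hk using fun i => MonoidHom.mem_range.1 (h.range ▸ gen_mem i : gen i ∈ φ.range)
  refine ⟨k, hk, ⟨?_, fun i u => lin_q h f _ _ _ u, fun u v => ?_, fun u hu => ?_, ?_⟩⟩
  · have hact : ∀ l : List (Fin 6), ∀ u, act (fun i => (lin f h K h.K_le (k i)).toLinearMap) l u =
        lin f h K h.K_le (l.map k).prod u := by
      intro l u
      induction l with
      | nil => simp [act]
      | cons i l ih => rw [act, ih, List.map_cons, List.prod_cons, map_mul]; rfl
    intro l l' e u
    have hφ : ∀ l : List (Fin 6), φ (l.map k).prod = (l.map gen).prod := fun l => by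
      rw [map_list_prod, List.map_map]; congr 1; exact List.map_congr_left fun i _ => hk i
    have h1 : lin f h K h.K_le ((l'.map k).prod⁻¹ * (l.map k).prod) = 1 := (lin_eq_one h f _ _ _).2
      ((h.ker _).1 (by rw [map_mul, map_inv, hφ, hφ, e, inv_mul_cancel]))
    rw [map_mul, map_inv, inv_mul_eq_one] at h1
    rw [hact, hact, h1]
  · show ExtraspecialOut.Q f (u + v) = ExtraspecialOut.Q f u + ExtraspecialOut.Q f v + _
    rw [QuadraticMap.polarBilin_apply_apply, QuadraticMap.polar]
    ring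
  · exact (ExtraspecialOut.nondeg f).1 u hu
  · rw [Nat.card_eq_fintype_card, Fintype.card_fun, ZMod.card, Fintype.card_fin]; norm_num

/-- The generators and `J` generate `K`. -/
theorem generate (k : Fin 6 → ↥K) (hk : ∀ i, φ (k i) = gen i) (P : Subgroup ↥K) (hP : ∀ i, k i ∈ P)
    (hJ : ∀ a : ↥K, (a : G) ∈ J → a ∈ P) : P = ⊤ := by
  refine eq_top_iff.2 fun x _ => ?_
  have hx : φ x ∈ P.map φ := by
    have : K40 ≤ P.map φ := by
      rw [← closure_gen, Subgroup.closure_le]
      rintro _ ⟨i, rfl⟩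
      exact ⟨k i, hP i, hk i⟩
    exact this (h.range ▸ ⟨x, rfl⟩)
  obtain ⟨y, hy, hyx⟩ := hx
  have : y⁻¹ * x ∈ P := hJ _ ((h.ker _).1 (by rw [map_mul, map_inv, hyx, inv_mul_cancel]))
  simpa using mul_mem hy this

/-- The generators do not all act trivially. -/
theorem exists_moved (k : Fin 6 → ↥K) (hk : ∀ i, φ (k i) = gen i) :
    ∃ n x, op (fun i => (lin f h K h.K_le (k i)).toLinearMap) n x ≠ x := by
  by_contra hcon
  push Not at hcon
  have h1 : lin f h K h.K_le (k 0) = 1 := LinearEquiv.ext fun x => hcon ![1, 0, 0] x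
  have h2 := (h.ker _).2 ((lin_eq_one h f _ _ _).1 h1)
  rw [hk] at h2
  revert h2
  decide +kernel

/-- The coordinates agree with those of the unitary library. -/
def toV4 : V ≃ₗ[ZMod 2] V4 where
  toFun v i := (v (lo i), v (hi i))
  invFun w := ![(w 0).1, (w 0).2, (w 1).1, (w 1).2, (w 2).1, (w 2).2, (w 3).1, (w 3).2]
  map_add' _ _ := rfl
  map_smul' _ _ := rfl
  left_inv v := by ext j; fin_cases j <;> rfl
  right_inv w := by
    funext i
    fin_cases i <;> rfl

omit h in
theorem toV4_facts : (∀ v, CfsgLib.Recognition.USixTwo.q4 (toV4 v) = q v) ∧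
    ∀ v, toV4 (omM (omM v)) = CfsgLib.Recognition.USixTwo.omV (toV4 v) :=
  ⟨by apply forall_V; decide +kernel, by apply forall_V; decide +kernel⟩

/-- A seed gives natural coordinates. -/
theorem natural_of_seed (k : Fin 6 → ↥K) (hk : ∀ i, φ (k i) = gen i)
    (hops : Ops (fun i => (lin f h K h.K_le (k i)).toLinearMap) (fun v => ExtraspecialOut.Q f v)
      (QuadraticMap.polarBilin (ExtraspecialOut.Q f)))
    {x : V} (hx : Seed (fun i => (lin f h K h.K_le (k i)).toLinearMap) x) :
    ∃ e : V ≃ₗ[ZMod 2] V4, (∀ v, CfsgLib.Recognition.USixTwo.q4 (e v) = ExtraspecialOut.Q f v) ∧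
      ∀ k : ↥K, CfsgLib.Recognition.USixTwo.IsIso ((e.symm.trans (lin f h K h.K_le k)).trans e) := by
  classical
  obtain ⟨e, heQ, heg⟩ := natural hops hx
  refine ⟨e.symm.trans toV4, fun v => ?_, ?_⟩
  · rw [LinearEquiv.trans_apply, toV4_facts.1, ← heQ, e.apply_symm_apply]
  set E := e.symm.trans toV4 with hE
  let cj : (V ≃ₗ[ZMod 2] V) →* (V4 ≃ₗ[ZMod 2] V4) :=
    { toFun := fun g => (E.symm.trans g).trans E
      map_one' := LinearEquiv.ext fun v => E.apply_symm_apply v
      map_mul' := fun a b => LinearEquiv.ext fun v => by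
        show E (a (b (E.symm v))) = E (a (E.symm (E (b (E.symm v)))))
        rw [E.symm_apply_apply] }
  let P : Subgroup ↥K := CfsgLib.Recognition.USixTwo.isoGroup.comap (cj.comp (lin f h K h.K_le))
  suffices hP : P = ⊤ by
    intro a
    have ha : a ∈ P := hP ▸ Subgroup.mem_top a
    exact ha
  refine generate h k hk P (fun i => ?_) fun a ha => ?_
  · obtain ⟨g, hg, hgq, hgom⟩ := heg i
    have hval : ∀ v : V, lin f h K h.K_le (k i) (e v) = e (g v) := hg
    refine Subgroup.mem_comap.2 ⟨fun w => ?_, fun w => ?_⟩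
    · obtain ⟨v, rfl⟩ := toV4.surjective w
      show E (lin f h K h.K_le (k i) (E.symm (CfsgLib.Recognition.USixTwo.omV (toV4 v)))) =
        CfsgLib.Recognition.USixTwo.omV (E (lin f h K h.K_le (k i) (E.symm (toV4 v))))
      simp only [hE, ← toV4_facts.2, LinearEquiv.trans_symm, LinearEquiv.symm_symm, LinearEquiv.trans_apply,
        LinearEquiv.symm_apply_apply, hval, hgom]
    · obtain ⟨v, rfl⟩ := toV4.surjective w
      show CfsgLib.Recognition.USixTwo.q4 (E (lin f h K h.K_le (k i) (E.symm (toV4 v)))) = _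
      simp only [hE, LinearEquiv.trans_symm, LinearEquiv.symm_symm, LinearEquiv.trans_apply,
        LinearEquiv.symm_apply_apply, hval, toV4_facts.1, hgq]
  · refine Subgroup.mem_comap.2 ?_
    rw [MonoidHom.comp_apply, (lin_eq_one h f _ _ a).2 ha, map_one]
    exact one_mem _

/-- Natural coordinates, or an invariant subspace of order four. -/
theorem natural_or_fixed :
    (∃ e : V ≃ₗ[ZMod 2] V4, (∀ v, CfsgLib.Recognition.USixTwo.q4 (e v) = ExtraspecialOut.Q f v) ∧
      ∀ k : ↥K, CfsgLib.Recognition.USixTwo.IsIso ((e.symm.trans (lin f h K h.K_le k)).trans e)) ∨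
    ∃ F : Submodule (ZMod 2) V, Nat.card F = 4 ∧ (∀ k : ↥K, ∀ x ∈ F, lin f h K h.K_le k x ∈ F) ∧
      ∀ x : V, ∃ u ∈ F, ∃ y, x = u + y ∧ ∀ v ∈ F, QuadraticMap.polarBilin (ExtraspecialOut.Q f) v y = 0 := by
  classical
  obtain ⟨k, hk, hops⟩ := exists_ops h f
  by_cases hs : ∃ x, Seed (fun i => (lin f h K h.K_le (k i)).toLinearMap) x
  · exact Or.inl (hs.elim fun x hx => natural_of_seed h f k hk hops hx)
  · right
    push Not at hs
    obtain ⟨h4, hinv, hdec⟩ := fixed_case hops hs (exists_moved h f k hk)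
    let F : Submodule (ZMod 2) V :=
      AddSubgroup.toZModSubmodule 2
        { carrier := {x | Fx (fun i => (lin f h K h.K_le (k i)).toLinearMap) x}
          add_mem' := fun {a b} ha hb n => by rw [op_map_add, ha, hb]
          zero_mem' := fun n => op_map_zero n
          neg_mem' := fun {a} ha => by rw [ZModModule.neg_eq_self]; exact ha }
    refine ⟨F, h4, fun a x hx => ?_, fun x => ?_⟩
    · let P : Subgroup ↥K :=
        { carrier := {a | ∀ x ∈ F, lin f h K h.K_le a x ∈ F}
          one_mem' := fun x hx => by rw [map_one]; exact hx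
          mul_mem' := fun {a b} ha hb x hx => by rw [map_mul]; exact ha _ (hb x hx)
          inv_mem' := fun {a} ha x hx => by
            haveI : Finite F := Finite.of_injective _ Subtype.val_injective
            have hinj : Function.Injective (fun y : F => (⟨_, ha y.1 y.2⟩ : F)) := fun y y' e =>
              Subtype.ext ((lin f h K h.K_le a).injective (congrArg Subtype.val e))
            obtain ⟨y, hy⟩ := (Finite.injective_iff_surjective.1 hinj) ⟨x, hx⟩
            have hy' : lin f h K h.K_le a y.1 = x := congrArg Subtype.val hy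
            rw [map_inv, ← hy']
            show (lin f h K h.K_le a).symm _ ∈ F
            rw [LinearEquiv.symm_apply_apply]
            exact y.2 }
      have hP : P = ⊤ := generate h k hk P (fun i x hx => hinv i x hx)
        fun a ha x hx => by rw [(lin_eq_one h f _ _ a).2 ha]; exact hx
      exact (hP ▸ Subgroup.mem_top a : a ∈ P) x hx
    · obtain ⟨u, y, hu, hx, horth⟩ := hdec x
      exact ⟨u, hu, y, hx, horth⟩

end CfsgLib.Recognition.USixTwoOuter
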