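import Mathlib

/-!
The natural module of `SU₄(2)` as an eight-dimensional quadratic space over two elements: four planes, each
a copy of the field with four elements `{0, 1, w, w + 1}`, with the sum of the norms.
-/

set_option autoImplicit false
set_option maxRecDepth 100000

namespace CfsgLib.Recognition.USixTwoOuter

/-- The space. -/
abbrev V := Fin 8 → ZMod 2

/-- The first bit of a component. -/
def lo (i : Fin 4) : Fin 8 := ⟨2 * i.val, by omega⟩

/-- The second bit of a component. -/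
def hi (i : Fin 4) : Fin 8 := ⟨2 * i.val + 1, by omega⟩

/-- The component of a coordinate. -/
def cmp (j : Fin 8) : Fin 4 := ⟨j.val / 2, by omega⟩

/-- The quadratic form. -/
def q (v : V) : ZMod 2 :=
  v 0 + v 1 + v 0 * v 1 + (v 2 + v 3 + v 2 * v 3) + (v 4 + v 5 + v 4 * v 5) + (v 6 + v 7 + v 6 * v 7)

/-- Its polarisation. -/
def B (x y : V) : ZMod 2 :=
  x 0 * y 1 + x 1 * y 0 + (x 2 * y 3 + x 3 * y 2) + (x 4 * y 5 + x 5 * y 4) + (x 6 * y 7 + x 7 * y 6)

/-- Multiplication by a power of `w` on one component. -/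
def sc (a : Fin 3) (p : ZMod 2 × ZMod 2) : ZMod 2 × ZMod 2 :=
  ![p, (p.2, p.1 + p.2), (p.1 + p.2, p.1)] a

/-- A diagonal element. -/
def dg (a : Fin 4 → Fin 3) (v : V) : V :=
  ![(sc (a 0) (v 0, v 1)).1, (sc (a 0) (v 0, v 1)).2, (sc (a 1) (v 2, v 3)).1, (sc (a 1) (v 2, v 3)).2,
    (sc (a 2) (v 4, v 5)).1, (sc (a 2) (v 4, v 5)).2, (sc (a 3) (v 6, v 7)).1, (sc (a 3) (v 6, v 7)).2]

/-- The transposition of the first two components. -/
def sM (v : V) : V := ![v 2, v 3, v 0, v 1, v 4, v 5, v 6, v 7]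

/-- The cyclic shift of the components. -/
def pM (v : V) : V := ![v 6, v 7, v 0, v 1, v 2, v 3, v 4, v 5]

/-- The reflection. -/
def hM (v : V) : V :=
  let s := sc 2 (v 2 + v 4 + v 6, v 3 + v 5 + v 7)
  ![(sc 2 (v 0, v 1)).1, (sc 2 (v 0, v 1)).2, v 2 + s.1, v 3 + s.2, v 4 + s.1, v 5 + s.2, v 6 + s.1, v 7 + s.2]

/-- The diagonal exponents of the first generator. -/
def a1 : Fin 4 → Fin 3 := ![1, 2, 0, 0]

/-- The diagonal exponents of the second generator. -/
def a2 : Fin 4 → Fin 3 := ![1, 0, 2, 0]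

/-- The diagonal exponents of the third generator. -/
def a3 : Fin 4 → Fin 3 := ![1, 0, 0, 2]

/-- The six generators in their action. -/
def genM : Fin 6 → V → V := ![dg a1, dg a2, dg a3, sM, pM, hM]

/-- The unit vectors. -/
def unit (j : Fin 8) : V := Pi.single j 1

theorem q_add (x y : V) : q (x + y) = q x + q y + B x y := by
  simp only [q, B, Pi.add_apply]
  ring

/-- A statement about all vectors, coordinate by coordinate. -/
theorem forall_V {P : V → Prop} (h : ∀ a b c d e f g k : ZMod 2, P ![a, b, c, d, e, f, g, k]) (v : V) : P v := by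
  have := h (v 0) (v 1) (v 2) (v 3) (v 4) (v 5) (v 6) (v 7)
  rwa [show ![v 0, v 1, v 2, v 3, v 4, v 5, v 6, v 7] = v by ext j; fin_cases j <;> rfl] at this

theorem genM_q_coord : ∀ (i : Fin 6) (a b c d e f g k : ZMod 2),
    q (genM i ![a, b, c, d, e, f, g, k]) = q ![a, b, c, d, e, f, g, k] := by decide +kernel

theorem genM_q (i : Fin 6) : ∀ v, q (genM i v) = q v := forall_V (genM_q_coord i)

theorem genM_add (i : Fin 6) (x y : V) : genM i (x + y) = genM i x + genM i y := by
  fin_cases i <;> (ext j; fin_cases j <;> simp [genM, dg, sM, pM, hM, sc, a1, a2, a3] <;> ring)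

end CfsgLib.Recognition.USixTwoOuter
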