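import Cfsg.Agent.Lib.Recognition.USixTwoOuter.Outer
import Cfsg.Agent.Lib.ThreeTransp.LargePair

/-!
# The involution is weakly closed in `J` in the semilinear case

If a conjugate `u ≠ z` lay in `J`, half of the conjugate of `J` would act as an elementary abelian group `E`
fixing `v = π u`, moving the vectors orthogonal to `v` into the image `W` of `J ∩ J'` and normalised by the linear
stabiliser of `v`. Either `W` is in the line of `v` and `E` is too big, or `W` is a maximal totally singular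
subgroup and `E` contains the transvection at `v`, so that `J'` contains too big an abelian subgroup.
-/

set_option autoImplicit false
set_option linter.unusedSectionVars false
set_option linter.style.haveILetI false

namespace CfsgLib.Recognition.USixTwoOuter

open CfsgLib.Recognition.USixTwo
open CfsgLib.ThreeTransp.Extraspecial

/-- A group of order a power of two dividing `25920` has order at most `64`. -/
theorem two_part_le {n : ℕ} (h : 2 ^ n ∣ 25920) : 2 ^ n ≤ 64 := by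
  have h1 : 2 ^ n ≤ 25920 := Nat.le_of_dvd (by norm_num) h
  by_contra hlt
  push Not at hlt
  have h7 : 7 ≤ n := by
    by_contra hn
    push Not at hn
    have : 2 ^ n ≤ 2 ^ 6 := Nat.pow_le_pow_right (by norm_num) (by omega)
    omega
  have : 2 ^ 7 ∣ 25920 := (pow_dvd_pow 2 h7).trans h
  omega

/-- A 2-group in the linear group normalised by the Sylow subgroup lies in it. -/
theorem le_TS {K P : Subgroup (V4 ≃ₗ[ZMod 2] V4)} (hK : Model4 K) (hPK : P ≤ K) (h2 : IsPGroup 2 P)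
    (hn : ∀ t ∈ TS, ∀ p ∈ P, t * p * t⁻¹ ∈ P) : P ≤ TS := by
  haveI := finite_GL
  haveI : Fact (Nat.Prime 2) := ⟨Nat.prime_two⟩
  have hS : IsPGroup 2 TS := IsPGroup.of_card (n := 6) (by rw [TS_card]; rfl)
  have hsup : IsPGroup 2 (TS ⊔ P : Subgroup _) := IsPGroup.to_sup_of_normal_right' hS h2 fun t ht =>
    Subgroup.mem_normalizer_fintype fun p hp => hn t ht p hp
  obtain ⟨n, hn'⟩ := IsPGroup.iff_card.1 hsup
  have hle : TS ⊔ P ≤ K := sup_le (TS_le.trans (TG_le_of_model hK)) hPK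
  have hd : 2 ^ n ∣ 25920 := hn' ▸ hK.card ▸ Subgroup.card_dvd_of_le hle
  have e : TS = TS ⊔ P := Subgroup.eq_of_le_of_card_ge le_sup_left (by rw [TS_card, hn']; exact two_part_le hd)
  rw [e]; exact le_sup_right

/-- A nontrivial subgroup of the Sylow subgroup normalised by it contains the transvection. -/
theorem tv_mem_of_normalized {P : Subgroup (V4 ≃ₗ[ZMod 2] V4)} (hP : P ≤ TS) (h1 : ∃ p ∈ P, p ≠ 1)
    (hn : ∀ t ∈ TS, ∀ p ∈ P, t * p * t⁻¹ ∈ P) : tv v0 ∈ P := by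
  classical
  haveI := finite_GL
  haveI : Fact (Nat.Prime 2) := ⟨Nat.prime_two⟩
  have hS : IsPGroup 2 TS := IsPGroup.of_card (n := 6) (by rw [TS_card]; rfl)
  letI : MulAction ↥TS ↥P :=
    { smul := fun t p => ⟨(t : V4 ≃ₗ[ZMod 2] V4) * p * (t : V4 ≃ₗ[ZMod 2] V4)⁻¹, hn t t.2 p p.2⟩
      one_smul := fun p => Subtype.ext (by
        show (1 : V4 ≃ₗ[ZMod 2] V4) * p * (1 : V4 ≃ₗ[ZMod 2] V4)⁻¹ = p
        group)
      mul_smul := fun s t p => Subtype.ext (by
        show ((s * t : ↥TS) : V4 ≃ₗ[ZMod 2] V4) * p * ((s * t : ↥TS) : V4 ≃ₗ[ZMod 2] V4)⁻¹ =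
          (s : V4 ≃ₗ[ZMod 2] V4) * ((t : V4 ≃ₗ[ZMod 2] V4) * p * (t : V4 ≃ₗ[ZMod 2] V4)⁻¹) * (s : V4 ≃ₗ[ZMod 2] V4)⁻¹
        rw [Subgroup.coe_mul]; group) }
  obtain ⟨n, hn'⟩ := IsPGroup.iff_card.1 (hS.to_le hP)
  have hdvd : 2 ∣ Nat.card ↥P := by
    rw [hn']
    rcases n with _ | n
    · exfalso
      obtain ⟨p, hp, hp1⟩ := h1
      haveI : Subsingleton ↥P := (Nat.card_eq_one_iff_unique.1 (by rw [hn']; rfl)).1
      exact hp1 (congrArg Subtype.val (Subsingleton.elim (⟨p, hp⟩ : ↥P) 1))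
    · exact ⟨2 ^ n, by rw [pow_succ, mul_comm]⟩
  have hfix : (1 : ↥P) ∈ MulAction.fixedPoints ↥TS ↥P := fun t => Subtype.ext (by
    show (t : V4 ≃ₗ[ZMod 2] V4) * 1 * (t : V4 ≃ₗ[ZMod 2] V4)⁻¹ = 1
    group)
  obtain ⟨b, hb, hne⟩ := hS.exists_fixed_point_of_prime_dvd_card_of_fixed_point ↥P hdvd hfix
  have hcomm : ∀ t ∈ TS, (b : V4 ≃ₗ[ZMod 2] V4) * t = t * b := fun t ht => by
    have e : t * (b : V4 ≃ₗ[ZMod 2] V4) * t⁻¹ = b := congrArg Subtype.val (hb ⟨t, ht⟩)
    rw [mul_inv_eq_iff_eq_mul] at e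
    exact e.symm
  rcases TS_center (hP b.2) hcomm with e | e
  · exact absurd (Subtype.ext e).symm hne
  · exact e ▸ b.2

namespace Outer

variable {X : Type*} [Group X] [Finite X] {z : X} {J : Subgroup X} {π : X → V4}
  {ψ : ↥(Subgroup.centralizer ({z} : Set X)) →* (V4 ≃ₗ[ZMod 2] V4)} (h : Outer z J π ψ)
include h

/-- No other conjugate of `z` lies in `J`. -/
theorem weakly_closed {g : X} (hu : g * z * g⁻¹ ∈ J) : g * z * g⁻¹ = z := by
  classical
  by_contra hne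
  haveI := finite_GL
  haveI : Fact (Nat.Prime 2) := ⟨Nat.prime_two⟩
  set u := g * z * g⁻¹ with hudef
  set J' := J.map (MulAut.conj g).toMonoidHom with hJ'
  have h' : Extra J' u := h.extra.map_conj g
  have hJ'c : Nat.card J' = 512 := by rw [hJ', Subgroup.card_map_of_injective (MulAut.conj g).injective, h.card_J]
  have hnorm' : ∀ c : X, c * u = u * c → ∀ a ∈ J', c * a * c⁻¹ ∈ J' := fun c hc a ha =>
    mem_map_conj.2 (centralizer_conj_le h.normalizer g hc (mem_map_conj.1 ha))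
  have hu1 : u ≠ 1 := h'.z_ne
  have huu : u * u = 1 := h'.z_sq
  have hzJ' : z ∈ J' := mem_map_conj.2 (mem_conj_of_nonabelian h.extra h.cent_le h.normalizer hu hne
    (CfsgLib.ThreeTransp.LargePair.nonabelian_centralizer h.extra (w := 4) (by norm_num) (by rw [h.card_J]; norm_num) hu hu1 huu hne))
  have hne' : z ≠ u := fun e => hne e.symm
  set A := J ⊓ J' with hA
  have hAsq : ∀ a ∈ A, a * a = 1 := fun a ha => by
    rcases h.extra.sq_cases ha.1 with e | e
    · exact e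
    · rcases h'.sq_cases ha.2 with e' | e'
      · exact e'
      · exact absurd (e'.symm.trans e) hne
  have hAab : ∀ a ∈ A, ∀ b ∈ A, a * b = b * a := fun a ha b hb => by
    have e := hAsq (a * b) (mul_mem ha hb)
    calc a * b = (a * b)⁻¹ := eq_inv_of_mul_eq_one_left e
      _ = b * a := by rw [mul_inv_rev, inv_eq_of_mul_eq_one_left (hAsq a ha), inv_eq_of_mul_eq_one_left (hAsq b hb)]
  have hAu : ∀ a ∈ A, a * u = u * a := fun a ha => (h'.z_comm ha.2).symm
  -- the image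
  let fA : Additive ↥A →+ V4 := AddMonoidHom.mk' (fun a => π ((a.toMul : ↥A) : X)) fun a b =>
    h.π_mul _ (a.toMul : ↥A).2.1 _ (b.toMul : ↥A).2.1
  set R := fA.range with hR
  have hmemR : ∀ {y}, y ∈ R ↔ ∃ a ∈ A, π a = y := fun {y} =>
    ⟨fun ⟨a, e⟩ => ⟨_, (a.toMul : ↥A).2, e⟩, fun ⟨a, ha, e⟩ => ⟨Additive.ofMul ⟨a, ha⟩, e⟩⟩
  have hcardA : Nat.card A = 2 * Nat.card R := by
    have hk : Nat.card fA.ker = 2 := by
      have e : (fA.ker : Set (Additive ↥A)) = {0, Additive.ofMul ⟨z, ⟨h.extra.z_mem, hzJ'⟩⟩} := by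
        ext a
        rw [SetLike.mem_coe, AddMonoidHom.mem_ker]
        show π ((a.toMul : ↥A) : X) = 0 ↔ _
        rw [h.π_ker _ (a.toMul : ↥A).2.1]
        exact or_congr ⟨fun e => Additive.toMul.injective (Subtype.ext e), fun e => by rw [e]; rfl⟩
          ⟨fun e => Additive.toMul.injective (Subtype.ext e), fun e => by rw [e]; rfl⟩
      rw [← SetLike.coe_sort_coe, Nat.card_coe_set_eq, e, Set.ncard_pair]
      exact fun e1 => h.extra.z_ne (congrArg (fun a : Additive ↥A => ((a.toMul : ↥A) : X)) e1).symm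
    have := fA.ker.card_mul_index
    rw [AddSubgroup.index_ker, hk] at this
    rw [hR, this]; exact Nat.card_congr Additive.ofMul
  set v := π u with hv
  have hvR : v ∈ R := hmemR.2 ⟨u, ⟨hu, h'.z_mem⟩, rfl⟩
  have hq : q4 v = 0 := (h.q_iff u hu).2 huu
  have hv0 : v ≠ 0 := fun e => ((h.π_ker u hu).1 e).elim hu1 hne
  have hperp : ∀ y ∈ R, bs4 y v = 0 := by
    intro y hy
    obtain ⟨a, ha, rfl⟩ := hmemR.1 hy
    exact (h.comm_iff ha.1 hu).1 (hAu a ha)
  have hsing : ∀ y ∈ R, q4 y = 0 := by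
    intro y hy
    obtain ⟨a, ha, rfl⟩ := hmemR.1 hy
    exact (h.q_iff a ha.1).2 (hAsq a ha)
  -- elements of the centraliser of `z` fixing `v` adjust to fix `u`
  have hadj : ∀ c : ↥(Subgroup.centralizer ({z} : Set X)), ψ c v = v →
      ∃ c', ψ c' = ψ c ∧ (c' : X) * u = u * c' := by
    intro c hfix
    have hm := h.norm c (Subgroup.mem_centralizer_singleton_iff.1 c.2) _ hu
    rcases (h.π_eq_iff hu hm).1 ((h.act c _ hu).trans hfix).symm with e | e
    · exact ⟨c, rfl, mul_inv_eq_iff_eq_mul.1 e⟩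
    · obtain ⟨q, hq, hqe⟩ := h.extra.exists_conj_eq hu hu1 hne
      refine ⟨(⟨q, h.mem_cent hq⟩ : ↥(Subgroup.centralizer ({z} : Set X)))⁻¹ * c, ?_, mul_inv_eq_iff_eq_mul.1 ?_⟩
      · rw [map_mul, map_inv, (h.ker ⟨q, h.mem_cent hq⟩).2 hq, inv_one, one_mul]
      · show q⁻¹ * c * u * (q⁻¹ * c)⁻¹ = u
        rw [show q⁻¹ * c * u * (q⁻¹ * c)⁻¹ = q⁻¹ * (c * u * (c : X)⁻¹) * q by group, e, ← hqe]
        group
  have hinv : ∀ k ∈ ψ.range, k v = v → ∀ y ∈ R, k y ∈ R := by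
    rintro _ ⟨c, rfl⟩ hfix y hy
    obtain ⟨a, ha, rfl⟩ := hmemR.1 hy
    obtain ⟨c', hψ, hc'⟩ := hadj c hfix
    refine hmemR.2 ⟨(c' : X) * a * (c' : X)⁻¹,
      ⟨h.norm _ (Subgroup.mem_centralizer_singleton_iff.1 c'.2) a ha.1, hnorm' _ hc' a ha.2⟩, ?_⟩
    rw [h.act c' a ha.1, hψ]
  -- the elementary abelian group
  set D' := J' ⊓ Subgroup.centralizer ({z} : Set X) with hD'
  let f : ↥D' →* (V4 ≃ₗ[ZMod 2] V4) := ψ.comp
    { toFun := fun d => ⟨d, d.2.2⟩
      map_one' := rfl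
      map_mul' := fun _ _ => rfl }
  set E := f.range with hE
  have hEle : E ≤ ψ.range := by rintro _ ⟨d, rfl⟩; exact ⟨_, rfl⟩
  have hf1 : ∀ d : ↥D', (d : X) = 1 ∨ (d : X) = u → f d = 1 := fun d hd => (h.ker _).2 (by
    show (d : X) ∈ J
    rcases hd with e | e
    · rw [e]; exact one_mem _
    · rw [e]; exact hu)
  have hEsq : ∀ p ∈ E, p * p = 1 := by
    rintro _ ⟨d, rfl⟩
    rw [← map_mul]
    exact hf1 _ (h'.sq_cases d.2.1)
  have hEab : ∀ p ∈ E, ∀ q ∈ E, p * q = q * p := by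
    intro p hp q hq
    have e := hEsq (p * q) (mul_mem hp hq)
    calc p * q = (p * q)⁻¹ := eq_inv_of_mul_eq_one_left e
      _ = q * p := by rw [mul_inv_rev, inv_eq_of_mul_eq_one_left (hEsq p hp), inv_eq_of_mul_eq_one_left (hEsq q hq)]
  have hfix : ∀ p ∈ E, p v = v := by
    rintro _ ⟨d, rfl⟩
    show ψ ⟨d, d.2.2⟩ (π u) = π u
    rw [← h.act _ u hu]
    congr 1
    show (d : X) * u * (d : X)⁻¹ = u
    rw [← h'.z_comm d.2.1, mul_inv_cancel_right]
  have hmove : ∀ p ∈ E, ∀ x, bs4 x v = 0 → p x + x ∈ R := by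
    rintro _ ⟨d, rfl⟩ x hx
    obtain ⟨a, ha, rfl⟩ := h.π_surj x
    have hau : a * u = u * a := (h.comm_iff ha hu).2 hx
    have hd : (d : X) * z = z * d := Subgroup.mem_centralizer_singleton_iff.1 d.2.2
    refine hmemR.2 ⟨(d : X) * a * (d : X)⁻¹ * a⁻¹, ⟨mul_mem (h.norm d hd a ha) (Subgroup.inv_mem _ ha), ?_⟩, ?_⟩
    · rw [show (d : X) * a * (d : X)⁻¹ * a⁻¹ = d * (a * (d : X)⁻¹ * a⁻¹) by group]
      exact mul_mem (show (d : X) ∈ J' from d.2.1) (hnorm' a hau _ (inv_mem (show (d : X) ∈ J' from d.2.1)))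
    · rw [h.π_mul _ (h.norm d hd a ha) _ (inv_mem ha), h.π_inv ha]
      exact congrArg (· + π a) (h.act ⟨d, d.2.2⟩ a ha)
  have hD'c : Nat.card D' = 256 := extra_card_half h' hJ'c hzJ' h.extra.z_ne hne'
  have hEbig : 256 ≤ Nat.card A * Nat.card E := by
    have hm := f.ker.card_mul_index
    rw [Subgroup.index_ker, hD'c, ← hE] at hm
    have hk : Nat.card f.ker ≤ Nat.card A :=
      Nat.card_le_card_of_injective (fun d => (⟨((d.1 : ↥D') : X), ⟨(h.ker _).1 d.2, d.1.2.1⟩⟩ : ↥A))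
        fun a b e => Subtype.ext (Subtype.ext (by simpa using congrArg (fun q : ↥A => (q : X)) e))
    calc 256 = Nat.card f.ker * Nat.card E := hm.symm
      _ ≤ _ := Nat.mul_le_mul_right _ hk
  -- the linear part
  set E₀ := E ⊓ isoGroup with hE₀
  have hhalf : Nat.card E ≤ 2 * Nat.card E₀ := by
    by_cases hall : E ≤ isoGroup
    · rw [hE₀, inf_eq_left.2 hall]; omega
    obtain ⟨t, ht, hti⟩ := SetLike.not_le_iff_exists.1 hall
    have hanti : ∀ p ∈ E, p ∉ isoGroup → Anti p := fun p hp hpi =>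
      (h.model.semi p (hEle hp)).resolve_left fun e => hpi ⟨e, h.model.quad p (hEle hp)⟩
    have hsub : (E : Set (V4 ≃ₗ[ZMod 2] V4)) ⊆ (E₀ : Set _) ∪ (fun p => t * p) '' (E₀ : Set _) := fun p hp => by
      by_cases hpi : p ∈ isoGroup
      · exact Or.inl ⟨hp, hpi⟩
      · refine Or.inr ⟨t * p, ⟨mul_mem ht hp, fun v => ?_, fun v => ?_⟩, ?_⟩
        · show t (p (omV v)) = omV (t (p v))
          rw [hanti p hp hpi, hanti t ht hti, hanti t ht hti]
          simp only [omV_cube]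
        · show q4 (t (p v)) = q4 v
          rw [h.model.quad t (hEle ht), h.model.quad p (hEle hp)]
        · show t * (t * p) = p
          rw [← mul_assoc, hEsq t ht, one_mul]
    have h1 := (Set.ncard_le_ncard hsub (Set.toFinite _)).trans (Set.ncard_union_le _ _)
    have h2 : ((fun p => t * p) '' (E₀ : Set (V4 ≃ₗ[ZMod 2] V4))).ncard ≤
        (E₀ : Set (V4 ≃ₗ[ZMod 2] V4)).ncard :=
      Set.ncard_image_le (Set.toFinite _)
    rw [← SetLike.coe_sort_coe, Nat.card_coe_set_eq, ← SetLike.coe_sort_coe, Nat.card_coe_set_eq]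
    omega
  have hE₀norm : ∀ k ∈ ψ.range ⊓ isoGroup, k v = v → ∀ p ∈ E₀, k * p * k⁻¹ ∈ E₀ := by
    rintro _ ⟨⟨c, rfl⟩, hci⟩ hcv p ⟨⟨d, rfl⟩, hdi⟩
    obtain ⟨c', hψ, hc'⟩ := hadj c hcv
    refine ⟨⟨⟨(c' : X) * d * (c' : X)⁻¹, ⟨hnorm' _ hc' _ d.2.1, Subgroup.mul_mem _ (Subgroup.mul_mem _ c'.2 d.2.2) (Subgroup.inv_mem _ c'.2)⟩⟩, ?_⟩,
      Subgroup.mul_mem _ (Subgroup.mul_mem _ hci hdi) (Subgroup.inv_mem _ hci)⟩
    show ψ ⟨(c' : X) * d * (c' : X)⁻¹, _⟩ = ψ c * ψ ⟨d, d.2.2⟩ * (ψ c)⁻¹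
    rw [← hψ, ← map_inv, ← map_mul, ← map_mul]
    rfl
  -- in the coordinates of the standard vector
  obtain ⟨m, hm, hmv⟩ := exists_moving hq hv0
  have hmi : IsIso m := TG_le hm
  have hmK : m ∈ ψ.range ⊓ isoGroup := TG_le_of_model h.model_lin hm
  set W := R.comap m.toAddEquiv.toAddMonoidHom with hW
  set P := E₀.map (MulAut.conj m⁻¹).toMonoidHom with hP
  have hPmem : ∀ {p}, p ∈ P ↔ m * p * m⁻¹ ∈ E₀ := fun {p} => by
    constructor
    · rintro ⟨e, he, rfl⟩
      show m * (m⁻¹ * e * m⁻¹⁻¹) * m⁻¹ ∈ E₀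
      rw [show m * (m⁻¹ * e * m⁻¹⁻¹) * m⁻¹ = e by group]; exact he
    · intro he
      exact ⟨_, he, by show m⁻¹ * (m * p * m⁻¹) * m⁻¹⁻¹ = p; group⟩
  have hPK : P ≤ ψ.range ⊓ isoGroup := fun p hp => by
    have h1 : m * p * m⁻¹ ∈ ψ.range ⊓ isoGroup := ⟨hEle (hPmem.1 hp).1, (hPmem.1 hp).2⟩
    have := mul_mem (mul_mem (inv_mem hmK) h1) hmK
    rwa [show m⁻¹ * (m * p * m⁻¹) * m = p by group] at this
  have hPsq : ∀ p ∈ P, p * p = 1 := fun p hp => by
    have := hEsq _ (hPmem.1 hp).1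
    rw [show m * p * m⁻¹ * (m * p * m⁻¹) = m * (p * p) * m⁻¹ by group, conj_eq_one_iff] at this
    exact this
  have hPab : ∀ a ∈ P, ∀ b ∈ P, a * b = b * a := fun a ha b hb => by
    have := hEab _ (hPmem.1 ha).1 _ (hPmem.1 hb).1
    rw [show m * a * m⁻¹ * (m * b * m⁻¹) = m * (a * b) * m⁻¹ by group,
      show m * b * m⁻¹ * (m * a * m⁻¹) = m * (b * a) * m⁻¹ by group] at this
    exact mul_left_cancel (mul_right_cancel this)
  have hPn : ∀ t ∈ TS, ∀ p ∈ P, t * p * t⁻¹ ∈ P := fun t ht p hp => by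
    refine hPmem.2 ?_
    have := hE₀norm (m * t * m⁻¹)
      (mul_mem (mul_mem hmK (TG_le_of_model h.model_lin (TS_le ht))) (inv_mem hmK))
      (by show m (t (m.symm v)) = v; rw [← hmv, m.symm_apply_apply, TS_fix ht]) _ (hPmem.1 hp)
    rwa [show m * t * m⁻¹ * (m * p * m⁻¹) * (m * t * m⁻¹)⁻¹ = m * (t * p * t⁻¹) * m⁻¹ by group] at this
  have hPTS : P ≤ TS := le_TS h.model_lin hPK (fun a => ⟨1, Subtype.ext (by
    rw [pow_one, pow_two]; exact hPsq a a.2)⟩) hPn
  have hPcard : Nat.card P = Nat.card E₀ := Subgroup.card_map_of_injective (MulAut.conj m⁻¹).injective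
  have hWmem : ∀ {w}, w ∈ W ↔ m w ∈ R := fun {w} => Iff.rfl
  have hRW : ∀ y ∈ R, m.symm y ∈ W := fun y hy => hWmem.2 (by rw [m.apply_symm_apply]; exact hy)
  have hW0 : v0 ∈ W := hWmem.2 (by rw [hmv]; exact hvR)
  have hWperp : ∀ w ∈ W, bs4 w v0 = 0 := fun w hw => by
    rw [bs4_eq, ← hmi.hm, hmv, ← bs4_eq]; exact hperp _ (hWmem.1 hw)
  have hWsing : ∀ w ∈ W, q4 w = 0 := fun w hw => by rw [← hmi.quad]; exact hsing _ (hWmem.1 hw)
  have hWinv : ∀ t ∈ TG, t v0 = v0 → ∀ w ∈ W, t w ∈ W := fun t ht htv w hw => by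
    refine hWmem.2 ?_
    have := hinv (m * t * m⁻¹)
      (mul_mem (mul_mem hmK (TG_le_of_model h.model_lin ht)) (inv_mem hmK)).1
      (by show m (t (m.symm v)) = v; rw [← hmv, m.symm_apply_apply, htv]) _ (hWmem.1 hw)
    rwa [show (m * t * m⁻¹) (m w) = m (t (m.symm (m w))) from rfl, m.symm_apply_apply] at this
  -- the image is not in the line
  have hnotline : ¬ ∀ w ∈ W, ∃ c, w = scl c v0 := by
    intro hl
    have hR4 : Nat.card R ≤ 4 := by
      choose cf hcf using fun y : R => hl _ (hRW y.1 y.2)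
      have := Nat.card_le_card_of_injective cf fun a b e => Subtype.ext (m.symm.injective (by rw [hcf a, hcf b, e]))
      simpa [Nat.card_prod, Nat.card_zmod] using this
    have hlt := rad_elementary hPTS hPab hPsq fun a ha x hx => by
      have h1 := hmove _ (hPmem.1 ha).1 (m x) (by rw [bs4_eq, ← hmv, hmi.hm, hx]; rfl)
      obtain ⟨c, hc⟩ := hl _ (hRW _ h1)
      refine ⟨c, ?_⟩
      rw [← hc, map_add, show (m * a * m⁻¹) (m x) = m (a (m.symm (m x))) from rfl]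
      simp only [LinearEquiv.symm_apply_apply]
    rw [hPcard] at hlt
    have h8 : Nat.card A ≤ 8 := by omega
    have h3 := Nat.mul_le_mul h8 hhalf
    omega
  have hline : ∀ c, scl c v0 ∈ W := by
    push Not at hnotline
    obtain ⟨y, hy, hout⟩ := hnotline
    have hω : omV v0 ∈ W := closure_std W hW0 hWinv hy (hWperp y hy)
      (fun e => hout 0 (by rw [e, scl_zero])) (fun e => hout (1, 0) (by rw [e, scl_one]))
    intro c
    rcases D4_cases c with rfl | rfl | rfl | rfl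
    · rw [scl_zero]; exact zero_mem _
    · rw [scl_one]; exact hW0
    · rw [← omV_eq]; exact hω
    · rw [show ((1, 1) : CfsgLib.Sporadic.LargeFischer.D4) = (1, 0) + (0, 1) from rfl, add_scl, scl_one, ← omV_eq]
      exact add_mem hW0 hω
  rcases spread W hWsing hWperp hline hWinv with hl | ⟨h16, hWhm⟩
  · exact hnotline hl
  have hR16 : 16 ≤ Nat.card R := h16.trans (Nat.card_le_card_of_injective
    (fun w : W => (⟨m w, hWmem.1 w.2⟩ : R)) fun a b e => Subtype.ext (m.injective (congrArg Subtype.val e)))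
  have hA32 : Nat.card A ≤ 32 := extra_abelian_le h.extra h.card_J inf_le_left hAab
  have hE₀1 : ∃ p ∈ P, p ≠ 1 := by
    by_contra hc
    push Not at hc
    rw [(Subgroup.eq_bot_iff_forall _).2 hc, Subgroup.card_bot] at hPcard
    have := Nat.mul_le_mul hA32 hhalf
    omega
  have htv := tv_mem_of_normalized hPTS hE₀1 hPn
  obtain ⟨⟨d, hd⟩, -⟩ := hPmem.1 htv
  -- it commutes with `A`
  have hcomm : ∀ a ∈ A, (d : X) * a = a * d := by
    intro a ha
    have hπ : π ((d : X) * a * (d : X)⁻¹) = π a := by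
      rw [show (d : X) * a * (d : X)⁻¹ = ((⟨d, d.2.2⟩ : ↥(Subgroup.centralizer ({z} : Set X))) : X) * a *
        ((⟨d, d.2.2⟩ : ↥(Subgroup.centralizer ({z} : Set X))) : X)⁻¹ from rfl, h.act ⟨d, d.2.2⟩ a ha.1]
      show f d (π a) = π a
      rw [hd]
      show m (tv v0 (m.symm (π a))) = π a
      rw [(tv_fixed (by decide) (by decide)).2 (hWhm _ (hRW _ (hmemR.2 ⟨a, ha, rfl⟩))), m.apply_symm_apply]
    have hz : (d : X) * z = z * d := Subgroup.mem_centralizer_singleton_iff.1 d.2.2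
    rcases (h.π_eq_iff ha.1 (h.norm d hz a ha.1)).1 hπ.symm with e | e
    · exact mul_inv_eq_iff_eq_mul.1 e
    · rcases h'.conj_cases ha.2 d.2.1 with e' | e'
      · exact mul_inv_eq_iff_eq_mul.1 e'
      · exact absurd (mul_left_cancel (e'.symm.trans e)) hne
  have hdA : (d : X) ∉ A := fun hdA => by
    have h1 : f d = 1 := (h.ker _).2 hdA.1
    rw [hd, conj_eq_one_iff] at h1
    exact tv_ne_one (by decide) (by decide) h1
  set S := Subgroup.closure (insert (d : X) (A : Set X)) with hS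
  have hSab : ∀ a ∈ S, ∀ b ∈ S, a * b = b * a := by
    haveI := Subgroup.isMulCommutative_closure (k := insert (d : X) (A : Set X)) (fun a ha b hb => by
      rcases ha with rfl | ha <;> rcases hb with rfl | hb
      · rfl
      · exact hcomm b hb
      · exact (hcomm a ha).symm
      · exact hAab a ha b hb)
    intro a ha b hb
    exact congrArg Subtype.val (mul_comm' (⟨a, ha⟩ : S) ⟨b, hb⟩)
  have hSJ : S ≤ J' := (Subgroup.closure_le _).2 (Set.insert_subset d.2.1 fun a ha => ha.2)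
  have hAS : A ≤ S := fun a ha => Subgroup.subset_closure (Or.inr ha)
  have hlt : Nat.card A < Nat.card S := by
    refine lt_of_le_of_ne (Subgroup.card_le_of_le hAS) fun e => hdA ?_
    rw [Subgroup.eq_of_le_of_card_ge hAS e.ge]
    exact Subgroup.subset_closure (Or.inl rfl)
  have := extra_abelian_le h' hJ'c hSJ hSab
  omega

/-- Conjugates of `z` in `J` equal `z`. -/
theorem eq_of_isConj {x : X} (hx : x ∈ J) (hc : IsConj z x) : x = z := by
  obtain ⟨g, rfl⟩ := isConj_iff.1 hc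
  exact h.weakly_closed hx

end Outer

end CfsgLib.Recognition.USixTwoOuter
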