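import Cfsg.Agent.Lib.Recognition.USixTwoOuter.Tables

/-!
An action of `SU₄(2)` on a quadratic space of order `2^8` in which some vector is moved by the diagonal
group but centralised by the kernel of a coordinate character is the natural one.
-/

set_option autoImplicit false
set_option maxRecDepth 100000
set_option linter.unusedSectionVars false

namespace CfsgLib.Recognition.USixTwoOuter

variable {U : Type*} [AddCommGroup U] [Module (ZMod 2) U]

/-- A word in the six operators. -/
def act (f : Fin 6 → U →ₗ[ZMod 2] U) : List (Fin 6) → U → U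
  | [], u => u
  | i :: l, u => f i (act f l u)

theorem act_append (f : Fin 6 → U →ₗ[ZMod 2] U) (l l' : List (Fin 6)) (u : U) :
    act f (l ++ l') u = act f l (act f l' u) := by
  induction l with
  | nil => rfl
  | cons i l ih => simp only [List.cons_append, act, ih]

/-- Operators satisfying the relations of the six generators, preserving a quadratic form. -/
structure Ops (f : Fin 6 → U →ₗ[ZMod 2] U) (Q : U → ZMod 2) (β : U →ₗ[ZMod 2] U →ₗ[ZMod 2] ZMod 2) : Prop where
  word : ∀ l l', (l.map gen).prod = (l'.map gen).prod → ∀ u, act f l u = act f l' u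
  pres : ∀ i u, Q (f i u) = Q u
  q_add : ∀ u v, Q (u + v) = Q u + Q v + β u v
  nondeg : ∀ u, (∀ v, β u v = 0) → u = 0
  card : Nat.card U = 256

variable {f : Fin 6 → U →ₗ[ZMod 2] U} {Q : U → ZMod 2} {β : U →ₗ[ZMod 2] U →ₗ[ZMod 2] ZMod 2}

theorem Ops.beta_pres (hf : Ops f Q β) (i : Fin 6) (u v : U) : β (f i u) (f i v) = β u v := by
  have h := hf.q_add (f i u) (f i v)
  rw [← map_add, hf.pres, hf.pres, hf.pres, hf.q_add] at h
  exact (add_left_cancel h).symm

theorem Ops.act_pres (hf : Ops f Q β) (l : List (Fin 6)) (u : U) : Q (act f l u) = Q u := by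
  induction l with
  | nil => rfl
  | cons i l ih => rw [act, hf.pres, ih]

theorem Ops.act_beta (hf : Ops f Q β) (l : List (Fin 6)) (u v : U) : β (act f l u) (act f l v) = β u v := by
  induction l with
  | nil => rfl
  | cons i l ih => rw [act, act, hf.beta_pres, ih]

/-- A vector of the first plane. -/
structure Seed (f : Fin 6 → U →ₗ[ZMod 2] U) (x : U) : Prop where
  ne : x ≠ 0
  fixA : act f wA x = x
  fixB : act f wB x = x
  sum : x + f 0 x + f 0 (f 0 x) = 0

/-- The candidate basis. -/
def bas (f : Fin 6 → U →ₗ[ZMod 2] U) (x : U) (j : Fin 8) : U :=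
  act f (wd (cmp j) ⟨j.val % 2, by omega⟩) x

/-- The candidate coordinates. -/
noncomputable def T (f : Fin 6 → U →ₗ[ZMod 2] U) (x : U) : V →ₗ[ZMod 2] U :=
  Fintype.linearCombination (ZMod 2) (bas f x)

theorem T_unit (x : U) (j : Fin 8) : T f x (unit j) = bas f x j := by
  simp [T, unit, Fintype.linearCombination_apply_single]

theorem act_replicate (l : List (Fin 6)) (x : U) (h : act f l x = x) (n : ℕ) :
    act f (List.replicate n l).flatten x = x := by
  induction n with
  | zero => rfl
  | succ n ih => rw [List.replicate_succ, List.flatten_cons, act_append, ih, h]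

theorem unit_ext {L L' : V →ₗ[ZMod 2] U} (h : ∀ j, L (unit j) = L' (unit j)) : L = L' :=
  (Pi.basisFun (ZMod 2) (Fin 8)).ext fun j => by simpa [unit] using h j

/-- The model operator as a linear map. -/
def genL (i : Fin 6) : V →ₗ[ZMod 2] V := (AddMonoidHom.mk' (genM i) (genM_add i)).toZModLinearMap 2

theorem genL_apply (i : Fin 6) (v : V) : genL i v = genM i v := rfl

theorem equivariant_of_units (x : U) (i : Fin 6) (h : ∀ j, f i (bas f x j) = T f x (genM i (unit j))) :
    ∀ v, f i (T f x v) = T f x (genM i v) := by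
  have he : (f i).comp (T f x) = (T f x).comp (genL i) := unit_ext fun j => by
    rw [LinearMap.comp_apply, LinearMap.comp_apply, T_unit, h j, genL_apply]
  intro v
  exact LinearMap.congr_fun he v

variable {x : U}

theorem T_vec (hx : Seed f x) (i : Fin 4) (t : Fin 3) : T f x (vec i t) = act f (wd i t) x := by
  have hlo : cmp (lo i) = i ∧ (⟨(lo i).val % 2, by omega⟩ : Fin 3) = 0 := by revert i; decide
  have hhi : cmp (hi i) = i ∧ (⟨(hi i).val % 2, by omega⟩ : Fin 3) = 1 := by revert i; decide
  fin_cases t
  · show T f x (unit (lo i)) = _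
    rw [T_unit, bas, hlo.1, hlo.2]
    rfl
  · show T f x (unit (hi i)) = _
    rw [T_unit, bas, hhi.1, hhi.2]
    rfl
  · show T f x (unit (lo i) + unit (hi i)) = _
    rw [map_add, T_unit, T_unit, bas, bas, hlo.1, hlo.2, hhi.1, hhi.2]
    simp only [wd]
    rw [act_append, act_append, act_append]
    show act f _ x + act f _ (f 0 x) = act f _ (f 0 (f 0 x))
    have hadd : ∀ (l : List (Fin 6)) (u v : U), act f l (u + v) = act f l u + act f l v := by
      intro l u v
      induction l with
      | nil => rfl
      | cons k l ih => simp only [act, ih, map_add]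
    rw [← hadd]
    congr 1
    have := hx.sum
    rwa [add_eq_zero_iff_eq_neg, ZModModule.neg_eq_self] at this

theorem diag_equivariant (hf : Ops f Q β) (hx : Seed f x) (j : Fin 3) :
    ∀ v, f (three j) (T f x v) = T f x (genM (three j) v) := by
  refine equivariant_of_units x _ fun m => ?_
  obtain ⟨i, t, hm⟩ : ∃ i t, vec i t = unit m ∧ wd (cmp m) ⟨m.val % 2, by omega⟩ = wd i t := by
    revert m; decide +kernel
  rw [← hm.1, dg_table, T_vec hx, bas, hm.2]
  refine (hf.word (three j :: wd i t) _ (word_table j i t) x).trans ?_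
  rw [act_append, act_append, act_replicate _ x hx.fixB, act_replicate _ x hx.fixA]

theorem p_equivariant (hf : Ops f Q β) (hx : Seed f x) : ∀ v, f 4 (T f x v) = T f x (genM 4 v) := by
  refine equivariant_of_units x _ fun m => ?_
  obtain ⟨i, t, hm⟩ : ∃ i t, vec i t = unit m ∧ wd (cmp m) ⟨m.val % 2, by omega⟩ = wd i t := by
    revert m; decide +kernel
  rw [← hm.1, pM_table, T_vec hx, bas, hm.2]
  exact hf.word (4 :: wd i t) _ (p_table i t) x

theorem act_T {l : List (Fin 6)} (hl : ∀ i ∈ l, ∀ v, f i (T f x v) = T f x (genM i v)) (v : V) :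
    act f l (T f x v) = T f x (actM l v) := by
  induction l with
  | nil => rfl
  | cons i l ih =>
    rw [act, ih fun k hk => hl k (List.mem_cons_of_mem _ hk), hl i (List.mem_cons_self ..), actM]

theorem low_equivariant (hf : Ops f Q β) (hx : Seed f x) : ∀ i : Fin 6, (i : ℕ) ≤ 4 → i ≠ 3 →
    ∀ v, f i (T f x v) = T f x (genM i v) := by
  intro i h1 h2
  have := diag_equivariant hf hx
  fin_cases i
  · exact this 0
  · exact this 1
  · exact this 2
  · exact absurd rfl h2
  · exact p_equivariant hf hx
  · simp at h1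

theorem eq_zero_of_units (φ : V → ZMod 2) (hadd : ∀ a b, φ (a + b) = φ a + φ b) (h : ∀ j, φ (unit j) = 0)
    (v : V) : φ v = 0 := by
  have : ((AddMonoidHom.mk' φ hadd).toZModLinearMap 2) = 0 :=
    (Pi.basisFun (ZMod 2) (Fin 8)).ext fun j => by simpa [unit] using h j
  exact LinearMap.congr_fun this v

theorem T_injective (hf : Ops f Q β) (hx : Seed f x) : Function.Injective (T f x) := by
  refine (injective_iff_map_eq_zero _).2 fun v hv => ?_
  by_contra hne
  obtain ⟨i, t, h⟩ := actM_iso v hne
  have hE := low_equivariant hf hx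
  set v' := actM (List.replicate i.val 4) v with hv'
  have h1 : T f x v' = 0 := by
    rw [hv', ← act_T (fun k hk => by rw [List.eq_of_mem_replicate hk]; exact hE 4 (by decide) (by decide)), hv]
    generalize List.replicate i.val (4 : Fin 6) = l
    induction l with
    | nil => rfl
    | cons k l ih => rw [act, ih, map_zero]
  have h2 : T f x (vec 0 t) = 0 := by
    simp only at h
    rw [← h]
    simp only [map_add, ← hE 0 (by decide) (by decide), ← hE 1 (by decide) (by decide), h1, map_zero, add_zero]
  rw [T_vec hx] at h2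
  refine hx.ne ?_
  have h3 := hf.word (List.replicate ((3 - t.val) % 3) 0 ++ wd 0 t) [] (seed_table t) x
  rw [act_append, h2] at h3
  refine h3.symm.trans ?_
  generalize List.replicate ((3 - t.val) % 3) (0 : Fin 6) = l
  induction l with
  | nil => rfl
  | cons k l ih => rw [act, ih, map_zero]

theorem T_bijective (hf : Ops f Q β) (hx : Seed f x) : Function.Bijective (T f x) := by
  have : Finite U := Nat.finite_of_card_ne_zero (by rw [hf.card]; norm_num)
  refine (T_injective hf hx).bijective_of_nat_card_le ?_
  rw [hf.card, Nat.card_eq_fintype_card, Fintype.card_fun, ZMod.card, Fintype.card_fin]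
  norm_num

theorem T_beta_cross (hf : Ops f Q β) (hx : Seed f x) {a b : V} {k : Fin 3} (ha : genM (three k) a = a)
    (hb : b + genM (three k) b + genM (three k) (genM (three k) b) = 0) : β (T f x a) (T f x b) = 0 := by
  have hd := diag_equivariant hf hx k
  have h1 : f (three k) (T f x a) = T f x a := by rw [hd, ha]
  have h2 := hf.beta_pres (three k) (T f x a) (T f x b)
  have h3 := hf.beta_pres (three k) (T f x a) (f (three k) (T f x b))
  rw [h1] at h2 h3
  have h4 : β (T f x a) (T f x b + f (three k) (T f x b) + f (three k) (f (three k) (T f x b))) = 0 := by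
    simp only [hd, ← map_add, hb, map_zero]
  rw [map_add, map_add, h3, h2] at h4
  revert h4
  generalize β (T f x a) (T f x b) = c
  revert c; decide

theorem Q_T (hf : Ops f Q β) (hx : Seed f x) (v : V) : Q (T f x v) = q v := by
  have hQ0 : Q 0 = 0 := by
    have := hf.q_add 0 0
    simpa using this
  have hmove : ∀ (m : Fin 4) (t : Fin 3), Q (T f x (actM (wd m t) (unit 0))) = Q x := by
    intro m t
    rw [← act_T (fun i hi => ?_), hf.act_pres, T_unit]
    · rfl
    · refine low_equivariant hf hx i ?_ ?_ <;>
        rcases List.mem_append.1 hi with h | h <;> rw [List.eq_of_mem_replicate h] <;> decide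
  have hu : ∀ j, Q (T f x (unit j)) = Q x := fun j => by rw [(same_table j).2, hmove]
  have hβ : ∀ j l, β (T f x (unit j)) (T f x (unit l)) = Q x * B (unit j) (unit l) := by
    intro j l
    rw [B_basis]
    by_cases hc : cmp j = cmp l
    · by_cases hjl : j = l
      · subst hjl
        rw [if_neg (by simp), mul_zero]
        have h := hf.q_add (T f x (unit j)) (T f x (unit j))
        rw [show T f x (unit j) + T f x (unit j) = 0 from ZModModule.add_self _, hQ0,
          CharTwo.add_self_eq_zero, zero_add] at h
        exact h.symm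
      · rw [if_pos ⟨hc, hjl⟩, mul_one]
        have h := hf.q_add (T f x (unit j)) (T f x (unit l))
        rw [← map_add, ← pair_table j l hc hjl, hmove, hu, hu, CharTwo.add_self_eq_zero, zero_add] at h
        exact h.symm
    · rw [if_neg fun h => hc h.1, mul_zero]
      obtain ⟨k, ⟨ha, hb⟩ | ⟨ha, hb⟩⟩ := cross_table j l hc
      · exact T_beta_cross hf hx ha hb
      · have h := T_beta_cross hf hx ha hb
        have h1 := hf.q_add (T f x (unit j)) (T f x (unit l))
        have h2 := hf.q_add (T f x (unit l)) (T f x (unit j))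
        rw [add_comm (T f x (unit l)), h1, h] at h2
        linear_combination h2
  have hB : ∀ a b, β (T f x a) (T f x b) = Q x * B a b := by
    intro a b
    have h1 : ∀ j, β (T f x (unit j)) (T f x b) - Q x * B (unit j) b = 0 := fun j =>
      eq_zero_of_units (fun b => β (T f x (unit j)) (T f x b) - Q x * B (unit j) b)
        (fun a b => by simp only [map_add, B_add_right]; ring) (fun l => sub_eq_zero.2 (hβ j l)) b
    exact sub_eq_zero.1 (eq_zero_of_units (fun a => β (T f x a) (T f x b) - Q x * B a b)
      (fun a b' => by simp only [map_add, LinearMap.add_apply, B_add_left]; ring) h1 a)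
  have hlin : ∀ a b, Q (T f x (a + b)) - Q x * q (a + b) =
      (Q (T f x a) - Q x * q a) + (Q (T f x b) - Q x * q b) := fun a b => by
    rw [map_add, hf.q_add, hB, q_add]; ring
  have hmain : Q (T f x v) = Q x * q v :=
    sub_eq_zero.1 (eq_zero_of_units (fun v => Q (T f x v) - Q x * q v) hlin
      (fun j => by rw [hu, (same_table j).1, mul_one, sub_self]) v)
  have hone : Q x = 1 := by
    by_contra h
    have h0 : Q x = 0 := by revert h; generalize Q x = c; revert c; decide
    refine hx.ne (hf.nondeg x fun u => ?_)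
    obtain ⟨b, rfl⟩ := (T_bijective hf hx).2 u
    have := hB (unit 0) b
    rwa [T_unit, h0, zero_mul] at this
  rw [hmain, hone, one_mul]

theorem act_om (hf : Ops f Q β) (hx : Seed f x) (m : Fin 4) (v : V) :
    act f (wOm m) (T f x v) = T f x (actM (wOm m) v) :=
  act_T (fun k hk => low_equivariant hf hx k (wOm_small m k hk).1 (wOm_small m k hk).2) v

/-- An operator in model coordinates. -/
noncomputable def co (hf : Ops f Q β) (hx : Seed f x) (i : Fin 6) : V →ₗ[ZMod 2] V :=
  let e := LinearEquiv.ofBijective (T f x) (T_bijective hf hx)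
  e.symm.toLinearMap ∘ₗ (f i ∘ₗ T f x)

theorem T_co (hf : Ops f Q β) (hx : Seed f x) (i : Fin 6) (v : V) : T f x (co hf hx i v) = f i (T f x v) :=
  (LinearEquiv.ofBijective (T f x) (T_bijective hf hx)).apply_symm_apply (f i (T f x v))

theorem co_q (hf : Ops f Q β) (hx : Seed f x) (i : Fin 6) (v : V) : q (co hf hx i v) = q v := by
  rw [← Q_T hf hx, T_co, hf.pres, Q_T hf hx]

theorem co_om_low (hf : Ops f Q β) (hx : Seed f x) (i : Fin 5) (v : V) :
    co hf hx i.castSucc (omM v) = omM (co hf hx i.castSucc v) := by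
  have key : ∀ m, co hf hx i.castSucc (actM (wOm m) v) = actM (wOm (omPerm i m)) (co hf hx i.castSucc v) := by
    intro m
    apply T_injective hf hx
    rw [T_co, ← act_om hf hx, ← act_om hf hx, T_co]
    have := hf.word _ _ (omPerm_table i m) (T f x v)
    rwa [act_append] at this
  rw [om_sum, om_sum]
  simp only [map_add, key]
  have hb : ∀ i : Fin 5, Function.Bijective (omPerm i) := by decide +kernel
  have := (Equiv.ofBijective _ (hb i)).sum_comp (fun m => actM (wOm m) (co hf hx i.castSucc v))
  simpa [Fin.sum_univ_four] using this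

theorem co_om_last (hf : Ops f Q β) (hx : Seed f x) (v : V) : co hf hx 5 (omM v) = omM (co hf hx 5 v) := by
  set g := co hf hx 5 with hg
  have comm : ∀ v, g (actM (wOm 0) v) = actM (wOm 0) (g v) := by
    intro v
    apply T_injective hf hx
    rw [T_co, ← act_om hf hx, ← act_om hf hx, T_co]
    have := hf.word _ _ reflection_commutes.1 (T f x v)
    rwa [act_append] at this
  have h3 : ∀ v, g (g (g v)) = v := fun v => by
    apply T_injective hf hx
    rw [T_co, T_co, T_co]
    exact hf.word [5, 5, 5] [] reflection_commutes.2 _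
  have hfix : ∀ v, actM (wOm 0) v = v →
      g v 2 = 0 ∧ g v 3 = 0 ∧ g v 4 = 0 ∧ g v 5 = 0 ∧ g v 6 = 0 ∧ g v 7 = 0 := fun v hv =>
    omWord_facts.1 _ (by rw [← comm, hv])
  have hexp : ∀ u : V, u 2 = 0 ∧ u 3 = 0 ∧ u 4 = 0 ∧ u 5 = 0 ∧ u 6 = 0 ∧ u 7 = 0 →
      u = u 0 • unit 0 + u 1 • unit 1 := by
    apply forall_V; decide +kernel
  obtain ⟨a, b, c, d, e0, e1⟩ : ∃ a b c d, g (unit 0) = a • unit 0 + b • unit 1 ∧ g (unit 1) = c • unit 0 + d • unit 1 :=
    ⟨_, _, _, _, hexp _ (hfix _ (by decide +kernel)), hexp _ (hfix _ (by decide +kernel))⟩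
  have hg2 : ∀ x y : ZMod 2, g (x • unit 0 + y • unit 1) = (x * a + y * c) • unit 0 + (x * b + y * d) • unit 1 := by
    intro x y
    rw [map_add, map_smul, map_smul, e0, e1]
    module
  have hco : ∀ x y : ZMod 2, (x • unit 0 + y • unit 1 : V) 0 = x ∧ (x • unit 0 + y • unit 1 : V) 1 = y := by
    intro x y; simp [unit]
  have hm0 := h3 (((1 : ZMod 2)) • unit 0 + (0 : ZMod 2) • unit 1)
  have hm1 := h3 (((0 : ZMod 2)) • unit 0 + (1 : ZMod 2) • unit 1)
  rw [hg2, hg2, hg2] at hm0 hm1
  have rot := plane_rotation a b c d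
    (Prod.ext (by have := congrFun hm0 0; simpa [unit] using this) (by have := congrFun hm0 1; simpa [unit] using this))
    (Prod.ext (by have := congrFun hm1 0; simpa [unit] using this) (by have := congrFun hm1 1; simpa [unit] using this))
  have hom0 : ∀ x y : ZMod 2, omM (x • unit 0 + y • unit 1) = (sc 2 (x, y)).1 • unit 0 + (sc 2 (x, y)).2 • unit 1 := by
    decide +kernel
  have hsplit : ∀ u : V, ∃ r : V, u = (u 0 • unit 0 + u 1 • unit 1) + r ∧
      r + actM (wOm 0) r + actM (wOm 0) (actM (wOm 0) r) = 0 := fun u => by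
    refine ⟨u + (u 0 • unit 0 + u 1 • unit 1), ?_, ?_⟩
    · rw [add_left_comm, ZModModule.add_self, add_zero]
    · revert u; apply forall_V; decide +kernel
  obtain ⟨r, hr, hr0⟩ := hsplit v
  rw [hr, omM_add (_ + _) r, map_add, map_add, omM_add (g _) (g r)]
  congr 1
  · rw [hom0, hg2, hg2, hom0]
    have := rot (v 0, v 1)
    simp only [Prod.ext_iff] at this
    rw [this.1, this.2]
  · rw [omWord_facts.2 r hr0, comm, comm]
    refine (omWord_facts.2 _ ?_).symm
    rw [← comm, ← comm, ← map_add, ← map_add, hr0, map_zero]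

/-- The natural case: coordinates in which the six operators are semilinear isometries with trivial twist. -/
theorem natural (hf : Ops f Q β) (hx : Seed f x) : ∃ e : V ≃ₗ[ZMod 2] U,
    (∀ v, Q (e v) = q v) ∧ ∀ i, ∃ g : V →ₗ[ZMod 2] V,
      (∀ v, f i (e v) = e (g v)) ∧ (∀ v, q (g v) = q v) ∧ ∀ v, g (omM v) = omM (g v) := by
  refine ⟨LinearEquiv.ofBijective (T f x) (T_bijective hf hx), Q_T hf hx, fun i =>
    ⟨co hf hx i, fun v => (T_co hf hx i v).symm, co_q hf hx i, fun v => ?_⟩⟩
  induction i using Fin.lastCases with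
  | last => exact co_om_last hf hx v
  | cast j => exact co_om_low hf hx j v


end CfsgLib.Recognition.USixTwoOuter
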