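import Cfsg.Agent.Lib.Recognition.USixTwoOuter.Gens
import Cfsg.Agent.Lib.Recognition.USixTwoOuter.Model

/-!
Tables for the six generators and their model.
-/

set_option autoImplicit false
set_option maxRecDepth 100000

namespace CfsgLib.Recognition.USixTwoOuter

/-- Generators of the kernel of the first coordinate character. -/
def wA : List (Fin 6) := [0, 0, 1]

/-- See `wA`. -/
def wB : List (Fin 6) := [1, 1, 2]

/-- The word giving a basis vector from the seed. -/
def wd (i : Fin 4) (t : Fin 3) : List (Fin 6) := List.replicate i.val 4 ++ List.replicate t.val 0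

/-- The exponents of the three diagonal generators. -/
def expo : Fin 3 → Fin 4 → Fin 3 := ![a1, a2, a3]

/-- The exponents of the moved element. -/
def moved (j : Fin 3) (i : Fin 4) (t : Fin 3) (l : Fin 4) : Fin 3 := expo j (l + i) + t * a1 l

/-- The three diagonal generators among the six. -/
def three : Fin 3 → Fin 6 := ![0, 1, 2]

theorem word_table : ∀ j i t, ((three j :: wd i t).map gen).prod =
    ((wd i (moved j i t 0) ++ ((List.replicate (moved j i t 1 - 2 * moved j i t 0).val wA).flatten ++
      (List.replicate (2 * moved j i t 3).val wB).flatten)).map gen).prod := by decide +kernel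

theorem p_table : ∀ i : Fin 4, ∀ t : Fin 3, ((4 :: wd i t).map gen).prod = ((wd (i + 1) t).map gen).prod := by
  decide +kernel

/-- The image of a word in the model. -/
def vec (i : Fin 4) (t : Fin 3) : V := ![unit (lo i), unit (hi i), unit (lo i) + unit (hi i)] t

theorem dg_table : ∀ j i t, genM (three j) (vec i t) = vec i (moved j i t 0) := by decide +kernel

theorem pM_table : ∀ i t, genM 4 (vec i t) = vec (i + 1) t := by decide +kernel

/-- The model action of a word. -/
def actM : List (Fin 6) → V → V
  | [], v => v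
  | i :: l, v => genM i (actM l v)

theorem actM_iso : ∀ v : V, v ≠ 0 → ∃ i : Fin 4, ∃ t : Fin 3,
    let v' := actM (List.replicate i.val 4) v
    let w := v' + genM 0 v'
    w + genM 1 w = vec 0 t := by
  apply forall_V
  decide +kernel

theorem seed_table : ∀ t : Fin 3,
    ((List.replicate ((3 - t.val) % 3) (0 : Fin 6) ++ wd 0 t).map gen).prod = 1 := by decide +kernel

theorem B_add_left (x y w : V) : B (x + y) w = B x w + B y w := by simp only [B, Pi.add_apply]; ring

theorem B_add_right (x y w : V) : B x (y + w) = B x y + B x w := by simp only [B, Pi.add_apply]; ring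

theorem B_basis : ∀ j l : Fin 8, B (unit j) (unit l) = if cmp j = cmp l ∧ j ≠ l then 1 else 0 := by decide +kernel

theorem cross_table : ∀ j l : Fin 8, cmp j ≠ cmp l → ∃ k : Fin 3,
    (genM (three k) (unit j) = unit j ∧
      unit l + genM (three k) (unit l) + genM (three k) (genM (three k) (unit l)) = 0) ∨
    (genM (three k) (unit l) = unit l ∧
      unit j + genM (three k) (unit j) + genM (three k) (genM (three k) (unit j)) = 0) := by decide +kernel

theorem same_table : ∀ j : Fin 8, q (unit j) = 1 ∧ unit j = actM (wd (cmp j) ⟨j.val % 2, by omega⟩) (unit 0) := by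
  decide +kernel

theorem pair_table : ∀ j l : Fin 8, cmp j = cmp l → j ≠ l →
    actM (wd (cmp j) 2) (unit 0) = unit j + unit l := by decide +kernel

/-- The scalar `w²` in the model. -/
def omM (v : V) : V := dg (fun _ => 2) v

theorem omM_add (v w : V) : omM (v + w) = omM v + omM w := by
  ext j; fin_cases j <;> simp [omM, dg, sc] <;> ring

/-- The four diagonal words that scale three components by `w` and fix one. -/
def wOm : Fin 4 → List (Fin 6) :=
  ![[0, 0, 1, 1, 2, 2], [1, 1, 2, 2], [0, 0, 2, 2], [0, 0, 1, 1]]

theorem om_sum : ∀ v, omM v = actM (wOm 0) v + actM (wOm 1) v + actM (wOm 2) v + actM (wOm 3) v := by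
  apply forall_V; decide +kernel

theorem wOm_small : ∀ m, ∀ k ∈ wOm m, (k : ℕ) ≤ 4 ∧ k ≠ 3 := by decide +kernel

/-- The images of the four words under the six generators other than the reflection. -/
def omPerm : Fin 5 → Fin 4 → Fin 4 := ![id, id, id, ![1, 0, 2, 3], ![1, 2, 3, 0]]

theorem omPerm_table : ∀ (i : Fin 5) (m : Fin 4),
    ((i.castSucc :: wOm m).map gen).prod = ((wOm (omPerm i m) ++ [i.castSucc]).map gen).prod := by decide +kernel

/-- The word fixing the first component and scaling the others. -/
theorem reflection_commutes :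
    (((5 : Fin 6) :: wOm 0).map gen).prod = ((wOm 0 ++ [5]).map gen).prod ∧
      (([5, 5, 5] : List (Fin 6)).map gen).prod = 1 := by decide +kernel

theorem omWord_facts : (∀ v, actM (wOm 0) v = v → v 2 = 0 ∧ v 3 = 0 ∧ v 4 = 0 ∧ v 5 = 0 ∧ v 6 = 0 ∧ v 7 = 0) ∧
    (∀ v, v + actM (wOm 0) v + actM (wOm 0) (actM (wOm 0) v) = 0 → omM v = actM (wOm 0) (actM (wOm 0) v)) :=
  ⟨by apply forall_V; decide +kernel, by apply forall_V; decide +kernel⟩

theorem plane_rotation : ∀ a b c d : ZMod 2,
    let m : ZMod 2 × ZMod 2 → ZMod 2 × ZMod 2 := fun p => (p.1 * a + p.2 * c, p.1 * b + p.2 * d)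
    m (m (m (1, 0))) = (1, 0) → m (m (m (0, 1))) = (0, 1) → ∀ p, m (sc 2 p) = sc 2 (m p) := by decide +kernel

end CfsgLib.Recognition.USixTwoOuter
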