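import Cfsg.Agent.Lib.Recognition.USixTwoOuter.WGroup
import Cfsg.Agent.Lib.Recognition.USixTwo.Setup
import Cfsg.Agent.Lib.ThreeTransp.LargePair

/-!
Without natural coordinates no other conjugate of `z` lies in `J`.
-/

set_option autoImplicit false
set_option maxRecDepth 100000
set_option linter.unusedSectionVars false
set_option linter.style.haveILetI false

namespace CfsgLib.Recognition.USixTwoOuter

open CfsgLib.ThreeTransp
open CfsgLib.ThreeTransp.Extraspecial (Extra mem_map_conj)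

variable {G : Type*} [Group G] [Finite G]

/-- Half of an extraspecial group of order `2⁹` centralises an element outside the centre. -/
theorem card_half_nine {J : Subgroup G} {z s : G} (h : Extra J z) (hc : Nat.card J = 512) (hs : s ∈ J)
    (h1 : s ≠ 1) (hne : s ≠ z) : Nat.card ↥(J ⊓ Subgroup.centralizer ({s} : Set G)) = 256 := by
  set D := J ⊓ Subgroup.centralizer ({s} : Set G) with hD
  have hmem : ∀ b : ↥J, b ∈ D.subgroupOf J ↔ (b : G) * s * (b : G)⁻¹ = s := fun b => by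
    rw [Subgroup.mem_subgroupOf, hD, Subgroup.mem_inf, Subgroup.mem_centralizer_singleton_iff,
      mul_inv_eq_iff_eq_mul]
    exact ⟨fun e => e.2, fun e => ⟨b.2, e⟩⟩
  obtain ⟨q, hq, hqe⟩ := h.exists_conj_eq hs h1 hne
  have hidx : (D.subgroupOf J).index = 2 := Subgroup.index_eq_two_iff.2 ⟨⟨q, hq⟩, fun b => by
    rw [hmem, hmem]
    have e : ((b * ⟨q, hq⟩ : ↥J) : G) * s * ((b * ⟨q, hq⟩ : ↥J) : G)⁻¹ = (b : G) * s * (b : G)⁻¹ * z := by
      show (b : G) * q * s * ((b : G) * q)⁻¹ = _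
      calc (b : G) * q * s * ((b : G) * q)⁻¹ = b * (q * s * q⁻¹) * (b : G)⁻¹ := by group
        _ = b * s * (z * (b : G)⁻¹) := by rw [hqe]; group
        _ = _ := by rw [h.z_comm (inv_mem b.2)]; group
    rw [e]
    rcases h.conj_cases hs b.2 with c | c <;> rw [c]
    · exact Or.inr ⟨rfl, fun e1 => h.z_ne (mul_eq_left.1 e1)⟩
    · exact Or.inl ⟨by rw [mul_assoc, h.z_sq, mul_one], fun e1 => h.z_ne (mul_eq_left.1 e1)⟩⟩
  have := (D.subgroupOf J).card_mul_index
  rw [hidx, Nat.card_congr (Subgroup.subgroupOfEquivOfLe (inf_le_left : D ≤ J)).toEquiv, hc] at this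
  change Nat.card ↥D * 2 = 512 at this
  omega

/-- An abelian subgroup has order at most `32`. -/
theorem abelian_nine {J : Subgroup G} {z : G} (h : Extra J z) (hc : Nat.card J = 512) {A : Subgroup G}
    (hA : A ≤ J) (hab : ∀ a ∈ A, ∀ b ∈ A, a * b = b * a) : Nat.card A ≤ 32 := by
  have hcentral : ∀ x y : ↥J, x⁻¹ * y * x * y⁻¹ ∈ Subgroup.center ↥J := fun x y => by
    rw [← h.ext.1.2.2, _root_.commutator_def]
    simpa [commutatorElement_def] using
      Subgroup.commutator_mem_commutator (Subgroup.mem_top x⁻¹) (Subgroup.mem_top y)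
  have d := Cfsg.Agent.S2880.double_count (A.subgroupOf J) hcentral h.ext.2
  have hle : Nat.card (A.subgroupOf J) ≤ Nat.card (Subgroup.centralizer ((A.subgroupOf J) : Set ↥J)) := by
    refine Nat.card_le_card_of_injective _ (Subgroup.inclusion_injective (fun x hx => ?_))
    exact Subgroup.mem_centralizer_iff.2 fun y hy => Subtype.ext (hab y hy x hx)
  have hZ : Nat.card ↥(A.subgroupOf J ⊓ Subgroup.center ↥J) ≤ 2 := by
    rw [← h.ext.2]
    exact Nat.card_le_card_of_injective _ (Subgroup.inclusion_injective inf_le_right)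
  have hdvd : Nat.card A ∣ 2 ^ 9 := (Subgroup.card_dvd_of_le hA).trans (by rw [hc]; norm_num)
  rw [Nat.card_congr (Subgroup.subgroupOfEquivOfLe hA).toEquiv] at hle d
  rw [hc] at d
  obtain ⟨j, -, hj⟩ := (Nat.dvd_prime_pow Nat.prime_two).1 hdvd
  have h64 : Nat.card A < 64 := by
    by_contra hcon
    nlinarith [d, hle, hZ, hcon]
  rw [hj] at h64 ⊢
  have : j < 6 := (Nat.pow_lt_pow_iff_right (le_refl 2)).1 h64
  exact Nat.pow_le_pow_right (by norm_num) (show j ≤ 5 by omega)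

variable {z : G} {J K : Subgroup G} {φ : ↥K →* P40} (h : Hyp z J K φ) (f : ExtraspecialOut.Frame ↥J 8)
include h

omit f in
theorem frame_z (f : ExtraspecialOut.Frame ↥J 8) : (f.z : G) = z := by
  rcases h.extra.mem_center_cases f.z.2 (fun q hq => congrArg Subtype.val (f.z_comm ⟨q, hq⟩)) with e' | e'
  · exact absurd (Subtype.ext e') f.z_ne
  · exact e'

theorem comm_of_beta {a b : ↥J}
    (hab : QuadraticMap.polarBilin (ExtraspecialOut.Q f) (f.π a) (f.π b) = 0) : (a : G) * b = b * a := by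
  classical
  rw [QuadraticMap.polarBilin_apply_apply, ExtraspecialOut.polar_Q, ExtraspecialOut.ε] at hab
  by_cases h1 : ExtraspecialOut.cm a b = 1
  · have h2 : (a : G)⁻¹ * b * a * (b : G)⁻¹ = 1 := congrArg Subtype.val h1
    calc (a : G) * b = a * b * ((a : G)⁻¹ * b * a * (b : G)⁻¹)⁻¹⁻¹ := by rw [h2, inv_one, inv_one, mul_one]
      _ = a * ((b : G) * ((a : G)⁻¹ * b * a * (b : G)⁻¹)) := by group
      _ = _ := by
        have h3 : (b : G) * a = a * b := by
          calc (b : G) * a = a * ((a : G)⁻¹ * b * a * (b : G)⁻¹) * b := by group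
            _ = a * b := by rw [h2, mul_one]
        rw [h2, mul_one, h3]
  · rw [if_neg h1] at hab
    exact absurd hab one_ne_zero

variable (k : Fin 6 → ↥K) (hk : ∀ i, φ (k i) = gen i)
  (hops : Ops (opsOf h f k) (fun v => ExtraspecialOut.Q f v) (QuadraticMap.polarBilin (ExtraspecialOut.Q f)))
  (hno : ∀ x, ¬ Seed (opsOf h f k) x)
  (hKn : ∀ c, c * z = z * c → ∀ a ∈ K, c * a * c⁻¹ ∈ K)
  (hidx : ∀ a b, a * z = z * a → b * z = z * b → a ∉ K → b ∉ K → a * b ∈ K)
  (hcc : ∀ c, c * z = z * c → (∀ a ∈ K, c * a * c⁻¹ * a⁻¹ ∈ J) → c ∈ J)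
include hk hops hno hKn hidx hcc

/-- No other conjugate of `z` lies in `J`. -/
theorem no_fusion {g : G} (hu : g * z * g⁻¹ ∈ J) : g * z * g⁻¹ = z := by
  classical
  by_contra hne
  haveI := Plane.finite_aut8
  set u := g * z * g⁻¹ with hudef
  set J' := J.map (MulAut.conj g).toMonoidHom with hJ'
  have h' : Extra J' u := h.extra.map_conj g
  have hc' : Nat.card J' = 512 := by
    rw [hJ', Nat.card_congr (Subgroup.equivMapOfInjective _ _ (MulAut.conj g).injective).toEquiv.symm, h.card_J]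
  have hu1 : u ≠ 1 := h'.z_ne
  have huu : u * u = 1 := h'.z_sq
  have hnorm' : ∀ c, c * u = u * c → ∀ a ∈ J', c * a * c⁻¹ ∈ J' := by
    intro c hc a ha
    rw [hJ', mem_map_conj] at ha ⊢
    have h1 : g⁻¹ * c * g * z = z * (g⁻¹ * c * g) := by
      calc g⁻¹ * c * g * z = g⁻¹ * (c * u) * g := by rw [hudef]; group
        _ = g⁻¹ * (u * c) * g := by rw [hc]
        _ = _ := by rw [hudef]; group
    have := h.normJ _ h1 _ ha
    rwa [show g⁻¹ * (c * a * c⁻¹) * g = g⁻¹ * c * g * (g⁻¹ * a * g) * (g⁻¹ * c * g)⁻¹ by group]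
  have hN : Subgroup.centralizer ({z} : Set G) ≤ Subgroup.normalizer (J : Set G) := fun c hc => by
    rw [Subgroup.mem_normalizer_iff]
    have hc' := Subgroup.mem_centralizer_singleton_iff.1 hc
    refine fun a => ⟨fun ha => h.normJ c hc' a ha, fun ha => ?_⟩
    have := h.normJ c⁻¹ (Commute.inv_left hc').eq _ ha
    simpa [mul_assoc] using this
  have hzJ' : z ∈ J' := mem_map_conj.2 (Extraspecial.mem_conj_of_nonabelian h.extra h.cent hN hu hne
    (LargePair.nonabelian_centralizer h.extra (w := 4) (by norm_num) (by rw [h.card_J]; norm_num) hu hu1 huu hne))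
  have hne' : z ≠ u := fun e => hne e.symm
  set A := J ⊓ J' with hA
  have hAsq : ∀ a ∈ A, a * a = 1 := fun a ha => by
    rcases h.extra.sq_cases ha.1 with e | e
    · exact e
    · rcases h'.sq_cases ha.2 with e' | e'
      · exact e'
      · exact absurd (e'.symm.trans e) hne
  have hAab : ∀ a ∈ A, ∀ b ∈ A, a * b = b * a := by
    intro a ha b hb
    have h1 := hAsq _ (mul_mem ha hb)
    have ha' := hAsq a ha
    have hb' := hAsq b hb
    calc a * b = a * (a * b * (a * b)) * b := by rw [h1, mul_one]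
      _ = a * a * (b * a) * (b * b) := by group
      _ = b * a := by rw [ha', hb', one_mul, mul_one]
  let R : AddSubgroup V :=
    { carrier := {x | ∃ a : ↥J, (a : G) ∈ J' ∧ f.π a = x}
      add_mem' := fun {x y} ⟨a, ha, e⟩ ⟨b, hb, e'⟩ => ⟨a * b, mul_mem ha hb, by rw [f.π_mul, e, e']⟩
      zero_mem' := ⟨1, one_mem _, ExtraspecialOut.π_one f⟩
      neg_mem' := fun {x} ⟨a, ha, e⟩ => ⟨a, ha, by rw [ZModModule.neg_eq_self, e]⟩ }
  set v := f.π ⟨u, hu⟩ with hv
  have hvR : v ∈ R := ⟨⟨u, hu⟩, h'.z_mem, rfl⟩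
  have hz' := frame_z h f
  have hv0 : v ≠ 0 := fun e => by
    rcases (f.π_ker _).1 e with e' | e'
    · exact hu1 (congrArg Subtype.val e')
    · exact hne ((congrArg Subtype.val e').trans hz')
  have hsing : ∀ r ∈ R, ExtraspecialOut.Q f r = 0 := by
    rintro _ ⟨a, ha, rfl⟩
    rw [ExtraspecialOut.Q_apply, ExtraspecialOut.qf_π, ExtraspecialOut.ε,
      if_pos (Subtype.ext (hAsq _ ⟨a.2, ha⟩))]
  haveI : Fintype R := Fintype.ofFinite R
  have hA2R : 2 * Nat.card R ≤ Nat.card A := by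
    choose s hs hsπ using fun r : R => r.2
    let Φ : R × Bool → A := fun t =>
      ⟨(s t.1 : G) * (if t.2 then z else 1), mul_mem (⟨(s t.1).2, hs t.1⟩ : (s t.1 : G) ∈ A)
        (by split_ifs
            · exact ⟨h.extra.z_mem, hzJ'⟩
            · exact one_mem _)⟩
    have hΦ : Function.Injective Φ := by
      rintro ⟨r, b⟩ ⟨r', b'⟩ e
      have e1 : (s r : G) * (if b then z else 1) = (s r' : G) * (if b' then z else 1) :=
        congrArg (fun q : A => (q : G)) e
      have hπ : ∀ (t : ↥J) (c : Bool) (hm : (t : G) * (if c then z else 1) ∈ J),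
          f.π ⟨(t : G) * (if c then z else 1), hm⟩ = f.π t := fun t c hm => by
        cases c
        · congr 1; exact Subtype.ext (mul_one _)
        · rw [show (⟨(t : G) * (if true then z else 1), hm⟩ : ↥J) = t * f.z from
            Subtype.ext (show (t : G) * (if true then z else 1) = (t : G) * (f.z : G) by simp [hz']), f.π_mul, ExtraspecialOut.π_z, add_zero]
      have hm1 : (s r : G) * (if b then z else 1) ∈ J := (Φ (r, b)).2.1
      have hm2 : (s r' : G) * (if b' then z else 1) ∈ J := (Φ (r', b')).2.1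
      have hr : r = r' := Subtype.ext (by
        rw [← hsπ r, ← hsπ r', ← hπ (s r) b hm1, ← hπ (s r') b' hm2]
        congr 1
        exact Subtype.ext e1)
      subst hr
      have e2 := mul_left_cancel e1
      cases b <;> cases b' <;> simp at e2 <;> first | rfl | exact absurd e2 h.extra.z_ne | exact absurd e2.symm h.extra.z_ne
    have := Nat.card_le_card_of_injective Φ hΦ
    rw [Nat.card_prod, Nat.card_eq_fintype_card (α := Bool), Fintype.card_bool] at this
    omega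
  have hR16 : Nat.card R ≤ 16 := by
    have := abelian_nine h.extra h.card_J (A := A) inf_le_left hAab
    omega
  have hAR : Nat.card A ≤ 2 * Nat.card R := by
    let Φ : A → R × Bool := fun a =>
      (⟨f.π ⟨a, a.2.1⟩, ⟨⟨a, a.2.1⟩, a.2.2, rfl⟩⟩,
        decide (Classical.choose (⟨⟨a, a.2.1⟩, a.2.2, rfl⟩ : ∃ b : ↥J, (b : G) ∈ J' ∧ f.π b = f.π ⟨a, a.2.1⟩) =
          ⟨a, a.2.1⟩))
    have hΦ : Function.Injective Φ := by
      intro a b e
      simp only [Φ, Prod.mk.injEq, Subtype.mk.injEq] at e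
      obtain ⟨e1, e2⟩ := e
      set ca := Classical.choose (⟨⟨a, a.2.1⟩, a.2.2, rfl⟩ : ∃ c : ↥J, (c : G) ∈ J' ∧ f.π c = f.π ⟨a, a.2.1⟩)
        with hca
      have hcb : Classical.choose
          (⟨⟨b, b.2.1⟩, b.2.2, rfl⟩ : ∃ c : ↥J, (c : G) ∈ J' ∧ f.π c = f.π ⟨b, b.2.1⟩) = ca := by
        rw [hca]
        congr 1
        funext c
        rw [e1]
      rw [hcb] at e2
      have hfa := (Classical.choose_spec
        (⟨⟨a, a.2.1⟩, a.2.2, rfl⟩ : ∃ c : ↥J, (c : G) ∈ J' ∧ f.π c = f.π ⟨a, a.2.1⟩)).2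
      rw [← hca] at hfa
      apply Subtype.ext
      by_cases hEa : ca = ⟨a, a.2.1⟩
      · have hEb : ca = ⟨b, b.2.1⟩ := by simpa [hEa] using e2
        exact congrArg (fun q : ↥J => (q : G)) (hEa.symm.trans hEb)
      · have hEb : ca ≠ ⟨b, b.2.1⟩ := fun hh => hEa (by simpa [hh] using e2)
        have key : ∀ x : ↥J, f.π ca = f.π x → ca ≠ x → x = ca * f.z := by
          intro x hx hnx
          rcases ExtraspecialOut.of_π_eq f hx with e' | e'
          · exact absurd (inv_mul_eq_one.1 e') hnx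
          · rw [← e', mul_inv_cancel_left]
        have k1 := key ⟨a, a.2.1⟩ hfa hEa
        have k2 := key ⟨b, b.2.1⟩ (hfa.trans e1) hEb
        exact congrArg (fun q : ↥J => (q : G)) (k1.trans k2.symm)
    have := Nat.card_le_card_of_injective Φ hΦ
    rw [Nat.card_prod, Nat.card_eq_fintype_card (α := Bool), Fintype.card_bool] at this
    omega
  set D' := J' ⊓ Subgroup.centralizer ({z} : Set G) with hD'
  let ι : ↥D' →* (V ≃ₗ[ZMod 2] V) := (linC h f).comp
    { toFun := fun d => ⟨d, d.2.2⟩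
      map_one' := rfl
      map_mul' := fun _ _ => rfl }
  have hker : Nat.card ι.ker ≤ Nat.card A := by
    refine Nat.card_le_card_of_injective
      (fun d => (⟨((d.1 : ↥D') : G), ⟨(lin_eq_one h f (Subgroup.centralizer ({z} : Set G)) _ ⟨((d.1 : ↥D') : G), d.1.2.2⟩).1 d.2, d.1.2.1⟩⟩ : ↥A))
      fun a b e => Subtype.ext (Subtype.ext (congrArg (fun q : ↥A => (q : G)) e))
  have hmul := ι.ker.card_mul_index
  rw [Subgroup.index_ker, card_half_nine h' hc' hzJ' h.extra.z_ne hne'] at hmul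
  have hfixv : ∀ p ∈ ι.range, p v = v := by
    rintro _ ⟨d, rfl⟩
    show linC h f ⟨d, d.2.2⟩ (f.π ⟨u, hu⟩) = f.π ⟨u, hu⟩
    rw [linC, lin_apply h f]
    congr 1
    refine Subtype.ext ?_
    show (d : G) * u * (d : G)⁻¹ = u
    rw [← h'.z_comm d.2.1, mul_inv_cancel_right]
  have hstab : ∀ q ∈ G0 h f, q v = v → ∃ c : ↥(Subgroup.centralizer ({z} : Set G)),
      linC h f c = q ∧ (c : G) * u = u * c := by
    rintro _ ⟨a, rfl⟩ hav
    have hc := h.K_le a a.2
    have hm := h.normJ a hc u hu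
    have he : f.π ⟨(a : G) * u * (a : G)⁻¹, hm⟩ = v := by
      refine Eq.trans ?_ hav
      exact (lin_apply h f K h.K_le a ⟨u, hu⟩).symm
    rcases ExtraspecialOut.of_π_eq f he with e | e
    · refine ⟨⟨a, Subgroup.mem_centralizer_singleton_iff.2 hc⟩, rfl, mul_inv_eq_iff_eq_mul.1 ?_⟩
      exact congrArg Subtype.val (inv_mul_eq_one.1 e)
    · have e' : (a : G) * u * (a : G)⁻¹ = u * z := by
        have h1 : ((a : G) * u * (a : G)⁻¹)⁻¹ * u = z := (congrArg Subtype.val e).trans hz'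
        calc (a : G) * u * (a : G)⁻¹ = u * (((a : G) * u * (a : G)⁻¹)⁻¹ * u)⁻¹ := by group
          _ = u * z := by rw [h1, h.extra.inv_z]
      obtain ⟨q, hq, hqe⟩ := h.extra.exists_conj_eq hu hu1 hne
      have hqC : q ∈ Subgroup.centralizer ({z} : Set G) := h.extra.le_centralizer hq
      refine ⟨(⟨q, hqC⟩ : ↥(Subgroup.centralizer ({z} : Set G)))⁻¹ *
        ⟨a, Subgroup.mem_centralizer_singleton_iff.2 hc⟩, ?_, mul_inv_eq_iff_eq_mul.1 ?_⟩
      · rw [map_mul, map_inv, (show linC h f ⟨q, hqC⟩ = 1 from (lin_eq_one h f _ _ _).2 hq), inv_one, one_mul]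
        rfl
      · show q⁻¹ * (a : G) * u * (q⁻¹ * a)⁻¹ = u
        rw [show q⁻¹ * (a : G) * u * (q⁻¹ * a)⁻¹ = q⁻¹ * ((a : G) * u * (a : G)⁻¹) * q by group, e', ← hqe]
        group
  have hsys := plane_sys h f k hk hops hno hKn hidx hcc
  have hlt := hsys.no_pair (Ψ := ι.range) (by rintro _ ⟨d, rfl⟩; exact ⟨_, rfl⟩) hR16 hvR hv0 hsing
    ?_ hfixv ?_ ?_ ?_
  · have : 256 ≤ Nat.card ι.range * (2 * Nat.card R) := by
      calc 256 = Nat.card ι.ker * Nat.card ι.range := hmul.symm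
        _ ≤ Nat.card A * Nat.card ι.range := Nat.mul_le_mul_right _ hker
        _ ≤ _ := by rw [mul_comm (Nat.card ι.range)]; exact Nat.mul_le_mul_right _ hAR
    exact absurd this (not_le.2 hlt)
  · rintro _ ⟨d, rfl⟩
    rw [← map_mul]
    show linC h f ⟨((d * d : ↥D') : G), (d * d).2.2⟩ = 1
    refine (lin_eq_one h f _ _ _).2 ?_
    show (d : G) * d ∈ J
    rcases h'.sq_cases d.2.1 with e | e <;> rw [e]
    · exact one_mem _
    · exact hu
  · rintro q hq hqv _ ⟨d, rfl⟩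
    obtain ⟨c, rfl, hc⟩ := hstab q hq hqv
    refine ⟨⟨(c : G) * d * (c : G)⁻¹, Subgroup.mem_inf.2 ⟨hnorm' c hc _ d.2.1, mul_mem (mul_mem c.2 d.2.2) (inv_mem c.2)⟩⟩, ?_⟩
    show linC h f ⟨(c : G) * d * (c : G)⁻¹, _⟩ = _ * linC h f ⟨d, d.2.2⟩ * _
    rw [← map_inv, ← map_mul, ← map_mul]
    rfl
  · rintro q hq hqv _ ⟨a, ha, rfl⟩
    obtain ⟨c, rfl, hc⟩ := hstab q hq hqv
    refine ⟨⟨(c : G) * a * (c : G)⁻¹, h.normJ c (Subgroup.mem_centralizer_singleton_iff.1 c.2) a a.2⟩,
      hnorm' c hc a ha, ?_⟩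
    rw [linC, lin_apply h f]
    rfl
  · rintro _ ⟨d, rfl⟩ x hx
    obtain ⟨a, rfl⟩ := f.π_surj x
    have hau : (a : G) * u = u * a := comm_of_beta h f (b := ⟨u, hu⟩) hx
    have hd : (d : G) * z = z * d := Subgroup.mem_centralizer_singleton_iff.1 d.2.2
    refine ⟨⟨(d : G) * a * (d : G)⁻¹, h.normJ d hd a a.2⟩ * a⁻¹, ?_, ?_⟩
    · show (d : G) * a * (d : G)⁻¹ * (a : G)⁻¹ ∈ J'
      rw [show (d : G) * a * (d : G)⁻¹ * (a : G)⁻¹ = d * (a * (d : G)⁻¹ * (a : G)⁻¹) by group]
      exact mul_mem d.2.1 (hnorm' a hau _ (inv_mem (show (d : G) ∈ J' from d.2.1)))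
    · rw [f.π_mul, ExtraspecialOut.π_inv]
      congr 1
      exact (lin_apply h f _ _ ⟨d, d.2.2⟩ a).symm

end CfsgLib.Recognition.USixTwoOuter
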