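import Cfsg.Agent.Lib.Recognition.USixTwoOuter.Model

/-!
A group acting trivially on a plane and irreducibly on its complement of dimension six, with an element
of order five in the stabiliser of each vector: the elementary abelian groups attached to a totally
singular subspace are too small.
-/

set_option autoImplicit false
set_option linter.unusedSectionVars false
set_option linter.style.haveILetI false

namespace CfsgLib.Recognition.USixTwoOuter.Plane

open CfsgLib.Recognition.USixTwoOuter (V)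

/-- Linear maps of the coordinate space. -/
abbrev Aut8 := V ≃ₗ[ZMod 2] V

theorem finite_aut8 : Finite Aut8 := Finite.of_injective (fun p : Aut8 => (p : V → V)) DFunLike.coe_injective

/-- The vectors orthogonal to `F`. -/
def perp (Q : QuadraticForm (ZMod 2) V) (F : AddSubgroup V) : AddSubgroup V where
  carrier := {y | ∀ v ∈ F, QuadraticMap.polarBilin Q v y = 0}
  add_mem' := fun {a b} ha hb v hv => by rw [map_add, ha v hv, hb v hv, add_zero]
  zero_mem' := fun v _ => map_zero _
  neg_mem' := fun {a} ha v hv => by rw [map_neg, ha v hv, neg_zero]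

/-- The configuration. -/
structure Sys (G₀ GC : Subgroup Aut8) (Q : QuadraticForm (ZMod 2) V) (F : AddSubgroup V) : Prop where
  le : G₀ ≤ GC
  nondeg : ∀ u, (∀ v, QuadraticMap.polarBilin Q u v = 0) → u = 0
  pres : ∀ c ∈ GC, ∀ x, Q (c x) = Q x
  presF : ∀ c ∈ GC, ∀ x ∈ F, c x ∈ F
  triv : ∀ k ∈ G₀, ∀ x ∈ F, k x = x
  cardF : Nat.card F = 4
  dec : ∀ x, ∃ u ∈ F, ∃ y ∈ perp Q F, x = u + y
  irred : ∀ W : AddSubgroup V, W ≤ perp Q F → (∀ k ∈ G₀, ∀ x ∈ W, k x ∈ W) → W = ⊥ ∨ perp Q F ≤ W
  five : ∀ a ∈ perp Q F, a ≠ 0 → ∃ g ∈ G₀, orderOf g = 5 ∧ g a = a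
  faith : ∀ c ∈ GC, (∀ x ∈ perp Q F, c x = x) → c = 1
  index : ∀ Ψ : Subgroup Aut8, Ψ ≤ GC → Nat.card Ψ ≤ 2 * Nat.card ↥(Ψ ⊓ G₀)

theorem beta_comm (Q : QuadraticForm (ZMod 2) V) (u v : V) :
    QuadraticMap.polarBilin Q u v = QuadraticMap.polarBilin Q v u := QuadraticMap.polar_comm _ u v

theorem beta_self (Q : QuadraticForm (ZMod 2) V) (u : V) : QuadraticMap.polarBilin Q u u = 0 := by
  show QuadraticMap.polar Q u u = 0
  rw [QuadraticMap.polar, ZModModule.add_self, QuadraticMap.map_zero]
  generalize Q u = c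
  revert c; decide

theorem q_add (Q : QuadraticForm (ZMod 2) V) (u v : V) :
    Q (u + v) = Q u + Q v + QuadraticMap.polarBilin Q u v := QuadraticMap.map_add Q u v

theorem pres_beta (Q : QuadraticForm (ZMod 2) V) {c : Aut8} (hc : ∀ x, Q (c x) = Q x) (u v : V) :
    QuadraticMap.polarBilin Q (c u) (c v) = QuadraticMap.polarBilin Q u v := by
  show QuadraticMap.polar Q (c u) (c v) = QuadraticMap.polar Q u v
  rw [QuadraticMap.polar, QuadraticMap.polar, ← map_add, hc, hc, hc]

theorem card_two_pow (W : AddSubgroup V) : ∃ j, Nat.card W = 2 ^ j := by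
  have h := AddSubgroup.card_addSubgroup_dvd_card W
  rw [Nat.card_eq_fintype_card (α := V), Fintype.card_fun, ZMod.card, Fintype.card_fin] at h
  obtain ⟨j, -, hj⟩ := (Nat.dvd_prime_pow Nat.prime_two).1 h
  exact ⟨j, hj⟩

/-- The fixed vectors of `H` in `W`. -/
def fixIn (H : Subgroup Aut8) (W : AddSubgroup V) : AddSubgroup V where
  carrier := {x | x ∈ W ∧ ∀ p ∈ H, p x = x}
  add_mem' := fun {a b} ha hb => ⟨add_mem ha.1 hb.1, fun p hp => by rw [map_add, ha.2 p hp, hb.2 p hp]⟩
  zero_mem' := ⟨zero_mem _, fun p _ => map_zero p⟩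
  neg_mem' := fun {a} ha => ⟨neg_mem ha.1, fun p hp => by rw [map_neg, ha.2 p hp]⟩

theorem fixIn_zpowers {g : Aut8} {W : AddSubgroup V} {x : V} (hx : x ∈ W) (h : g x = x) :
    x ∈ fixIn (Subgroup.zpowers g) W :=
  ⟨hx, fun p hp => by
    have : p ∈ MulAction.stabilizer Aut8 x :=
      (Subgroup.zpowers_le.2 (show g ∈ MulAction.stabilizer Aut8 x from h)) hp
    exact this⟩

/-- A group of prime power order fixes as many vectors as there are, modulo the prime. -/
theorem modEq_fixIn {p : ℕ} [Fact p.Prime] (H : Subgroup Aut8) (hH : IsPGroup p H) (W : AddSubgroup V)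
    (hW : ∀ h ∈ H, ∀ x ∈ W, h x ∈ W) : Nat.card W ≡ Nat.card (fixIn H W) [MOD p] := by
  letI : MulAction H W :=
    { smul := fun h x => ⟨(h : Aut8) x, hW h h.2 x x.2⟩
      one_smul := fun x => Subtype.ext rfl
      mul_smul := fun a b x => Subtype.ext rfl }
  refine (hH.card_modEq_card_fixedPoints W).trans ?_
  rw [Nat.card_congr (show MulAction.fixedPoints H W ≃ fixIn H W from
    { toFun := fun x => ⟨x.1.1, x.1.2, fun q hq => congrArg Subtype.val (x.2 ⟨q, hq⟩)⟩
      invFun := fun x => ⟨⟨x.1, x.2.1⟩, fun q => Subtype.ext (x.2.2 q q.2)⟩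
      left_inv := fun x => rfl
      right_inv := fun x => rfl })]

theorem fix_five {g : Aut8} (hg : orderOf g = 5) {W : AddSubgroup V} (hW : ∀ x ∈ W, g x ∈ W) :
    Nat.card W ≡ Nat.card (fixIn (Subgroup.zpowers g) W) [MOD 5] := by
  haveI : Fact (Nat.Prime 5) := ⟨by norm_num⟩
  haveI := finite_aut8
  refine modEq_fixIn _ (IsPGroup.of_card (n := 1) (by rw [Nat.card_zpowers, hg, pow_one])) W ?_
  intro h hh x hx
  obtain ⟨i, rfl⟩ := (isOfFinOrder_of_finite g).mem_powers_iff_mem_zpowers.2 hh
  clear hh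
  induction i with
  | zero => simpa using hx
  | succ i ih => show (g ^ (i + 1)) x ∈ W; rw [pow_succ']; exact hW _ ih

/-- A group of exponent two fixes a nonzero vector of a nonzero invariant subgroup. -/
theorem exists_fixed_two {H : Subgroup Aut8} (hexp : ∀ p ∈ H, p * p = 1) {W : AddSubgroup V}
    (hW : ∀ h ∈ H, ∀ x ∈ W, h x ∈ W) (hne : W ≠ ⊥) : fixIn H W ≠ ⊥ := by
  haveI : Fact (Nat.Prime 2) := ⟨Nat.prime_two⟩
  have hp : IsPGroup 2 H := fun p => ⟨1, Subtype.ext (by
    rw [pow_one, pow_two]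
    exact hexp p p.2)⟩
  intro hbot
  have h := modEq_fixIn H hp W hW
  rw [hbot, AddSubgroup.card_bot] at h
  obtain ⟨j, hj⟩ := card_two_pow W
  rcases j with _ | j
  · exact hne (AddSubgroup.eq_bot_of_card_eq _ hj)
  · rw [Nat.ModEq, hj, pow_succ] at h
    omega

theorem card_four {a b : V} (ha : a ≠ 0) (hb : b ≠ 0) (hne : a ≠ b) :
    ({0, a, b, a + b} : Finset V).card = 4 := by
  have h1 : a + b ≠ 0 := fun e => hne ((eq_neg_of_add_eq_zero_left e).trans (ZModModule.neg_eq_self b))
  have h2 : a ≠ a + b := fun e => hb (left_eq_add.1 e)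
  have h3 : b ≠ a + b := fun e => ha (right_eq_add.1 e)
  rw [Finset.card_insert_of_notMem, Finset.card_insert_of_notMem, Finset.card_pair h3]
  · simp only [Finset.mem_insert, Finset.mem_singleton, not_or]
    exact ⟨hne, h2⟩
  · simp only [Finset.mem_insert, Finset.mem_singleton, not_or]
    exact ⟨ha.symm, hb.symm, h1.symm⟩

theorem pow_mod_five {i j : ℕ} (hji : j ≤ i) (hi : i ≤ 4) (hj : j ≠ 0) (h : 2 ^ i % 5 = 2 ^ j % 5) : i = j := by
  interval_cases i <;> interval_cases j <;> omega

theorem smul_mem_two {W : AddSubgroup V} {x : V} (hx : x ∈ W) (t : ZMod 2) : t • x ∈ W := by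
  rcases (show ∀ t : ZMod 2, t = 0 ∨ t = 1 by decide) t with e | e <;> subst e
  · rw [zero_smul]; exact zero_mem W
  · rw [one_smul]; exact hx

variable {G₀ GC : Subgroup Aut8} {Q : QuadraticForm (ZMod 2) V} {F : AddSubgroup V} (h : Sys G₀ GC Q F)
include h

local notation "β" => QuadraticMap.polarBilin Q
local notation "P" => perp Q F

theorem Sys.inf {x : V} (hF : x ∈ F) (hP : x ∈ P) : x = 0 := by
  refine h.nondeg x fun v => ?_
  obtain ⟨u, hu, y, hy, rfl⟩ := h.dec v
  rw [map_add, hy x hF, beta_comm, hP u hu, add_zero]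

theorem Sys.unique {u u' y y' : V} (hu : u ∈ F) (hu' : u' ∈ F) (hy : y ∈ P) (hy' : y' ∈ P)
    (e : u + y = u' + y') : u = u' ∧ y = y' := by
  have e1 : u - u' = y' - y := by rw [sub_eq_sub_iff_add_eq_add, e, add_comm]
  have h0 := h.inf (sub_mem hu hu') (e1 ▸ sub_mem hy' hy)
  exact ⟨sub_eq_zero.1 h0, (sub_eq_zero.1 (e1 ▸ h0)).symm⟩

theorem Sys.cardP : Nat.card P = 64 := by
  have h1 : Nat.card (F × P) = 256 := by
    rw [Nat.card_congr (Equiv.ofBijective (fun t : F × P => (t.1.1 + t.2.1 : V)) ⟨fun s t e => ?_, fun x => ?_⟩),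
      Nat.card_eq_fintype_card, Fintype.card_fun, ZMod.card, Fintype.card_fin]
    · norm_num
    · obtain ⟨h1, h2⟩ := h.unique s.1.2 t.1.2 s.2.2 t.2.2 e
      exact Prod.ext (Subtype.ext h1) (Subtype.ext h2)
    · obtain ⟨u, hu, y, hy, rfl⟩ := h.dec x
      exact ⟨(⟨u, hu⟩, ⟨y, hy⟩), rfl⟩
  rw [Nat.card_prod, h.cardF] at h1
  omega

theorem Sys.presP {c : Aut8} (hc : c ∈ GC) {y : V} (hy : y ∈ P) : c y ∈ P := by
  intro v hv
  have e : c (c⁻¹ v) = v := c.apply_symm_apply v
  rw [← e, pres_beta Q (h.pres c hc)]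
  exact hy _ (h.presF _ (inv_mem hc) v hv)

/-- The components of a vector fixed by an element of the big group are fixed. -/
theorem Sys.fix_parts {c : Aut8} (hc : c ∈ GC) {f a : V} (hf : f ∈ F) (ha : a ∈ P) (e : c (f + a) = f + a) :
    c f = f ∧ c a = a := by
  rw [map_add] at e
  exact h.unique (h.presF c hc f hf) hf (h.presP hc ha) ha e

/-- The fixed vectors of an element of order five on the complement. -/
theorem Sys.fix_card {g : Aut8} (hg : g ∈ G₀) (h5 : orderOf g = 5) {a : V} (ha : a ∈ P) (ha0 : a ≠ 0)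
    (hga : g a = a) : Nat.card (fixIn (Subgroup.zpowers g) P) = 4 := by
  have hm := fix_five h5 (W := P) fun x hx => h.presP (h.le hg) hx
  obtain ⟨j, hj⟩ := card_two_pow (fixIn (Subgroup.zpowers g) P)
  have hle : 2 ^ j ≤ 64 := hj ▸ h.cardP ▸ Nat.card_le_card_of_injective
    (fun x : fixIn (Subgroup.zpowers g) P => (⟨x.1, x.2.1⟩ : P))
    fun x y e => Subtype.ext (congrArg (fun q : P => (q : V)) e)
  have hj0 : j ≠ 0 := fun e => by
    rw [e, pow_zero] at hj
    have := (AddSubgroup.eq_bot_of_card_eq _ hj).le (fixIn_zpowers ha hga)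
    exact ha0 (AddSubgroup.mem_bot.1 this)
  have hj6 : j ≠ 6 := fun e => by
    subst e
    have hbij := (Nat.bijective_iff_injective_and_card
      (fun x : fixIn (Subgroup.zpowers g) P => (⟨x.1, x.2.1⟩ : P))).2
      ⟨fun x y e => Subtype.ext (congrArg (fun q : P => (q : V)) e), by rw [hj, h.cardP]; norm_num⟩
    have h1 : g = 1 := h.faith g (h.le hg) fun x hx => by
      obtain ⟨⟨y, hy⟩, hxy⟩ := hbij.2 ⟨x, hx⟩
      obtain rfl : y = x := congrArg Subtype.val hxy
      exact hy.2 g (Subgroup.mem_zpowers g)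
    rw [h1, orderOf_one] at h5
    omega
  have hj' : j ≤ 6 := by
    by_contra hlt
    have : 2 ^ 7 ≤ 2 ^ j := Nat.pow_le_pow_right (by norm_num) (by omega)
    omega
  rw [h.cardP, hj, Nat.ModEq] at hm
  interval_cases j <;> simp_all

/-- The bound on the elements moving the hyperplane of `a` into `⟨a⟩`. -/
theorem Sys.siegel {Ψ : Subgroup Aut8} (hΨ : Ψ ≤ GC) {a : V} (ha : a ∈ P) (ha0 : a ≠ 0)
    (hfix : ∀ p ∈ Ψ, p a = a) (hmv : ∀ p ∈ Ψ, ∀ x ∈ P, β a x = 0 → p x + x = 0 ∨ p x + x = a) :
    Nat.card Ψ ≤ 16 := by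
  classical
  obtain ⟨w, hw, haw⟩ : ∃ w ∈ P, β a w = 1 := by
    by_contra hcon
    push Not at hcon
    refine ha0 (h.nondeg a fun v => ?_)
    obtain ⟨u, hu, y, hy, rfl⟩ := h.dec v
    have : β a y = 0 := by
      have := hcon y hy
      revert this; generalize β a y = c; revert c; decide
    rw [map_add, this, beta_comm, ha u hu, add_zero]
  have h01 : ∀ t : ZMod 2, t = 0 ∨ t = 1 := by decide
  -- the parameter of an element
  let d : Ψ → V := fun p => (p : Aut8) w + w
  have hd : ∀ p : Ψ, ∀ x ∈ P, β a x = 0 → (p : Aut8) x + x = β x (d p) • a := by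
    intro p x hx hax
    have hpx : ∃ t : ZMod 2, (p : Aut8) x = x + t • a := by
      rcases hmv p p.2 x hx hax with e | e
      · exact ⟨0, by rw [zero_smul, add_zero, (eq_neg_of_add_eq_zero_left e), ZModModule.neg_eq_self]⟩
      · exact ⟨1, by rw [one_smul, ← e, add_comm ((p : Aut8) x), ← add_assoc, ZModModule.add_self, zero_add]⟩
    obtain ⟨t, ht⟩ := hpx
    have h1 := pres_beta Q (h.pres p (hΨ p.2)) x w
    have h2 := pres_beta Q (h.pres p (hΨ p.2)) a w
    rw [hfix p p.2, haw] at h2
    rw [ht, map_add, LinearMap.add_apply, map_smul, LinearMap.smul_apply, h2, smul_eq_mul, mul_one] at h1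
    have : β x (d p) = t := by
      simp only [d, map_add]
      revert h1
      generalize β x ((p : Aut8) w) = A
      generalize β x w = B
      intro h1
      clear ht
      revert t A B; decide
    rw [ht, this, add_comm x, add_assoc, ZModModule.add_self, add_zero]
  have hdP : ∀ p, d p ∈ P := fun p => add_mem (h.presP (hΨ p.2) hw) hw
  have hda : ∀ p, β a (d p) = 0 := fun p => by
    have h2 := pres_beta Q (h.pres p (hΨ p.2)) a w
    rw [hfix p p.2, haw] at h2
    simp only [d, map_add, h2, haw]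
    rfl
  have hdinj : Function.Injective d := by
    intro p p' e
    have hagree : ∀ x ∈ P, (p : Aut8) x = (p' : Aut8) x := by
      have hker : ∀ x ∈ P, β a x = 0 → (p : Aut8) x = (p' : Aut8) x := fun x hx hax =>
        add_right_cancel ((hd p x hx hax).trans (by rw [e, hd p' x hx hax]))
      intro x hx
      rcases h01 (β a x) with hax | hax
      · exact hker x hx hax
      · have h1 := hker (x + w) (add_mem hx hw) (by rw [map_add, hax, haw]; rfl)
        rw [map_add, map_add] at h1
        have h2 : (p : Aut8) w = (p' : Aut8) w := add_right_cancel e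
        rw [h2] at h1
        exact add_right_cancel h1
    have h1 : ((p' : Aut8))⁻¹ * p = 1 := h.faith _ (mul_mem (inv_mem (hΨ p'.2)) (hΨ p.2)) fun x hx => by
      show (p' : Aut8)⁻¹ ((p : Aut8) x) = x
      rw [hagree x hx]
      exact (p' : Aut8).symm_apply_apply x
    exact Subtype.ext (inv_mul_eq_one.1 h1).symm
  haveI := finite_aut8
  rcases h01 (Q a) with hQa | hQa
  · have hrel : ∀ p, Q (d p) + β w (d p) = 0 := by
      intro p
      have h1 : Q ((p : Aut8) w) = Q w := h.pres p (hΨ p.2) w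
      have h2 : (p : Aut8) w = w + d p := by
        simp only [d]
        rw [add_comm ((p : Aut8) w), ← add_assoc, ZModModule.add_self, zero_add]
      rw [h2, q_add, add_assoc] at h1
      simpa using h1
    let Φ : Ψ × ZMod 2 × ZMod 2 → P := fun t =>
      ⟨d t.1 + t.2.1 • a + t.2.2 • w, add_mem (add_mem (hdP _)
        (by rcases h01 t.2.1 with e | e <;> simp [e, ha, zero_mem]))
        (by rcases h01 t.2.2 with e | e <;> simp [e, hw, zero_mem])⟩
    have hΦ : Function.Injective Φ := by
      rintro ⟨p, s, t⟩ ⟨p', s', t'⟩ e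
      have e' : d p + s • a + t • w = d p' + s' • a + t' • w := congrArg (fun q : P => (q : V)) e
      have ht : t = t' := by
        have h1 := congrArg (β a) e'
        simp only [map_add, map_smul, hda, beta_self, haw, smul_eq_mul, mul_zero, mul_one, zero_add] at h1
        exact h1
      subst ht
      have e'' : d p + s • a = d p' + s' • a := add_right_cancel e'
      have hs : s = s' := by
        have key : ∀ (q : Ψ) (r : ZMod 2), Q (d q + r • a) + β w (d q + r • a) = r := by
          intro q r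
          have h1 := hrel q
          rw [q_add, QuadraticMap.map_smul, hQa, (β w).map_add, (β w).map_smul, (β (d q)).map_smul, beta_comm Q (d q) a, hda,
            beta_comm Q w a, haw]
          simp only [smul_eq_mul, mul_zero, mul_one, add_zero]
          rw [← add_assoc, h1, zero_add]
        rw [← key p s, e'', key p' s']
      subst hs
      rw [hdinj (add_right_cancel e'')]
    have := Nat.card_le_card_of_injective Φ hΦ
    rw [Nat.card_prod, Nat.card_prod, Nat.card_zmod, h.cardP] at this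
    omega
  · have hsmall : ∀ p, d p = β w (d p) • a := by
      intro p
      have horth : ∀ x ∈ P, β a x = 0 → β x (d p) = 0 := by
        intro x hx hax
        have h1 := hd p x hx hax
        have h2 : (p : Aut8) x = x + β x (d p) • a := by
          rw [← h1, add_comm ((p : Aut8) x), ← add_assoc, ZModModule.add_self, zero_add]
        have h3 := h.pres p (hΨ p.2) x
        rw [h2, q_add, QuadraticMap.map_smul, hQa, map_smul, beta_comm Q x a, hax] at h3
        simpa using h3
      refine (eq_neg_of_add_eq_zero_left (h.nondeg (d p + β w (d p) • a) fun v => ?_)).trans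
        (ZModModule.neg_eq_self _)
      have hall : ∀ y ∈ P, β (d p + β w (d p) • a) y = 0 := by
        intro y hy
        rcases h01 (β a y) with hay | hay
        · rw [map_add, LinearMap.add_apply, map_smul, LinearMap.smul_apply, hay, beta_comm, horth y hy hay]
          simp
        · have := horth (y + w) (add_mem hy hw) (by rw [map_add, hay, haw]; rfl)
          rw [(β).map_add y w, LinearMap.add_apply] at this
          rw [map_add, LinearMap.add_apply, map_smul, LinearMap.smul_apply, hay, beta_comm Q (d p) y,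
            smul_eq_mul, mul_one, this]
      obtain ⟨u, hu, y, hy, rfl⟩ := h.dec v
      rw [map_add, hall y hy, add_zero, beta_comm]
      exact (add_mem (hdP p) (by rcases h01 (β w (d p)) with e | e <;> simp [e, ha, zero_mem]) :
        d p + β w (d p) • a ∈ P) u hu
    have := Nat.card_le_card_of_injective (fun p : Ψ => β w (d p)) fun p p' e => hdinj (by
      rw [hsmall p, hsmall p']
      exact congrArg (· • a) e)
    rw [Nat.card_zmod] at this
    omega

/-- The elementary group attached to a totally singular subspace through `v` is too small. -/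
theorem Sys.no_pair {Ψ : Subgroup Aut8} (hΨ : Ψ ≤ GC) {R : AddSubgroup V} (hR16 : Nat.card R ≤ 16)
    {v : V} (hvR : v ∈ R) (hv0 : v ≠ 0) (hsing : ∀ r ∈ R, Q r = 0) (hexp : ∀ p ∈ Ψ, p * p = 1)
    (hfix : ∀ p ∈ Ψ, p v = v) (hnΨ : ∀ k ∈ G₀, k v = v → ∀ p ∈ Ψ, k * p * k⁻¹ ∈ Ψ)
    (hnR : ∀ k ∈ G₀, k v = v → ∀ r ∈ R, k r ∈ R) (hmv : ∀ p ∈ Ψ, ∀ x, β x v = 0 → p x + x ∈ R) :
    Nat.card Ψ * (2 * Nat.card R) < 256 := by
  classical
  have hiso : ∀ r ∈ R, ∀ r' ∈ R, β r r' = 0 := fun r hr r' hr' => by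
    have h1 := q_add Q r r'
    rw [hsing _ (add_mem hr hr'), hsing r hr, hsing r' hr', zero_add, zero_add] at h1
    exact h1.symm
  have hsmall : Ψ ⊓ G₀ = ⊥ → Nat.card Ψ * (2 * Nat.card R) < 256 := fun hb => by
    have h1 := h.index Ψ hΨ
    rw [hb, Subgroup.card_bot] at h1
    exact lt_of_le_of_lt (Nat.mul_le_mul h1 (Nat.mul_le_mul_left 2 hR16)) (by norm_num)
  have htrivial : ∀ W : AddSubgroup V, (∀ p ∈ Ψ ⊓ G₀, ∀ x ∈ W, p x = x) → P ≤ W → Ψ ⊓ G₀ = ⊥ :=
    fun W hW hP => eq_bot_iff.2 fun p hp =>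
      Subgroup.mem_bot.2 (h.faith p (hΨ hp.1) fun x hx => hW p hp x (hP hx))
  obtain ⟨f₀, hf₀, a, ha, rfl⟩ := h.dec v
  have hkfix : ∀ k ∈ G₀, k a = a → k (f₀ + a) = f₀ + a := fun k hk e => by
    rw [map_add, h.triv k hk f₀ hf₀, e]
  have hpa : ∀ p ∈ Ψ, p a = a := fun p hp => (h.fix_parts (hΨ hp) hf₀ ha (hfix p hp)).2
  by_cases ha0 : a = 0
  · subst ha0
    refine hsmall ?_
    have hne : fixIn (Ψ ⊓ G₀) P ≠ ⊥ := exists_fixed_two (H := Ψ ⊓ G₀) (fun p hp => hexp p hp.1)
      (W := P) (fun p hp x hx => h.presP (hΨ hp.1) hx) fun e => by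
        have := h.cardP
        rw [e, AddSubgroup.card_bot] at this
        omega
    rcases h.irred (fixIn (Ψ ⊓ G₀) P) (fun x hx => hx.1) (fun k hk x hx => ⟨h.presP (h.le hk) hx.1,
      fun p hp => by
        have hkv : k⁻¹ (f₀ + 0) = f₀ + 0 := hkfix _ (inv_mem hk) (map_zero _)
        have hconj : k⁻¹ * p * k ∈ Ψ ⊓ G₀ :=
          Subgroup.mem_inf.2 ⟨by simpa using hnΨ k⁻¹ (inv_mem hk) hkv p hp.1, mul_mem (mul_mem (inv_mem hk) hp.2) hk⟩
        have h1 : k⁻¹ (p (k x)) = x := hx.2 _ hconj
        calc p (k x) = k (k⁻¹ (p (k x))) := (k.apply_symm_apply _).symm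
          _ = k x := by rw [h1]⟩) with e | e
    · exact absurd e hne
    · exact htrivial (fixIn (Ψ ⊓ G₀) P) (fun p hp x hx => hx.2 p hp) e
  obtain ⟨g, hg, hg5, hga⟩ := h.five a ha ha0
  let R6 : AddSubgroup V :=
    { carrier := {y | y ∈ P ∧ ∃ u ∈ F, u + y ∈ R}
      add_mem' := fun {x y} hx hy => by
        obtain ⟨u, hu, hxu⟩ := hx.2
        obtain ⟨u', hu', hyu⟩ := hy.2
        exact ⟨add_mem hx.1 hy.1, u + u', add_mem hu hu', by
          rw [show u + u' + (x + y) = u + x + (u' + y) by abel]; exact add_mem hxu hyu⟩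
      zero_mem' := ⟨zero_mem _, 0, zero_mem _, by rw [add_zero]; exact zero_mem _⟩
      neg_mem' := fun {x} hx => by rw [ZModModule.neg_eq_self]; exact hx }
  have haR6 : a ∈ R6 := ⟨ha, f₀, hf₀, hvR⟩
  have hinv6 : ∀ k ∈ G₀, k a = a → ∀ y ∈ R6, k y ∈ R6 := by
    rintro k hk hka y ⟨hy, u, hu, hr⟩
    refine ⟨h.presP (h.le hk) hy, u, hu, ?_⟩
    have := hnR k hk (hkfix k hk hka) _ hr
    rwa [map_add, h.triv k hk u hu] at this
  haveI : Finite R := inferInstance
  have hR6le : Nat.card R6 ≤ 16 := by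
    refine le_trans (Nat.card_le_card_of_injective
      (fun y : R6 => (⟨_, y.2.2.choose_spec.2⟩ : R)) fun y y' e => ?_) hR16
    exact Subtype.ext (h.unique y.2.2.choose_spec.1 y'.2.2.choose_spec.1 y.2.1 y'.2.1
      (congrArg Subtype.val e)).2
  -- `g` centralises the projection
  have hP0 := h.fix_card hg hg5 ha ha0 hga
  set P0 := fixIn (Subgroup.zpowers g) P with hP0def
  have hR60 : R6 ≤ P0 := by
    have hm := fix_five hg5 (W := R6) fun y hy => hinv6 g hg hga y hy
    obtain ⟨i, hi⟩ := card_two_pow R6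
    obtain ⟨j, hj⟩ := card_two_pow (fixIn (Subgroup.zpowers g) R6)
    have hle : fixIn (Subgroup.zpowers g) R6 ≤ R6 := fun x hx => hx.1
    have hij : 2 ^ j ≤ 2 ^ i := hi ▸ hj ▸ Nat.card_le_card_of_injective (fun x => (⟨x.1, hle x.2⟩ : R6))
      fun x y e => Subtype.ext (congrArg (fun q : R6 => (q : V)) e)
    have hj0 : j ≠ 0 := fun e => by
      rw [e, pow_zero] at hj
      exact ha0 (AddSubgroup.mem_bot.1 ((AddSubgroup.eq_bot_of_card_eq _ hj).le (fixIn_zpowers haR6 hga)))
    have hi4 : i ≤ 4 := (Nat.pow_le_pow_iff_right (le_refl 2)).1 (show 2 ^ i ≤ 2 ^ 4 by rw [← hi]; omega)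
    have hji : j ≤ i := (Nat.pow_le_pow_iff_right (le_refl 2)).1 hij
    rw [hi, hj, Nat.ModEq] at hm
    have hij' : i = j := pow_mod_five hji hi4 hj0 hm
    intro y hy
    have hbij := (Nat.bijective_iff_injective_and_card
      (fun x : fixIn (Subgroup.zpowers g) R6 => (⟨x.1, hle x.2⟩ : R6))).2
      ⟨fun x y e => Subtype.ext (congrArg (fun q : R6 => (q : V)) e), by rw [hi, hj, hij']⟩
    obtain ⟨⟨x, hx⟩, hxy⟩ := hbij.2 ⟨y, hy⟩
    obtain rfl : x = y := congrArg Subtype.val hxy
    exact fixIn_zpowers hy.1 (hx.2 g (Subgroup.mem_zpowers g))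
  by_cases hR6 : ∀ y ∈ R6, y = 0 ∨ y = a
  · have hRF : ∀ r ∈ R, ∀ r' ∈ R, r ∈ F → r' ∈ F → r ≠ 0 → r' ≠ 0 → r = r' := by
      intro r hr r' hr' hF hF' hr0 hr0'
      by_contra hne
      let E : Finset V := {0, r, r', r + r'}
      have hE : E.card = 4 := card_four hr0 hr0' hne
      have hEF : ∀ x ∈ F, x ∈ E := by
        haveI := Fintype.ofFinite F
        have hsub : E ⊆ (F : Set V).toFinset := by
          intro x hx
          simp [E] at hx
          rcases hx with rfl | rfl | rfl | rfl <;> simp [hF, hF', add_mem, zero_mem]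
        have := Finset.eq_of_subset_of_card_le hsub (by
          rw [hE, Set.toFinset_card, ← Nat.card_eq_fintype_card, show Nat.card ↥(F : Set V) = 4 from h.cardF])
        intro x hx
        rw [this]; simpa using hx
      refine hr0 (h.inf hF fun x hx => ?_)
      rw [beta_comm]
      have := hEF x hx
      simp [E] at this
      rcases this with e | e | e | e <;> rw [e]
      · exact map_zero _
      · exact beta_self Q r
      · exact hiso r hr r' hr'
      · exact hiso r hr _ (add_mem hr hr')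
    have hR4 : Nat.card R ≤ 4 := by
      let f : R → Bool × Bool := fun r =>
        (decide ((r : V) ∈ F), decide ((r : V) = 0 ∨ (r : V) = f₀ + a))
      refine le_trans (Nat.card_le_card_of_injective f ?_) (by simp)
      have hout : ∀ r ∈ R, r ∉ F → r + (f₀ + a) ∈ F := by
        intro r hr hrF
        obtain ⟨u, hu, y, hy, rfl⟩ := h.dec r
        rcases hR6 y ⟨hy, u, hu, hr⟩ with rfl | rfl
        · exact absurd (by rw [add_zero]; exact hu) hrF
        · rw [show u + y + (f₀ + y) = u + f₀ + (y + y) by abel, ZModModule.add_self, add_zero]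
          exact add_mem hu hf₀
      have hvF : f₀ + a ∉ F := fun hm => ha0 (h.inf (by simpa using sub_mem hm hf₀) ha)
      intro r r' e
      simp only [f, Prod.mk.injEq, decide_eq_decide] at e
      apply Subtype.ext
      by_cases hrF : (r : V) ∈ F
      · have hrF' := e.1.1 hrF
        by_cases hr0 : (r : V) = 0
        · rcases e.2.1 (Or.inl hr0) with e' | e'
          · rw [hr0, e']
          · exact absurd (e' ▸ hrF') hvF
        · by_cases hr0' : (r' : V) = 0
          · rcases e.2.2 (Or.inl hr0') with e' | e'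
            · exact absurd e' hr0
            · exact absurd (e' ▸ hrF) hvF
          · exact hRF _ r.2 _ r'.2 hrF hrF' hr0 hr0'
      · have hrF' : (r' : V) ∉ F := fun hh => hrF (e.1.2 hh)
        by_cases hrv : (r : V) = f₀ + a
        · rcases e.2.1 (Or.inr hrv) with e' | e'
          · exact absurd (e' ▸ zero_mem F) hrF'
          · rw [hrv, e']
        · by_cases hrv' : (r' : V) = f₀ + a
          · rcases e.2.2 (Or.inr hrv') with e' | e'
            · exact absurd (e' ▸ zero_mem F) hrF
            · exact absurd e' hrv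
          · refine add_right_cancel (hRF _ (add_mem r.2 hvR) _ (add_mem r'.2 hvR) (hout _ r.2 hrF)
              (hout _ r'.2 hrF') ?_ ?_)
            · exact fun e' => hrv ((eq_neg_of_add_eq_zero_left e').trans (ZModModule.neg_eq_self _))
            · exact fun e' => hrv' ((eq_neg_of_add_eq_zero_left e').trans (ZModModule.neg_eq_self _))
    have hΨ16 := h.siegel hΨ ha ha0 hpa fun p hp x hx hax => hR6 _ ⟨add_mem (h.presP (hΨ hp) hx) hx, 0,
      zero_mem _, by
        rw [zero_add]
        refine hmv p hp x ?_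
        rw [map_add, beta_comm Q x f₀, hx f₀ hf₀, beta_comm, hax, add_zero]⟩
    exact lt_of_le_of_lt (Nat.mul_le_mul hΨ16 (Nat.mul_le_mul_left 2 hR4)) (by norm_num)
  push Not at hR6
  obtain ⟨b, hb6, hb0, hba⟩ := hR6
  have hb : b ∈ P := hb6.1
  haveI := Fintype.ofFinite P0
  have hP0mem : ∀ x ∈ P0, x = 0 ∨ x = a ∨ x = b ∨ x = a + b := by
    have hsub : ({0, a, b, a + b} : Finset V) ⊆ (P0 : Set V).toFinset := by
      intro x hx
      simp at hx
      rcases hx with rfl | rfl | rfl | rfl <;>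
        simp [hR60 haR6, hR60 hb6, add_mem (hR60 haR6) (hR60 hb6), zero_mem]
    have hc : ({0, a, b, a + b} : Finset V).card = 4 := card_four ha0 hb0 (Ne.symm hba)
    have := Finset.eq_of_subset_of_card_le hsub (by
      rw [hc, Set.toFinset_card, ← Nat.card_eq_fintype_card, show Nat.card ↥(P0 : Set V) = 4 from hP0])
    intro x hx
    have hx' : x ∈ ({0, a, b, a + b} : Finset V) := by rw [this]; simpa using hx
    simpa using hx'
  have hgfix : ∀ x ∈ P0, g x = x := fun x hx => hx.2 g (Subgroup.mem_zpowers g)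
  have hab : β a b = 1 := by
    by_contra hne
    have hab0 : β a b = 0 := by revert hne; generalize β a b = c; revert c; decide
    refine ha0 (h.nondeg a fun v => ?_)
    obtain ⟨u, hu, x, hx, rfl⟩ := h.dec v
    rw [map_add, beta_comm Q a u, ha u hu, zero_add]
    let s := x + g x + g (g x) + g (g (g x)) + g (g (g (g x)))
    have hgP : ∀ y ∈ P, g y ∈ P := fun y hy => h.presP (h.le hg) hy
    have hpow : g (g (g (g (g x)))) = x := by
      show (g * g * g * g * g) x = x
      rw [show g * g * g * g * g = g ^ 5 by simp only [pow_succ, pow_zero, one_mul],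
        ← hg5, pow_orderOf_eq_one]
      rfl
    have hs : s ∈ P0 := fixIn_zpowers (add_mem (add_mem (add_mem (add_mem hx (hgP _ hx)) (hgP _ (hgP _ hx)))
        (hgP _ (hgP _ (hgP _ hx)))) (hgP _ (hgP _ (hgP _ (hgP _ hx))))) (by
      simp only [s, map_add, hpow]
      abel)
    have hgb : ∀ y, β a (g y) = β a y := fun y => by
      conv_lhs => rw [← hga]
      exact pres_beta Q (h.pres g (h.le hg)) a y
    have h1 : β a s = β a x := by
      simp only [s, map_add, hgb]
      generalize β a x = c; revert c; decide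
    rw [← h1]
    rcases hP0mem s hs with e | e | e | e <;> rw [e]
    · exact map_zero _
    · exact beta_self Q a
    · exact hab0
    · rw [map_add, beta_self, hab0, add_zero]
  have hkb : ∀ k ∈ G₀, k a = a → k b = b := by
    intro k hk hka
    have hkb6 := hinv6 k hk hka b hb6
    rcases hP0mem _ (hR60 hkb6) with e | e | e | e
    · exact absurd (k.injective (e.trans (map_zero k).symm)) hb0
    · exact absurd (k.injective (e.trans hka.symm)) hba
    · exact e
    · exfalso
      obtain ⟨u, hu, hr⟩ := hb6.2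
      have hr' := hnR k hk (hkfix k hk hka) _ hr
      rw [map_add, h.triv k hk u hu, e] at hr'
      have haR : a ∈ R := by
        have := add_mem hr' hr
        rwa [show u + (a + b) + (u + b) = a + ((u + u) + (b + b)) by abel, ZModModule.add_self,
          ZModModule.add_self, add_zero, add_zero] at this
      have := hiso a haR _ hr
      rw [map_add, beta_comm Q a u, ha u hu, zero_add, hab] at this
      exact one_ne_zero this
  refine hsmall ?_
  let W' : AddSubgroup V :=
    { carrier := {x | x ∈ P ∧ β a x = 0 ∧ β b x = 0}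
      add_mem' := fun {x y} hx hy => ⟨add_mem hx.1 hy.1, by rw [map_add, hx.2.1, hy.2.1, add_zero],
        by rw [map_add, hx.2.2, hy.2.2, add_zero]⟩
      zero_mem' := ⟨zero_mem _, map_zero _, map_zero _⟩
      neg_mem' := fun {x} hx => by rw [ZModModule.neg_eq_self]; exact hx }
  have hWinv : ∀ c ∈ GC, c a = a → c b = b → ∀ x ∈ W', c x ∈ W' := fun c hc hca hcb x hx =>
    ⟨h.presP hc hx.1, by rw [← hca, pres_beta Q (h.pres c hc), hx.2.1],
      by rw [← hcb, pres_beta Q (h.pres c hc), hx.2.2]⟩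
  have hsplit : ∀ y ∈ P, y + β b y • a + β a y • b ∈ W' := by
    intro y hy
    refine ⟨add_mem (add_mem hy ?_) ?_, ?_, ?_⟩
    · exact smul_mem_two ha _
    · exact smul_mem_two hb _
    · rw [map_add, map_add, map_smul, map_smul, beta_self, hab]
      generalize β a y = c; generalize β b y = d
      revert c d; decide
    · rw [map_add, map_add, map_smul, map_smul, beta_self, beta_comm Q b a, hab]
      generalize β a y = c; generalize β b y = d
      revert c d; decide
  have hW0 : ∀ x ∈ W', g x = x → x = 0 := by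
    intro x hx hgx
    rcases hP0mem x (fixIn_zpowers hx.1 hgx) with e | e | e | e
    · exact e
    · have := hx.2.2
      rw [e, beta_comm, hab] at this; exact absurd this one_ne_zero
    · have := hx.2.1
      rw [e, hab] at this; exact absurd this one_ne_zero
    · have := hx.2.1
      rw [e, map_add, beta_self, hab, zero_add] at this; exact absurd this one_ne_zero
  let W0 := fixIn (Ψ ⊓ G₀) W'
  have hW0ne : W0 ≠ ⊥ := exists_fixed_two (H := Ψ ⊓ G₀) (fun p hp => hexp p hp.1)
    (W := W') (fun p hp => hWinv p (hΨ hp.1) (hpa p hp.1) (hkb p hp.2 (hpa p hp.1))) fun e => by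
      have hcard : Nat.card P ≤ 4 := by
        refine le_trans (Nat.card_le_card_of_injective (fun y : P => (β b y, β a y)) fun y y' e' => ?_)
          (by simp [Nat.card_prod, Nat.card_zmod])
        have h1 := hsplit y y.2
        have h2 := hsplit y' y'.2
        rw [e, AddSubgroup.mem_bot] at h1 h2
        simp only [Prod.mk.injEq] at e'
        rw [← h2, e'.1, e'.2] at h1
        exact Subtype.ext (add_right_cancel (add_right_cancel h1))
      have := h.cardP
      omega
  have hW0inv : ∀ x ∈ W0, g x ∈ W0 := fun x hx => ⟨hWinv g (h.le hg) hga (hkb g hg hga) x hx.1, fun p hp => by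
    have hkv : g⁻¹ (f₀ + a) = f₀ + a := hkfix _ (inv_mem hg) (by
      conv_lhs => rw [← hga]
      exact g.symm_apply_apply a)
    have hconj : g⁻¹ * p * g ∈ Ψ ⊓ G₀ :=
      Subgroup.mem_inf.2 ⟨by simpa using hnΨ g⁻¹ (inv_mem hg) hkv p hp.1, mul_mem (mul_mem (inv_mem hg) hp.2) hg⟩
    have h1 : g⁻¹ (p (g x)) = x := hx.2 _ hconj
    calc p (g x) = g (g⁻¹ (p (g x))) := (g.apply_symm_apply _).symm
      _ = g x := by rw [h1]⟩
  obtain ⟨i, hi⟩ := card_two_pow W0
  have hm := fix_five hg5 hW0inv
  have hb0' : fixIn (Subgroup.zpowers g) W0 = ⊥ := eq_bot_iff.2 fun x hx =>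
    AddSubgroup.mem_bot.2 (hW0 x hx.1.1 (hx.2 g (Subgroup.mem_zpowers g)))
  rw [hb0', AddSubgroup.card_bot, hi, Nat.ModEq] at hm
  have hW16 : Nat.card W' ≤ 16 := by
    have := Nat.card_le_card_of_injective (fun t : W' × ZMod 2 × ZMod 2 =>
      (⟨(t.1 : V) + t.2.1 • a + t.2.2 • b, add_mem (add_mem t.1.2.1
        (smul_mem_two ha _))
        (smul_mem_two hb _)⟩ : P)) ?_
    · rw [Nat.card_prod, Nat.card_prod, Nat.card_zmod, h.cardP] at this
      omega
    rintro ⟨x, s, t⟩ ⟨x', s', t'⟩ e
    have e' : (x : V) + s • a + t • b = x' + s' • a + t' • b := congrArg (fun q : P => (q : V)) e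
    have h1 := congrArg (β a) e'
    have h2 := congrArg (β b) e'
    simp only [map_add, map_smul, x.2.2.1, x'.2.2.1, x.2.2.2, x'.2.2.2, beta_self, hab, beta_comm Q b a,
      smul_eq_mul, mul_zero, mul_one, zero_add, add_zero] at h1 h2
    subst h1 h2
    rw [Subtype.ext (add_right_cancel (add_right_cancel e'))]
  have hsubW : W0 ≤ W' := fun x hx => hx.1
  have hle : 2 ^ i ≤ Nat.card W' := hi ▸ Nat.card_le_card_of_injective (fun x => (⟨x.1, hsubW x.2⟩ : W'))
    fun x y e => Subtype.ext (congrArg (fun q : W' => (q : V)) e)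
  have hi4 : i ≤ 4 := (Nat.pow_le_pow_iff_right (le_refl 2)).1 (show 2 ^ i ≤ 2 ^ 4 by omega)
  have hi0 : i ≠ 0 := fun e => hW0ne (AddSubgroup.eq_bot_of_card_eq _ (by rw [hi, e, pow_zero]))
  have hi16 : i = 4 := by interval_cases i <;> omega
  have hWW : ∀ x ∈ W', x ∈ W0 := fun x hx => by
    have hbij := (Nat.bijective_iff_injective_and_card (fun x : W0 => (⟨x.1, hsubW x.2⟩ : W'))).2
      ⟨fun x y e => Subtype.ext (congrArg (fun q : W' => (q : V)) e),
        le_antisymm (hi ▸ hle) (by rw [hi, hi16]; omega)⟩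
    obtain ⟨⟨y, hy⟩, hyx⟩ := hbij.2 ⟨x, hx⟩
    obtain rfl : y = x := congrArg Subtype.val hyx
    exact hy
  refine htrivial (fixIn (Ψ ⊓ G₀) P) (fun p hp x hx => hx.2 p hp) fun y hy => ⟨hy, fun p hp => ?_⟩
  have h1 := (hWW _ (hsplit y hy)).2 p hp
  have hca := hpa p hp.1
  rwa [map_add, map_add, map_smul, map_smul, hca, hkb p hp.2 hca, add_left_inj, add_left_inj] at h1

end CfsgLib.Recognition.USixTwoOuter.Plane
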