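import Cfsg.Agent.Lib.Recognition.USixTwoOuter.Bridge
import Cfsg.Agent.Lib.Recognition.USixTwoOuter.WOrbit
import Cfsg.Agent.Lib.Recognition.USixTwoOuter.WLinear

/-!
The configuration in the case without natural coordinates: `K` fixes a plane of `J/⟨z⟩` pointwise.
-/

set_option autoImplicit false
set_option maxRecDepth 100000
set_option linter.unusedSectionVars false
set_option linter.style.haveILetI false

namespace CfsgLib.Recognition.USixTwoOuter

open CfsgLib.ThreeTransp
open CfsgLib.Classical.PSpThree (perms)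

theorem diag_mem : ∃ n, gc 0 = ((ew n).map gen).prod := by decide +kernel

/-- For each point, an element moving an earlier point to it. -/
def parent : Fin 40 → Fin 40 × Fin 40 :=
  ![(0, 0), (26, 23), (9, 5), (12, 5), (6, 0), (4, 0), (5, 0), (9, 0), (7, 0), (8, 0), (12, 0), (10, 0), (11, 0), (39, 8), (24, 5), (32, 5), (33, 8), (27, 5), (35, 5), (36, 8), (30, 5), (38, 5), (24, 0), (22, 0), (23, 0), (27, 0), (25, 0), (26, 0), (30, 0), (28, 0), (29, 0), (32, 0), (33, 0), (31, 0), (35, 0), (36, 0), (34, 0), (38, 0), (39, 0), (37, 0)]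

theorem parent_conj : ∀ u, gc (parent u).1 * gc (parent u).2 * (gc (parent u).1 * gc (parent u).1) = gc u ∧
    gc (parent u).1 * gc (parent u).1 * gc (parent u).1 = 1 := by decide +kernel

theorem parent_root : ∀ u, (parent (parent u).2).2 = 0 := by decide +kernel

/-- A normal subgroup of the group of forty points containing one generator of the diagonal group is all. -/
theorem normal_eq_K40 {M : Subgroup P40} (hM : ∀ k ∈ K40, ∀ m ∈ M, k * m * k⁻¹ ∈ M) (h0 : gc 0 ∈ M) :
    K40 ≤ M := by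
  have step : ∀ u, gc (parent u).2 ∈ M → gc u ∈ M := fun u hu => by
    obtain ⟨e, e3⟩ := parent_conj u
    have := hM _ (gc_mem (parent u).1) _ hu
    rwa [inv_eq_of_mul_eq_one_right (show gc (parent u).1 * (gc (parent u).1 * gc (parent u).1) = 1 by
      rw [← mul_assoc, e3]), e] at this
  rw [K40, Subgroup.closure_le]
  rintro _ ⟨u, rfl⟩
  exact step u (step _ (by rw [parent_root]; exact h0))

variable {G : Type*} [Group G] [Finite G] {z : G} {J K : Subgroup G} {φ : ↥K →* P40}

/-- The six operators of a choice of preimages. -/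
noncomputable def opsOf (h : Hyp z J K φ) (f : ExtraspecialOut.Frame ↥J 8) (k : Fin 6 → ↥K) :
    Fin 6 → V →ₗ[ZMod 2] V :=
  fun i => (lin f h K h.K_le (k i)).toLinearMap

variable (h : Hyp z J K φ) (f : ExtraspecialOut.Frame ↥J 8)
include h

/-- The centraliser acting on `J/⟨z⟩`. -/
noncomputable def linC : ↥(Subgroup.centralizer ({z} : Set G)) →* (V ≃ₗ[ZMod 2] V) :=
  lin f h (Subgroup.centralizer ({z} : Set G)) fun _ hc => Subgroup.mem_centralizer_singleton_iff.1 hc

theorem linC_K (k : ↥K) :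
    linC h f ⟨(k : G), Subgroup.mem_centralizer_singleton_iff.2 (h.K_le k k.2)⟩ = lin f h K h.K_le k := rfl

/-- The image of `K`. -/
noncomputable def G0 : Subgroup (V ≃ₗ[ZMod 2] V) := (lin f h K h.K_le).range

theorem card_G0 : Nat.card (G0 h f) = 25920 := by
  have e1 : (lin f h K h.K_le).ker = φ.ker := by
    ext c
    rw [MonoidHom.mem_ker, MonoidHom.mem_ker, lin_eq_one h f _ _ c, h.ker]
  rw [G0, ← Subgroup.index_ker, e1, Subgroup.index_ker, h.range, card_K40]

theorem G0_le : G0 h f ≤ (linC h f).range := by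
  rintro _ ⟨k, rfl⟩
  exact ⟨_, linC_K h f k⟩

theorem act_eq (k : Fin 6 → ↥K) (l : List (Fin 6)) (u : V) :
    act (opsOf h f k) l u = lin f h K h.K_le (l.map k).prod u := by
  induction l with
  | nil => simp [act]
  | cons i l ih => rw [act, ih, List.map_cons, List.prod_cons, map_mul]; rfl

variable (k : Fin 6 → ↥K) (hk : ∀ i, φ (k i) = gen i)
  (hops : Ops (opsOf h f k) (fun v => ExtraspecialOut.Q f v) (QuadraticMap.polarBilin (ExtraspecialOut.Q f)))
  (hno : ∀ x, ¬ Seed (opsOf h f k) x)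

/-- The plane of vectors fixed by the diagonal group. -/
def plane : AddSubgroup V where
  carrier := {x | Fx (opsOf h f k) x}
  add_mem' := fun {a b} ha hb n => by rw [op_map_add, ha, hb]
  zero_mem' := fun n => op_map_zero n
  neg_mem' := fun {a} ha => by rw [ZModModule.neg_eq_self]; exact ha

theorem Pp_iff {y : V} : y ∈ Plane.perp (ExtraspecialOut.Q f) (plane h f k) ↔
    Pp (opsOf h f k) (QuadraticMap.polarBilin (ExtraspecialOut.Q f)) y := Iff.rfl

include hk hops hno

theorem plane_moved : ∃ n x, op (opsOf h f k) n x ≠ x := exists_moved h f k hk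

/-- `K` fixes the plane pointwise. -/
theorem triv_plane : ∀ g ∈ G0 h f, ∀ x ∈ plane h f k, g x = x := by
  classical
  obtain ⟨hF4, hinv, -⟩ := fixed_case hops hno (plane_moved h f k hk hops hno)
  let S : Subgroup ↥K :=
    { carrier := {a | ∀ x ∈ plane h f k, lin f h K h.K_le a x ∈ plane h f k}
      one_mem' := fun x hx => by rw [map_one]; exact hx
      mul_mem' := fun {a b} ha hb x hx => by rw [map_mul]; exact ha _ (hb x hx)
      inv_mem' := fun {a} ha x hx => by
        have hinj : Function.Injective (fun y : plane h f k => (⟨_, ha y.1 y.2⟩ : plane h f k)) := fun y y' e =>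
          Subtype.ext ((lin f h K h.K_le a).injective (congrArg Subtype.val e))
        obtain ⟨y, hy⟩ := (Finite.injective_iff_surjective.1 hinj) ⟨x, hx⟩
        have hy' : lin f h K h.K_le a y.1 = x := congrArg Subtype.val hy
        rw [map_inv, ← hy']
        show (lin f h K h.K_le a).symm _ ∈ plane h f k
        rw [LinearEquiv.symm_apply_apply]
        exact y.2 }
  have hS : S = ⊤ := generate h k hk S (fun i x hx => hinv i x hx)
    fun a ha x hx => by rw [(lin_eq_one h f _ _ a).2 ha]; exact hx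
  have hstab : ∀ (a : ↥K) x, x ∈ plane h f k → lin f h K h.K_le a x ∈ plane h f k := fun a x hx =>
    (hS ▸ Subgroup.mem_top a : a ∈ S) x hx
  let N : Subgroup ↥K :=
    { carrier := {a | ∀ x ∈ plane h f k, lin f h K h.K_le a x = x}
      one_mem' := fun x _ => by rw [map_one]; rfl
      mul_mem' := fun {a b} ha hb x hx => by
        rw [map_mul]
        show lin f h K h.K_le a (lin f h K h.K_le b x) = x
        rw [hb x hx, ha x hx]
      inv_mem' := fun {a} ha x hx => by
        rw [map_inv]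
        conv_lhs => rw [← ha x hx]
        exact (lin f h K h.K_le a).symm_apply_apply x }
  have hNn : ∀ a : ↥K, ∀ m ∈ N, a * m * a⁻¹ ∈ N := fun a m hm x hx => by
    rw [map_mul, map_mul]
    show lin f h K h.K_le a (lin f h K h.K_le m (lin f h K h.K_le a⁻¹ x)) = x
    rw [hm _ (hstab a⁻¹ x hx), map_inv]
    exact (lin f h K h.K_le a).apply_symm_apply x
  have h40 : K40 ≤ N.map φ := by
    refine normal_eq_K40 ?_ ?_
    · intro g hg m hm
      obtain ⟨a, rfl⟩ : ∃ a, φ a = g := MonoidHom.mem_range.1 (h.range ▸ hg)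
      obtain ⟨b, hb, rfl⟩ := hm
      exact ⟨a * b * a⁻¹, hNn a b hb, by rw [map_mul, map_mul, map_inv]⟩
    · obtain ⟨n, hn⟩ := diag_mem
      refine ⟨((ew n).map k).prod, fun x hx => ?_, ?_⟩
      · rw [← act_eq h f k]
        exact hx n
      · rw [map_list_prod, List.map_map, hn]
        congr 1
        exact List.map_congr_left fun i _ => hk i
  rintro _ ⟨a, rfl⟩ x hx
  obtain ⟨b, hb, hba⟩ := h40 (h.range ▸ ⟨a, rfl⟩ : φ a ∈ K40)
  have e : lin f h K h.K_le (b⁻¹ * a) = 1 := (lin_eq_one h f _ _ _).2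
    ((h.ker _).1 (by rw [map_mul, map_inv, hba, inv_mul_cancel]))
  rw [map_mul, map_inv, inv_mul_eq_one] at e
  rw [← e]
  exact hb x hx

variable (hKn : ∀ c, c * z = z * c → ∀ a ∈ K, c * a * c⁻¹ ∈ K)
  (hidx : ∀ a b, a * z = z * a → b * z = z * b → a ∉ K → b ∉ K → a * b ∈ K)
  (hcc : ∀ c, c * z = z * c → (∀ a ∈ K, c * a * c⁻¹ * a⁻¹ ∈ J) → c ∈ J)
include hKn hidx hcc

/-- The configuration of the linear argument. -/
theorem plane_sys :
    Plane.Sys (G0 h f) (linC h f).range (ExtraspecialOut.Q f) (plane h f k) := by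
  classical
  obtain ⟨hF4, -, hdec⟩ := fixed_case hops hno (plane_moved h f k hk hops hno)
  have hmove := plane_moved h f k hk hops hno
  have htriv := triv_plane h f k hk hops hno
  have hpres : ∀ c ∈ (linC h f).range, ∀ x, ExtraspecialOut.Q f (c x) = ExtraspecialOut.Q f x := by
    rintro _ ⟨c, rfl⟩ x
    exact lin_q h f _ _ c x
  have hgen : ∀ l x, act (opsOf h f k) l x = lin f h K h.K_le (l.map k).prod x := fun l x => act_eq h f k l x
  have hpresF : ∀ c ∈ (linC h f).range, ∀ x ∈ plane h f k, c x ∈ plane h f k := by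
    rintro _ ⟨c, rfl⟩ x hx n
    show act (opsOf h f k) (ew n) (linC h f c x) = linC h f c x
    rw [hgen]
    set a := ((ew n).map k).prod with ha
    have hm : (c : G)⁻¹ * a * c ∈ K := by
      have := hKn (c : G)⁻¹ (Commute.inv_left (Subgroup.mem_centralizer_singleton_iff.1 c.2)).eq a a.2
      rwa [inv_inv] at this
    have e1 : lin f h K h.K_le ⟨_, hm⟩ x = x := htriv _ ⟨_, rfl⟩ x hx
    calc lin f h K h.K_le a (linC h f c x)
        = linC h f (⟨(a : G), Subgroup.mem_centralizer_singleton_iff.2 (h.K_le a a.2)⟩ * c) x := by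
          rw [map_mul]; rfl
      _ = linC h f (c * ⟨(c : G)⁻¹ * a * c, Subgroup.mem_centralizer_singleton_iff.2 (h.K_le _ hm)⟩) x := by
          congr 2
          exact Subtype.ext (by
            show (a : G) * c = c * ((c : G)⁻¹ * a * c)
            group)
      _ = linC h f c (lin f h K h.K_le ⟨_, hm⟩ x) := by rw [map_mul]; rfl
      _ = linC h f c x := by rw [e1]
  have hdec' : ∀ x, ∃ u ∈ plane h f k, ∃ y ∈ Plane.perp (ExtraspecialOut.Q f) (plane h f k), x = u + y := by
    intro x
    obtain ⟨u, y, hu, hx, horth⟩ := hdec x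
    exact ⟨u, hu, y, horth, hx⟩
  refine ⟨G0_le h f, fun u hu => (ExtraspecialOut.nondeg f).1 u hu, hpres, hpresF, htriv, hF4, hdec',
    ?_, ?_, ?_, ?_⟩
  · intro W hW hinvW
    by_cases hb : W = ⊥
    · exact Or.inl hb
    right
    obtain ⟨x, hxW, hx0⟩ : ∃ x ∈ W, x ≠ 0 := by
      by_contra hcon
      push Not at hcon
      exact hb (eq_bot_iff.2 fun x hx => AddSubgroup.mem_bot.2 (hcon x hx))
    intro y hy
    refine irreducible hops hno hmove (fun n v hv => ?_) (fun b v hv => hinvW _ ⟨_, rfl⟩ v hv) hxW (hW hxW) hx0 y hy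
    show act (opsOf h f k) (ew n) v ∈ W
    rw [hgen]
    exact hinvW _ ⟨_, rfl⟩ v hv
  · intro a ha ha0
    haveI := Plane.finite_aut8
    let O : Set V := MulAction.orbit (G0 h f) a
    have hfix0 : ∀ g : G0 h f, (g : V ≃ₗ[ZMod 2] V) 0 = 0 := fun g => map_zero _
    have hclosed : ∀ (b : ↥K) x, x ∈ O → lin f h K h.K_le b x ∈ O := by
      rintro b _ ⟨g, rfl⟩
      exact ⟨⟨lin f h K h.K_le b, ⟨b, rfl⟩⟩ * g, rfl⟩
    have hOP : ∀ x ∈ O, Pp (opsOf h f k) (QuadraticMap.polarBilin (ExtraspecialOut.Q f)) x := by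
      rintro _ ⟨g, rfl⟩
      intro v hv
      show QuadraticMap.polarBilin (ExtraspecialOut.Q f) v ((g : V ≃ₗ[ZMod 2] V) a) = 0
      rw [← htriv g g.2 v hv, Plane.pres_beta _ (hpres g (G0_le h f g.2))]
      exact ha v hv
    have h5 := orbit_five hops hno hmove (O := O) hOP
      (by
        rintro ⟨g, hg⟩
        exact ha0 ((g : V ≃ₗ[ZMod 2] V).injective ((show (g : V ≃ₗ[ZMod 2] V) a = 0 from hg).trans (hfix0 g).symm)))
      ⟨a, MulAction.mem_orbit_self a⟩
      (fun n x hx => by
        show act (opsOf h f k) (ew n) x ∈ O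
        rw [hgen]
        exact hclosed _ x hx)
      (fun b x hx => hclosed _ x hx)
    haveI := Fintype.ofFinite (MulAction.orbit (G0 h f) a)
    haveI := Fintype.ofFinite (MulAction.stabilizer (G0 h f) a)
    haveI := Fintype.ofFinite (G0 h f)
    have hmul := MulAction.card_orbit_mul_card_stabilizer_eq_card_group (G0 h f) a
    rw [← Nat.card_eq_fintype_card, ← Nat.card_eq_fintype_card, ← Nat.card_eq_fintype_card, card_G0] at hmul
    have hdvd : 5 ∣ Nat.card (MulAction.stabilizer (G0 h f) a) := by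
      have : 5 ∣ Nat.card O * Nat.card (MulAction.stabilizer (G0 h f) a) := ⟨5184, by rw [hmul]⟩
      exact ((Nat.Prime.dvd_mul (by norm_num)).1 this).resolve_left h5
    haveI : Fact (Nat.Prime 5) := ⟨by norm_num⟩
    obtain ⟨⟨g, hg⟩, hg5⟩ := exists_prime_orderOf_dvd_card' 5 hdvd
    refine ⟨g, g.2, ?_, hg⟩
    rw [← hg5]
    exact (Subgroup.orderOf_coe g).trans (Subgroup.orderOf_mk g hg).symm
  · rintro _ ⟨c, rfl⟩ htrivP
    have hc := Subgroup.mem_centralizer_singleton_iff.1 c.2
    refine (lin_eq_one h f _ _ c).2 (hcc c hc fun a ha => ?_)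
    set a' : ↥(Subgroup.centralizer ({z} : Set G)) := ⟨a, Subgroup.mem_centralizer_singleton_iff.2 (h.K_le a ha)⟩
    have hg : linC h f a' ∈ G0 h f := ⟨⟨a, ha⟩, rfl⟩
    have hcomm : linC h f c * linC h f a' = linC h f a' * linC h f c := by
      refine LinearEquiv.ext fun x => ?_
      obtain ⟨u, hu, y, hy, rfl⟩ := hdec' x
      show linC h f c (linC h f a' (u + y)) = linC h f a' (linC h f c (u + y))
      have hy' : linC h f a' y ∈ Plane.perp (ExtraspecialOut.Q f) (plane h f k) := fun v hv => by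
        rw [← htriv _ hg v hv, Plane.pres_beta _ (hpres _ (G0_le h f hg))]
        exact hy v hv
      rw [map_add, map_add, map_add, map_add, htrivP y hy, htrivP _ hy', htriv _ hg u hu,
        htriv _ hg _ (hpresF _ ⟨c, rfl⟩ u hu)]
    have h1 : linC h f (c * a' * c⁻¹ * a'⁻¹) = 1 := by
      rw [map_mul, map_mul, map_mul, map_inv, map_inv, hcomm]
      group
    exact (lin_eq_one h f _ _ _).1 h1
  · intro Ψ hΨ
    haveI := Plane.finite_aut8
    by_cases hall : Ψ ≤ G0 h f
    · rw [inf_eq_left.2 hall]; omega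
    obtain ⟨p₀, hp₀, hp₀G⟩ := SetLike.not_le_iff_exists.1 hall
    have hprod : ∀ p ∈ Ψ, p ∉ G0 h f → p * p₀ ∈ G0 h f := by
      intro p hp hpG
      obtain ⟨c, rfl⟩ := hΨ hp
      obtain ⟨c₀, rfl⟩ := hΨ hp₀
      have hK : ∀ d : ↥(Subgroup.centralizer ({z} : Set G)), linC h f d ∉ G0 h f → (d : G) ∉ K :=
        fun d hd hm => hd ⟨⟨d, hm⟩, rfl⟩
      have hm := hidx c c₀ (Subgroup.mem_centralizer_singleton_iff.1 c.2)
        (Subgroup.mem_centralizer_singleton_iff.1 c₀.2) (hK c hpG) (hK c₀ hp₀G)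
      rw [← map_mul]
      exact ⟨⟨_, hm⟩, rfl⟩
    let F2 : Ψ → ↥(Ψ ⊓ G0 h f) × Bool := fun p =>
      if hp : (p : V ≃ₗ[ZMod 2] V) ∈ G0 h f then (⟨p, p.2, hp⟩, false)
      else (⟨(p : V ≃ₗ[ZMod 2] V) * p₀, mul_mem p.2 hp₀, hprod p p.2 hp⟩, true)
    have hF2 : Function.Injective F2 := by
      intro p q e
      simp only [F2] at e
      split_ifs at e with hp hq hq
      · exact Subtype.ext (congrArg (fun t : ↥(Ψ ⊓ G0 h f) × Bool => (t.1 : V ≃ₗ[ZMod 2] V)) e)
      · exact absurd (congrArg Prod.snd e) (by simp)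
      · exact absurd (congrArg Prod.snd e) (by simp)
      · exact Subtype.ext (mul_right_cancel
          (congrArg (fun t : ↥(Ψ ⊓ G0 h f) × Bool => (t.1 : V ≃ₗ[ZMod 2] V)) e))
    refine (Nat.card_le_card_of_injective F2 hF2).trans ?_
    rw [Nat.card_prod, Nat.card_eq_fintype_card (α := Bool), Fintype.card_bool, mul_comm]

end CfsgLib.Recognition.USixTwoOuter
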