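import Cfsg.Agent.Lib.Recognition.USixTwoOuter.Planes

/-!
Weight spaces of the diagonal subgroup of order 27.  Either some vector seeds the natural module, or the
group of operators centralises a subspace of order four with the diagonal group fixing nothing else.
-/

set_option autoImplicit false
set_option maxRecDepth 100000
set_option linter.unusedSectionVars false

namespace CfsgLib.Recognition.USixTwoOuter

/-- Exponents of the three diagonal generators. -/
abbrev N3 := Fin 3 → Fin 3

/-- A diagonal word. -/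
def ew (n : N3) : List (Fin 6) :=
  List.replicate (n 0).val 0 ++ List.replicate (n 1).val 1 ++ List.replicate (n 2).val 2

/-- The pairing of exponents with weights. -/
def dot (c n : N3) : Fin 3 := c 0 * n 0 + c 1 * n 1 + c 2 * n 2

theorem regroup {M : Type*} [Monoid M] (a a' b b' c c' : M) (h1 : Commute b a') (h2 : Commute c a')
    (h3 : Commute c b') : a * a' * (b * b') * (c * c') = a * b * c * (a' * b' * c') := by
  simp only [mul_assoc]
  rw [h2.left_comm, h3.left_comm, h1.left_comm]

theorem smul_two (n : N3) : (2 : Fin 3) • n = n + n := by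
  ext i; exact congrArg Fin.val ((by decide : ∀ a : Fin 3, (2 : Fin 3) * a = a + a) (n i))

theorem smul_id (n : N3) : (1 : Fin 3) • n = n := by
  ext i; exact congrArg Fin.val ((by decide : ∀ a : Fin 3, (1 : Fin 3) * a = a) (n i))

theorem ew_prod (n : N3) : ((ew n).map gen).prod = gk1 ^ (n 0).val * gk2 ^ (n 1).val * gk3 ^ (n 2).val := by
  simp [ew, List.map_replicate, List.prod_replicate, gen, mul_assoc]

theorem ew_add (a b : N3) : ((ew (a + b)).map gen).prod = ((ew a ++ ew b).map gen).prod := by
  obtain ⟨h1, h2, h3, h12, h13, h23, -⟩ := relations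
  have hp : ∀ g : P40, g * g * g = 1 → ∀ x y : Fin 3, g ^ (x + y).val = g ^ x.val * g ^ y.val := fun g hg x y => by
    have h : g ^ 3 = 1 := by simpa [pow_succ] using hg
    rw [← pow_add, Fin.val_add]
    conv_rhs => rw [← Nat.div_add_mod (x.val + y.val) 3]
    rw [pow_add, pow_mul, h, one_pow, one_mul]
  rw [List.map_append, List.prod_append, ew_prod, ew_prod, ew_prod]
  simp only [Pi.add_apply, hp gk1 h1, hp gk2 h2, hp gk3 h3]
  exact regroup _ _ _ _ _ _ (Commute.pow_pow h12 _ _).symm (Commute.pow_pow h13 _ _).symm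
    (Commute.pow_pow h23 _ _).symm

/-- The thirteen weights up to sign: four coordinates, three sums, six differences. -/
def reps : Fin 13 → N3 :=
  ![![1, 1, 1], ![1, 0, 0], ![0, 1, 0], ![0, 0, 1], ![1, 1, 0], ![1, 0, 1], ![0, 1, 1], ![1, 2, 2], ![2, 1, 2],
    ![2, 2, 1], ![1, 2, 0], ![1, 0, 2], ![0, 1, 2]]

/-- Pairs of exponents spanning the kernel of a weight, with an element outside. -/
def pairs : Fin 17 → N3 × N3 × Fin 13 × N3 :=
  ![
    (![1, 0, 0], ![0, 0, 1], 2, ![0, 1, 0]),
    (![1, 0, 0], ![0, 1, 0], 3, ![0, 0, 1]),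
    (![1, 0, 0], ![0, 1, 1], 12, ![0, 0, 1]),
    (![1, 0, 0], ![0, 2, 1], 6, ![0, 0, 1]),
    (![0, 1, 0], ![0, 0, 1], 1, ![1, 0, 0]),
    (![0, 1, 0], ![1, 0, 0], 3, ![0, 0, 1]),
    (![0, 1, 0], ![1, 0, 1], 11, ![0, 0, 1]),
    (![0, 1, 0], ![2, 0, 1], 5, ![0, 0, 1]),
    (![1, 1, 0], ![0, 0, 1], 10, ![0, 1, 0]),
    (![1, 1, 0], ![1, 0, 0], 3, ![0, 0, 1]),
    (![1, 1, 0], ![1, 0, 1], 7, ![0, 0, 1]),
    (![1, 1, 0], ![2, 0, 1], 8, ![0, 0, 1]),
    (![1, 2, 0], ![0, 0, 1], 4, ![0, 1, 0]),
    (![1, 2, 0], ![1, 0, 0], 3, ![0, 0, 1]),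
    (![1, 2, 0], ![1, 0, 1], 9, ![0, 0, 1]),
    (![1, 2, 0], ![2, 0, 1], 0, ![0, 0, 1]),
    (![1, 0, 0], ![0, 1, 0], 3, ![0, 0, 1])]

theorem pairs_rep : ∀ p : Fin 17, dot (reps (pairs p).2.2.1) (pairs p).2.2.2 ≠ 0 ∧
    ∀ n, ∃ k i j : Fin 3, n = k • (pairs p).2.2.2 + i • (pairs p).1 + j • (pairs p).2.1 ∧
      (dot (reps (pairs p).2.2.1) n = 0 ↔ k = 0) := by decide +kernel

theorem nonzero : ∀ c : Fin 13, ∃ m, dot (reps c) m ≠ 0 := by decide +kernel

theorem sum_dot : ∀ c : Fin 13, 4 ≤ c.val → c.val < 7 → dot (reps c) ![2, 2, 2] ≠ 0 := by decide +kernel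

theorem separate : ∀ c d : Fin 13, c ≠ d → ∃ n, dot (reps d) n = 0 ∧ dot (reps c) n ≠ 0 := by decide +kernel

/-- The action of the transposition and of the cycle on exponents. -/
def perm (b : Bool) (n : N3) : N3 :=
  if b then ![2 * n 2 + 2 * n 0 + 2 * n 1, n 0, n 1] else ![2 * (n 0 + n 1 + n 2), n 1, n 2]

theorem perm_table : ∀ b : Bool, ∀ n, (((bif b then 4 else 3) :: ew n).map gen).prod =
    ((ew (perm b n) ++ [bif b then 4 else 3]).map gen).prod := by decide +kernel

/-- The images of the thirteen weights. -/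
def permRep : Bool → Fin 13 → Fin 13
  | false => ![1, 0, 2, 3, 5, 4, 6, 7, 10, 11, 8, 9, 12]
  | true => ![1, 2, 3, 0, 6, 5, 4, 10, 11, 7, 12, 8, 9]

theorem permRep_table : ∀ b : Bool, ∀ c, ∃ s : Fin 3, s ≠ 0 ∧
    ∀ n, dot (reps (permRep b c)) (perm b n) = s * dot (reps c) n := by decide +kernel

theorem perm_surjective : ∀ b : Bool, ∀ m, ∃ n, perm b n = m := by decide +kernel

variable {U : Type*} [AddCommGroup U] [Module (ZMod 2) U]
  {f : Fin 6 → U →ₗ[ZMod 2] U} {Q : U → ZMod 2} {β : U →ₗ[ZMod 2] U →ₗ[ZMod 2] ZMod 2}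

/-- The action of a diagonal element. -/
def op (f : Fin 6 → U →ₗ[ZMod 2] U) (n : N3) (x : U) : U := act f (ew n) x

theorem op_zero (x : U) : op f 0 x = x := rfl

theorem op_map_add (n : N3) (x y : U) : op f n (x + y) = op f n x + op f n y := by
  show act f (ew n) (x + y) = act f (ew n) x + act f (ew n) y
  generalize ew n = l
  induction l with
  | nil => rfl
  | cons k l ih => simp only [act, ih, map_add]

theorem op_map_zero (n : N3) : op f n (0 : U) = 0 := by
  have := op_map_add (f := f) n 0 0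
  rwa [add_zero, left_eq_add] at this

theorem op_op (hf : Ops f Q β) (a b : N3) (x : U) : op f a (op f b x) = op f (a + b) x := by
  show act f (ew a) (act f (ew b) x) = act f (ew (a + b)) x
  rw [← act_append]
  exact (hf.word _ _ (ew_add a b) x).symm

theorem op_smul (hf : Ops f Q β) {n : N3} {x : U} (h : op f n x = x) (i : Fin 3) : op f (i • n) x = x := by
  fin_cases i
  · show op f ((0 : Fin 3) • n) x = x
    rw [zero_smul, op_zero]
  · show op f ((1 : Fin 3) • n) x = x
    rw [smul_id, h]
  · show op f ((2 : Fin 3) • n) x = x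
    rw [smul_two, ← op_op hf, h, h]

/-- The sum over a subgroup of order three. -/
def tr (f : Fin 6 → U →ₗ[ZMod 2] U) (n : N3) (x : U) : U := x + op f n x + op f (n + n) x

theorem cube (n : N3) : n + n + n = 0 := by
  ext i; have := (by decide : ∀ a : Fin 3, a + a + a = 0) (n i); exact congrArg Fin.val this

theorem op_tr (hf : Ops f Q β) (n : N3) (x : U) : op f n (tr f n x) = tr f n x := by
  simp only [tr, op_map_add, op_op hf]
  rw [← add_assoc n n n, cube, op_zero]
  abel

theorem op_comm_tr (hf : Ops f Q β) (a n : N3) (x : U) : op f a (tr f n x) = tr f n (op f a x) := by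
  simp only [tr, op_map_add, op_op hf, add_comm a]

theorem tr_fixed {n : N3} {x : U} (hf : Ops f Q β) (h : op f n x = x) : tr f n x = x := by
  rw [tr, ← op_op hf, h, h, ZModModule.add_self, zero_add]

/-- The four subgroups of order three of a group of order nine. -/
theorem split_nine (hf : Ops f Q β) (a b : N3) (x : U) :
    x = tr f a x + tr f b x + tr f (a + b) x + tr f (a + b + b) x + tr f a (tr f b x) := by
  have h1 : a + b + b + (a + b + b) = a + a + b := by
    calc a + b + b + (a + b + b) = a + a + b + (b + b + b) := by abel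
      _ = _ := by rw [cube, add_zero]
  simp only [tr, op_map_add, op_op hf]
  rw [h1]
  simp only [add_assoc]
  abel_nf
  simp [succ_nsmul, two_zsmul, ZModModule.add_self]
  conv_rhs => rw [show (5 : ℤ) = 2 + 2 + 1 from rfl, add_zsmul, add_zsmul, one_zsmul, two_zsmul, ZModModule.add_self,
    zero_add]

/-- A weight vector. -/
def Wt (f : Fin 6 → U →ₗ[ZMod 2] U) (c : Fin 13) (x : U) : Prop :=
  ∀ n, (dot (reps c) n = 0 → op f n x = x) ∧ (dot (reps c) n ≠ 0 → tr f n x = 0)

/-- A vector fixed by the whole diagonal group. -/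
def Fx (f : Fin 6 → U →ₗ[ZMod 2] U) (x : U) : Prop := ∀ n, op f n x = x

theorem Wt.add {c : Fin 13} {x y : U} (hx : Wt f c x) (hy : Wt f c y) : Wt f c (x + y) := by
  intro n
  refine ⟨fun h => by rw [op_map_add, (hx n).1 h, (hy n).1 h], fun h => ?_⟩
  have e : tr f n (x + y) = tr f n x + tr f n y := by simp only [tr, op_map_add]; abel
  rw [e, (hx n).2 h, (hy n).2 h, add_zero]

theorem Wt.zero (c : Fin 13) : Wt f c 0 := fun n => ⟨fun _ => op_map_zero n, fun _ => by simp [tr, op_map_zero]⟩

theorem Wt.eq_zero (hf : Ops f Q β) {c : Fin 13} {x : U} (hx : Wt f c x) {n : N3} (hn : dot (reps c) n ≠ 0)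
    (h : op f n x = x) : x = 0 := by
  rw [← tr_fixed hf h]
  exact (hx n).2 hn

/-- The part moved by `n`. -/
def mv (f : Fin 6 → U →ₗ[ZMod 2] U) (n : N3) (x : U) : U := x + op f n x

theorem mv_wt (hf : Ops f Q β) {c : Fin 13} {x : U} (hx : Wt f c x) (n : N3) : Wt f c (mv f n x) := by
  refine Wt.add hx fun m => ⟨fun h => ?_, fun h => ?_⟩
  · rw [op_op hf, add_comm, ← op_op hf, (hx m).1 h]
  · rw [← op_comm_tr hf, (hx m).2 h, op_map_zero]

/-- Weight vectors for different weights are independent, also with a fixed vector. -/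
theorem indep (hf : Ops f Q β) (y : Fin 13 → U) (hy : ∀ c, Wt f c (y c)) {u : U} (hu : Fx f u)
    (h0 : u + ∑ c, y c = 0) : ∀ c, y c = 0 := by
  classical
  choose n hn using fun c d => (separate · · : ∀ c d : Fin 13, _) c d
  suffices key : ∀ s : Finset (Fin 13), ∀ u, Fx f u → ∀ y : Fin 13 → U, (∀ c, Wt f c (y c)) →
      u + ∑ c ∈ s, y c = 0 → ∀ c ∈ s, y c = 0 from fun c => key Finset.univ u hu y hy h0 c (Finset.mem_univ c)
  intro s
  induction s using Finset.induction_on with
  | empty => intro _ _ _ _ _ c hc; simp at hc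
  | @insert d s hd ih =>
    intro u hu y hy h0
    rw [Finset.sum_insert hd] at h0
    have hall : ∀ c ∈ s, y c = 0 := by
      intro c hc
      have hcd : c ≠ d := fun e => hd (e ▸ hc)
      obtain ⟨hn0, hn1⟩ := hn c d hcd
      have hh := congrArg (mv f (n c d hcd)) h0
      have e : mv f (n c d hcd) (u + (y d + ∑ c ∈ s, y c)) = 0 + ∑ k ∈ s, mv f (n c d hcd) (y k) := by
        have hadd : ∀ a b : U, mv f (n c d hcd) (a + b) = mv f (n c d hcd) a + mv f (n c d hcd) b :=
          fun a b => by simp only [mv, op_map_add]; abel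
        let L : U →+ U := AddMonoidHom.mk' (mv f (n c d hcd)) hadd
        show L _ = _
        rw [map_add, map_add, map_sum]
        show mv f _ u + (mv f _ (y d) + _) = _
        rw [mv, hu, ZModModule.add_self, mv, (hy d _).1 hn0, ZModModule.add_self, zero_add]
        rfl
      rw [e, show mv f (n c d hcd) 0 = 0 by simp [mv, op_map_zero]] at hh
      have := ih 0 (fun m => op_map_zero m) _ (fun k => mv_wt hf (hy k) _) hh c hc
      refine Wt.eq_zero hf (hy c) hn1 ?_
      have h2 : op f (n c d hcd) (y c) = - y c := eq_neg_of_add_eq_zero_right this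
      rwa [ZModModule.neg_eq_self] at h2
    intro c hc
    rcases Finset.mem_insert.1 hc with rfl | hc
    · rw [Finset.sum_eq_zero hall, add_zero] at h0
      obtain ⟨m, hm⟩ := nonzero c
      refine Wt.eq_zero hf (hy c) hm ?_
      have e : y c = u := (eq_neg_of_add_eq_zero_right h0).trans (ZModModule.neg_eq_self u)
      rw [e, hu]
    · exact hall c hc

theorem wt_of (hf : Ops f Q β) (p : Fin 17) {y : U}
    (ha : op f (pairs p).1 y = y) (hb : op f (pairs p).2.1 y = y) :
    ∃ u c w, Fx f u ∧ Wt f c w ∧ y = u + w := by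
  obtain ⟨-, hrep⟩ := pairs_rep p
  set a := (pairs p).1
  set b := (pairs p).2.1
  set c := (pairs p).2.2.1
  set m := (pairs p).2.2.2
  have hfixall : ∀ n, ∃ k : Fin 3, (dot (reps c) n = 0 ↔ k = 0) ∧
      ∀ z : U, op f a z = z → op f b z = z → op f n z = op f (k • m) z := fun n => by
    obtain ⟨k, i, j, rfl, hk⟩ := hrep n
    exact ⟨k, hk, fun z hza hzb => by rw [← op_op hf, ← op_op hf, op_smul hf hzb, op_smul hf hza]⟩
  have hta : op f a (tr f m y) = tr f m y := by rw [op_comm_tr hf, ha]
  have htb : op f b (tr f m y) = tr f m y := by rw [op_comm_tr hf, hb]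
  refine ⟨tr f m y, c, y + tr f m y, fun n => ?_, fun n => ?_, ?_⟩
  · obtain ⟨k, -, e⟩ := hfixall n
    rw [e _ hta htb, op_smul hf (op_tr hf m y)]
  · have hwa : op f a (y + tr f m y) = y + tr f m y := by rw [op_map_add, ha, hta]
    have hwb : op f b (y + tr f m y) = y + tr f m y := by rw [op_map_add, hb, htb]
    obtain ⟨k, hk, e⟩ := hfixall n
    refine ⟨fun h => by rw [e _ hwa hwb, hk.1 h, zero_smul, op_zero], fun h => ?_⟩
    have h0 : tr f m (y + tr f m y) = 0 := by
      rw [show tr f m (y + tr f m y) = tr f m y + tr f m (tr f m y) by simp only [tr, op_map_add]; abel,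
        tr_fixed hf (op_tr hf m y), ZModModule.add_self]
    set w := y + tr f m y
    have hkn : k ≠ 0 := fun h' => h (hk.2 h')
    rw [tr] at h0
    rw [tr, ← op_op hf n n, e _ hwa hwb, e (op f (k • m) w) (by rw [op_op hf, add_comm, ← op_op hf, hwa])
      (by rw [op_op hf, add_comm, ← op_op hf, hwb])]
    fin_cases k
    · exact absurd rfl hkn
    · simp only [Fin.mk_one, smul_id, op_op hf]; exact h0
    · show w + op f ((2 : Fin 3) • m) w + op f ((2 : Fin 3) • m) (op f ((2 : Fin 3) • m) w) = 0
      rw [smul_two, op_op hf, show m + m + (m + m) = m + (m + m + m) by abel, cube, add_zero, add_right_comm]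
      exact h0
  · rw [add_comm y, ← add_assoc, ZModModule.add_self, zero_add]

theorem Wt.orth (hf : Ops f Q β) {c : Fin 13} {u y : U} (hu : Fx f u) (hy : Wt f c y) : β u y = 0 := by
  obtain ⟨n, hn⟩ := nonzero c
  have h := (hy n).2 hn
  have e : ∀ m, β u (op f m y) = β u y := fun m => by
    conv_lhs => rw [← hu m]
    exact hf.act_beta _ _ _
  have h2 : β u (tr f n y) = 0 := by rw [h, map_zero]
  rw [tr, map_add, map_add, e, e] at h2
  revert h2
  generalize β u y = c
  revert c; decide

/-- A sum of a fixed vector and weight vectors. -/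
def Dec (f : Fin 6 → U →ₗ[ZMod 2] U) (x : U) : Prop :=
  ∃ u, Fx f u ∧ ∃ y : Fin 13 → U, (∀ c, Wt f c (y c)) ∧ x = u + ∑ c, y c

theorem Dec.add {x y : U} (hx : Dec f x) (hy : Dec f y) : Dec f (x + y) := by
  obtain ⟨u, hu, a, ha, rfl⟩ := hx
  obtain ⟨v, hv, b, hb, rfl⟩ := hy
  refine ⟨u + v, fun n => by rw [op_map_add, hu, hv], fun c => a c + b c, fun c => (ha c).add (hb c), ?_⟩
  rw [Finset.sum_add_distrib]
  abel

theorem dec_pair (hf : Ops f Q β) (p : Fin 17) {y : U}
    (ha : op f (pairs p).1 y = y) (hb : op f (pairs p).2.1 y = y) : Dec f y := by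
  classical
  obtain ⟨u, c, w, hu, hw, rfl⟩ := wt_of hf p ha hb
  refine ⟨u, hu, fun d => if d = c then w else 0, fun d => ?_, by simp⟩
  dsimp only
  split_ifs with h
  · exact h ▸ hw
  · exact Wt.zero d

theorem tr_fix_of (hf : Ops f Q β) {a b : N3} {x : U} (h : op f a x = x) : op f a (tr f b x) = tr f b x := by
  rw [op_comm_tr hf, h]

theorem line_table : ∀ q i : Fin 4,
    (pairs ⟨4 * q.val + i.val, by omega⟩).1 = (pairs ⟨4 * q.val, by omega⟩).1 := by decide +kernel

theorem cover_table : ∀ q : Fin 4, ∀ N ∈ [(![0, 0, 1] : N3), (pairs ⟨4 * q.val + 1, by omega⟩).2.1,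
      ![0, 0, 1] + (pairs ⟨4 * q.val + 1, by omega⟩).2.1,
      ![0, 0, 1] + (pairs ⟨4 * q.val + 1, by omega⟩).2.1 + (pairs ⟨4 * q.val + 1, by omega⟩).2.1],
    ∃ i : Fin 4, (pairs ⟨4 * q.val + i.val, by omega⟩).2.1 = N := by decide +kernel

theorem decompose (hf : Ops f Q β) (x : U) : Dec f x := by
  have hline : ∀ (z : U) (L b c : N3), op f L z = z →
      (∀ M ∈ [b, c, b + c, b + c + c], ∀ y, op f L y = y → op f M y = y → Dec f y) → Dec f z := by
    intro z L b c hL hd
    have h5 : Dec f (tr f b (tr f c z)) := hd b (by simp) _ (tr_fix_of hf (tr_fix_of hf hL)) (op_tr hf _ _)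
    rw [split_nine hf b c z]
    exact ((((hd b (by simp) _ (tr_fix_of hf hL) (op_tr hf _ _)).add
      (hd c (by simp) _ (tr_fix_of hf hL) (op_tr hf _ _))).add
      (hd _ (by simp) _ (tr_fix_of hf hL) (op_tr hf _ _))).add
      (hd _ (by simp) _ (tr_fix_of hf hL) (op_tr hf _ _))).add h5
  let a : N3 := ![1, 0, 0]
  let b : N3 := ![0, 1, 0]
  let c : N3 := ![0, 0, 1]
  have key : ∀ (q : Fin 4) (z : U) (L M : N3), L = (pairs ⟨4 * q.val, by omega⟩).1 → op f L z = z →
      M = (pairs ⟨4 * q.val + 1, by omega⟩).2.1 → Dec f z := by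
    intro q z L M hL hz hM
    refine hline z L c M hz fun N hN y hyL hyN => ?_
    have hp : ∀ i : Fin 4, (pairs ⟨4 * q.val + i.val, by omega⟩).1 = L := fun i => (line_table q i).trans hL.symm
    have hn : ∃ i : Fin 4, (pairs ⟨4 * q.val + i.val, by omega⟩).2.1 = N := cover_table q N (hM ▸ hN)
    obtain ⟨i, hi⟩ := hn
    exact dec_pair hf ⟨4 * q.val + i.val, by omega⟩ (by rw [hp i]; exact hyL) (by rw [hi]; exact hyN)
  rw [split_nine hf a b x]
  refine ((((key 0 _ a b ?_ (op_tr hf _ _) ?_).add (key 1 _ b a ?_ (op_tr hf _ _) ?_)).add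
    (key 2 _ (a + b) a ?_ (op_tr hf _ _) ?_)).add (key 3 _ (a + b + b) a ?_ (op_tr hf _ _) ?_)).add
    (dec_pair hf 16 (op_tr hf _ _) (tr_fix_of hf (op_tr hf _ _))) <;> decide +kernel

theorem seed_of_wt {x : U} (hne : x ≠ 0) (hx : Wt f 0 x) : Seed f x :=
  ⟨hne, (hx ![2, 1, 0]).1 (by decide), (hx ![0, 2, 1]).1 (by decide), (hx ![1, 0, 0]).2 (by decide)⟩

/-- The generator moving exponents by `perm b`. -/
def gi (b : Bool) : Fin 6 := bif b then 4 else 3

theorem Wt.move (hf : Ops f Q β) {c : Fin 13} {x : U} (hx : Wt f c x) (b : Bool) :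
    Wt f (permRep b c) (f (gi b) x) := by
  intro m
  obtain ⟨n, rfl⟩ := perm_surjective b m
  obtain ⟨s, hs, hd⟩ := permRep_table b c
  have hop : ∀ y, op f (perm b n) (f (gi b) y) = f (gi b) (op f n y) := fun y => by
    have := hf.word _ _ (perm_table b n) y
    rw [act_append] at this
    exact this.symm
  have hzero : ∀ a : Fin 3, s * a = 0 ↔ a = 0 :=
    (by decide : ∀ s : Fin 3, s ≠ 0 → ∀ a : Fin 3, s * a = 0 ↔ a = 0) s hs
  simp only [hd, hzero, ne_eq]
  refine ⟨fun h => by rw [hop, (hx n).1 h], fun h => ?_⟩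
  have h2 := (hx n).2 h
  rw [tr, ← op_op hf] at h2 ⊢
  rw [hop, hop, ← map_add, ← map_add, h2, map_zero]

theorem Fx.move (hf : Ops f Q β) {x : U} (hx : Fx f x) (b : Bool) : Fx f (f (gi b) x) := by
  intro m
  obtain ⟨n, rfl⟩ := perm_surjective b m
  have := hf.word _ _ (perm_table b n) x
  rw [act_append] at this
  show op f (perm b n) (act f [gi b] x) = _
  rw [show op f (perm b n) (act f [gi b] x) = act f (gi b :: ew n) x from this.symm]
  show f (gi b) (op f n x) = _
  rw [hx]

theorem gi_inj (hf : Ops f Q β) (b : Bool) : Function.Injective (f (gi b)) := by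
  intro x y e
  cases b
  · have h : ∀ z, f 3 (f 3 z) = z := fun z => hf.word [3, 3] [] (by decide +kernel) z
    rw [← h x, ← h y]; exact congrArg (f 3) e
  · have h : ∀ z, f 4 (f 4 (f 4 (f 4 z))) = z := fun z => hf.word [4, 4, 4, 4] [] (by decide +kernel) z
    rw [← h x, ← h y]; exact congrArg (f 4) (congrArg (f 4) (congrArg (f 4) e))

theorem orbit_table : ∀ c : Fin 13, (c.val < 4 → ∃ k : Fin 4, (permRep true)^[k.val] c = 0) ∧
    (4 ≤ c.val → c.val < 7 → ∀ d : Fin 13, 4 ≤ d.val → d.val < 7 →
      ∃ l : Fin 7, ([[], [true], [false], [true, false], [false, true], [true, false, true],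
        [false, true, false]].getD l.val []).foldr permRep c = d) ∧
    (7 ≤ c.val → ∀ d : Fin 13, 7 ≤ d.val → ∃ l : Fin 15, ([[], [true], [false], [true, true], [true, false],
      [false, true], [true, true, true], [true, true, false], [true, false, true], [false, true, true],
      [false, true, false], [true, true, true, false], [true, true, false, true], [true, false, true, true],
      [false, true, true, true]].getD l.val []).foldr permRep c = d) := by decide +kernel

theorem Wt.moves (hf : Ops f Q β) {c : Fin 13} {x : U} (hx : Wt f c x) (l : List Bool) :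
    Wt f (l.foldr permRep c) (act f (l.map gi) x) := by
  induction l with
  | nil => exact hx
  | cons b l ih => exact ih.move hf b

theorem act_gi_inj (hf : Ops f Q β) (l : List Bool) : Function.Injective (act f (l.map gi)) := by
  induction l with
  | nil => exact fun _ _ e => e
  | cons b l ih => exact (gi_inj hf b).comp ih

theorem nonzero_move (hf : Ops f Q β) {c : Fin 13} {x : U} (hx : Wt f c x) (hne : x ≠ 0) (l : List Bool) :
    act f (l.map gi) x ≠ 0 := fun e => hne (act_gi_inj hf l (e.trans (by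
      generalize l.map gi = w
      induction w with
      | nil => rfl
      | cons k w ih => rw [act, ← ih, map_zero])))

/-- The four multiples of a vector. -/
def four (f : Fin 6 → U →ₗ[ZMod 2] U) (n : N3) (x : U) : Fin 4 → U := ![0, x, op f n x, op f (n + n) x]

theorem four_wt (hf : Ops f Q β) {c : Fin 13} {x : U} (hx : Wt f c x) (n : N3) (i : Fin 4) : Wt f c (four f n x i) := by
  have h : ∀ m, Wt f c (op f m x) := fun m => by
    have := (mv_wt hf hx m).add hx
    rwa [mv, add_right_comm, ZModModule.add_self, zero_add] at this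
  fin_cases i
  · exact Wt.zero c
  · exact hx
  · exact h n
  · exact h (n + n)

theorem four_injective (hf : Ops f Q β) {c : Fin 13} {x : U} (hx : Wt f c x) (hne : x ≠ 0) {n : N3}
    (hn : dot (reps c) n ≠ 0) : Function.Injective (four f n x) := by
  have h3 := (hx n).2 hn
  have key : ∀ y, Wt f c y → y ≠ 0 → op f n y ≠ y := fun y hy h0 e => h0 (Wt.eq_zero hf hy hn e)
  have hinj : ∀ m y, op f m y = 0 → y = 0 := fun m y e => by
    have := congrArg (op f (m + m)) e
    rwa [op_op hf, op_map_zero, cube, op_zero] at this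
  have k1 := key x hx hne
  have k2 : op f n x ≠ 0 := fun e => hne (hinj _ _ e)
  have k3 : op f (n + n) x ≠ 0 := fun e => hne (hinj _ _ e)
  have k4 : op f (n + n) x ≠ x := fun e => k1 (by
    have := congrArg (op f n) e
    rwa [op_op hf, ← add_assoc, cube, op_zero, eq_comm] at this)
  have k5 : op f (n + n) x ≠ op f n x := fun e => k2 (by
    have h4 : x + op f n x + op f (n + n) x = 0 := h3
    rw [e, add_assoc, ZModModule.add_self, add_zero] at h4
    exact absurd h4 hne)
  intro i j e
  fin_cases i <;> fin_cases j <;>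
    first
    | rfl
    | exact absurd e hne
    | exact absurd e.symm hne
    | exact absurd e k2
    | exact absurd e.symm k2
    | exact absurd e k3
    | exact absurd e.symm k3
    | exact absurd e k1
    | exact absurd e.symm k1
    | exact absurd e k4
    | exact absurd e.symm k4
    | exact absurd e k5
    | exact absurd e.symm k5

theorem no_difference (hf : Ops f Q β) {c : Fin 13} (hc : 7 ≤ c.val) {x : U} (hx : Wt f c x) : x = 0 := by
  classical
  by_contra hne
  haveI : Finite U := Nat.finite_of_card_ne_zero (by rw [hf.card]; norm_num)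
  let d : Fin 6 → Fin 13 := fun i => ⟨i.val + 7, by omega⟩
  have hdi : Function.Injective d := fun i j e => by
    have := congrArg Fin.val e
    simp only [d] at this
    exact Fin.ext (by omega)
  have hall : ∀ i, ∃ y, Wt f (d i) y ∧ y ≠ 0 := fun i => by
    obtain ⟨l, hl⟩ := (orbit_table c).2.2 hc (d i) (by simp [d])
    exact ⟨_, hl ▸ hx.moves hf _, nonzero_move hf hx hne _⟩
  choose y hy hy0 using hall
  choose n hn using fun i => nonzero (d i)
  let φ : (Fin 6 → Fin 4) → U := fun t => ∑ i, four f (n i) (y i) (t i)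
  have hφ : Function.Injective φ := by
    intro s t e
    let Y : Fin 13 → U := Function.extend d (fun i => four f (n i) (y i) (s i) + four f (n i) (y i) (t i)) 0
    have hY : ∀ c, Wt f c (Y c) := by
      intro c
      by_cases h : ∃ i, d i = c
      · obtain ⟨i, rfl⟩ := h
        rw [show Y (d i) = _ from hdi.extend_apply _ _ i]
        exact (four_wt hf (hy i) _ _).add (four_wt hf (hy i) _ _)
      · rw [show Y c = _ from Function.extend_apply' _ _ _ h]
        exact Wt.zero c
    have h0 : (0 : U) + ∑ c, Y c = 0 := by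
      rw [zero_add, ← Finset.sum_subset (s₁ := Finset.univ.image d) (Finset.subset_univ _) (fun c _ hc => ?_),
        Finset.sum_image (fun i _ j _ e => hdi e)]
      · simp only [Y, hdi.extend_apply, Finset.sum_add_distrib]
        rw [show ∑ i, four f (n i) (y i) (s i) = φ s from rfl, show ∑ i, four f (n i) (y i) (t i) = φ t from rfl, e,
          ZModModule.add_self]
      · refine Function.extend_apply' _ _ _ fun ⟨i, hi⟩ => hc ?_
        exact Finset.mem_image.2 ⟨i, Finset.mem_univ i, hi⟩
    funext i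
    refine four_injective hf (hy i) (hy0 i) (hn i) ?_
    have := indep hf Y hY (fun m => op_map_zero m) h0 (d i)
    rw [show Y (d i) = _ from hdi.extend_apply _ _ i] at this
    exact (eq_neg_of_add_eq_zero_left this).trans (ZModModule.neg_eq_self _)
  have := Nat.card_le_card_of_injective φ hφ
  rw [hf.card, Nat.card_eq_fintype_card, Fintype.card_fun, Fintype.card_fin, Fintype.card_fin] at this
  norm_num at this

theorem dead (hf : Ops f Q β) (hno : ∀ x, ¬ Seed f x) :
    ∀ c : Fin 13, (c.val < 4 ∨ 7 ≤ c.val) → ∀ x, Wt f c x → x = 0 := by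
  intro c hc x hx
  rcases hc with hc | hc
  · by_contra hne
    obtain ⟨k, hk⟩ := (orbit_table c).1 hc
    have e : (List.replicate k.val true).foldr permRep c = 0 := by
      rw [← hk]
      generalize k.val = m
      induction m with
      | zero => rfl
      | succ m ih => rw [List.replicate_succ, List.foldr_cons, ih, Function.iterate_succ_apply']
    exact hno _ (seed_of_wt (nonzero_move hf hx hne _) (e ▸ hx.moves hf _))
  · exact no_difference hf hc hx

/-- Only three weights occur without a seed. -/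
theorem three_weights (hf : Ops f Q β) (hno : ∀ x, ¬ Seed f x) (y : Fin 13 → U) (hy : ∀ c, Wt f c (y c)) :
    ∑ c, y c = y 4 + y 5 + y 6 := by
  rw [show (∑ c, y c) = ∑ c ∈ ({4, 5, 6} : Finset (Fin 13)), y c from
    (Finset.sum_subset (Finset.subset_univ _) fun c _ hc => dead hf hno c (by
      revert hc; revert c; decide) _ (hy c)).symm]
  simp [add_assoc]

/-- The fixed vectors and each of the three weight spaces have four elements. -/
theorem fixed_cards (hf : Ops f Q β) (hno : ∀ x, ¬ Seed f x) (hmove : ∃ n x, op f n x ≠ x) :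
    Nat.card {x : U // Fx f x} = 4 ∧
      ∀ c : Fin 13, 4 ≤ c.val → c.val < 7 → Nat.card {x : U // Wt f c x} = 4 := by
  classical
  haveI : Finite U := Nat.finite_of_card_ne_zero (by rw [hf.card]; norm_num)
  let M := fun c => {x : U // Wt f c x}
  let F := {x : U // Fx f x}
  let Φ : F × M 4 × M 5 × M 6 → U := fun t => t.1.1 + (t.2.1.1 + t.2.2.1.1 + t.2.2.2.1)
  have hsur : Function.Surjective Φ := fun x => by
    obtain ⟨u, hu, y, hy, rfl⟩ := decompose hf x
    exact ⟨(⟨u, hu⟩, ⟨_, hy 4⟩, ⟨_, hy 5⟩, ⟨_, hy 6⟩), by rw [three_weights hf hno y hy]⟩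
  have hker : ∀ (u : U) (a b c : U), Fx f u → Wt f 4 a → Wt f 5 b → Wt f 6 c → u + (a + b + c) = 0 →
      u = 0 ∧ a = 0 ∧ b = 0 ∧ c = 0 := by
    intro u a b c hu ha hb hc h0
    let Y : Fin 13 → U := fun d => if d = 4 then a else if d = 5 then b else if d = 6 then c else 0
    have hY : ∀ d, Wt f d (Y d) := fun d => by
      simp only [Y]
      split_ifs with h1 h2 h3
      · exact h1 ▸ ha
      · exact h2 ▸ hb
      · exact h3 ▸ hc
      · exact Wt.zero d
    have hz := indep hf Y hY hu (by rw [three_weights hf hno Y hY]; simpa [Y] using h0)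
    have e4 := hz 4; have e5 := hz 5; have e6 := hz 6
    simp [Y] at e4 e5 e6
    exact ⟨by simpa [e4, e5, e6] using h0, e4, e5, e6⟩
  have hinj : Function.Injective Φ := by
    rintro ⟨u, a, b, c⟩ ⟨u', a', b', c'⟩ e
    simp only [Φ] at e
    have hneg : ∀ {p q : U}, p + q = 0 → p = q := fun h =>
      (eq_neg_of_add_eq_zero_left h).trans (ZModModule.neg_eq_self _)
    obtain ⟨h1, h2, h3, h4⟩ := hker (u.1 + u'.1) (a.1 + a'.1) (b.1 + b'.1) (c.1 + c'.1)
      (fun n => by rw [op_map_add, u.2, u'.2]) (a.2.add a'.2) (b.2.add b'.2) (c.2.add c'.2) (by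
        have : u.1 + (a.1 + b.1 + c.1) + (u'.1 + (a'.1 + b'.1 + c'.1)) = 0 := by rw [e, ZModModule.add_self]
        rw [← this]; abel)
    simp only [Prod.mk.injEq]
    exact ⟨Subtype.ext (hneg h1), Subtype.ext (hneg h2), Subtype.ext (hneg h3), Subtype.ext (hneg h4)⟩
  have hle : ∀ c d : Fin 13, 4 ≤ c.val → c.val < 7 → 4 ≤ d.val → d.val < 7 → Nat.card (M c) ≤ Nat.card (M d) := by
    intro c d h1 h2 h3 h4
    obtain ⟨l, hl⟩ := (orbit_table c).2.1 h1 h2 d h3 h4
    refine Nat.card_le_card_of_injective (fun x : M c => (⟨_, hl ▸ x.2.moves hf _⟩ : M d)) fun x y e => ?_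
    exact Subtype.ext (act_gi_inj hf _ (congrArg Subtype.val e))
  have h256 := Nat.card_congr (Equiv.ofBijective Φ ⟨hinj, hsur⟩)
  rw [hf.card] at h256
  simp only [Nat.card_prod] at h256
  rw [le_antisymm (hle 5 4 (by decide) (by decide) (by decide) (by decide)) (hle 4 5 (by decide) (by decide) (by decide) (by decide)),
    le_antisymm (hle 6 4 (by decide) (by decide) (by decide) (by decide)) (hle 4 6 (by decide) (by decide) (by decide) (by decide))] at h256
  have h4 : 4 ≤ Nat.card (M 4) := by
    by_contra hlt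
    have hz : ∀ x : U, Wt f 4 x → x = 0 := fun x hx => by
      by_contra hne
      obtain ⟨n, hn⟩ := nonzero 4
      have := Nat.card_le_card_of_injective (fun i => (⟨_, four_wt hf hx n i⟩ : M 4))
        fun i j e => four_injective hf hx hne hn (congrArg Subtype.val e)
      rw [Nat.card_eq_fintype_card, Fintype.card_fin] at this
      exact hlt this
    have hz' : ∀ c : Fin 13, 4 ≤ c.val → c.val < 7 → ∀ x : U, Wt f c x → x = 0 := fun c h1 h2 x hx => by
      obtain ⟨l, hl⟩ := (orbit_table c).2.1 h1 h2 4 (by decide) (by decide)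
      by_contra hne
      exact nonzero_move hf hx hne _ (hz _ (hl ▸ hx.moves hf _))
    obtain ⟨n, x, hx⟩ := hmove
    obtain ⟨u, hu, y, hy, rfl⟩ := decompose hf x
    rw [three_weights hf hno y hy, hz' 4 (by decide) (by decide) _ (hy 4), hz' 5 (by decide) (by decide) _ (hy 5),
      hz' 6 (by decide) (by decide) _ (hy 6), add_zero, add_zero, add_zero] at hx
    exact hx (hu n)
  have hM4 : Nat.card (M 4) = 4 := by
    have hm : Nat.card (M 4) ≤ 6 := by
      by_contra hlt
      haveI : Nonempty F := ⟨⟨0, fun n => op_map_zero n⟩⟩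
      have h7 : 7 ≤ Nat.card (M 4) := by omega
      have h343 := Nat.mul_le_mul (Nat.card_pos (α := F)) (Nat.mul_le_mul h7 (Nat.mul_le_mul h7 h7))
      omega
    interval_cases hh : Nat.card (M 4) <;> omega
  have hF : Nat.card F = 4 := by
    rw [hM4] at h256
    omega
  refine ⟨hF, ?_⟩
  intro c h1 h2
  have e := hle c 4 h1 h2 (by decide) (by decide)
  have e' := hle 4 c (by decide) (by decide) h1 h2
  show Nat.card (M c) = 4
  omega

/-- Without a seed for the natural module the diagonal group fixes a subspace of order four, fixed by all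
operators as a set, and orthogonal to the other weight vectors. -/
theorem fixed_case (hf : Ops f Q β) (hno : ∀ x, ¬ Seed f x) (hmove : ∃ n x, op f n x ≠ x) :
    Nat.card {x : U // Fx f x} = 4 ∧ (∀ i x, Fx f x → Fx f (f i x)) ∧
      ∀ x : U, ∃ u y, Fx f u ∧ x = u + y ∧ ∀ v, Fx f v → β v y = 0 := by
  classical
  haveI : Finite U := Nat.finite_of_card_ne_zero (by rw [hf.card]; norm_num)
  refine ⟨(fixed_cards hf hno hmove).1, fun i x hx => ?_, fun x => ?_⟩
  · have hd : ∀ k : Fin 3, Fx f (f (three k) x) := fun k => by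
      have e : ∀ k : Fin 3, ∃ n : N3, ew n = [three k] := by decide +kernel
      obtain ⟨n, hn⟩ := e k
      have := hx n
      rw [op, hn] at this
      rw [show f (three k) x = x from this]
      exact hx
    fin_cases i
    · exact hd 0
    · exact hd 1
    · exact hd 2
    · exact hx.move hf false
    · exact hx.move hf true
    · have hE : op f ![2, 2, 2] (f 5 x) = f 5 x := by
        have := hf.word _ _ reflection_commutes.1 x
        rw [act_append] at this
        show act f (wOm 0) (f 5 x) = f 5 x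
        rw [show act f (wOm 0) (f 5 x) = act f (5 :: wOm 0) x from this.symm]
        exact congrArg (f 5) (hx ![2, 2, 2])
      obtain ⟨u, hu, y, hy, e⟩ := decompose hf (f 5 x)
      have hmv : ∀ c, Wt f c (mv f ![2, 2, 2] (y c)) := fun c => mv_wt hf (hy c) _
      have h0 : (0 : U) + ∑ c, mv f ![2, 2, 2] (y c) = 0 := by
        have h1 : mv f ![2, 2, 2] (f 5 x) = 0 := by rw [mv, hE, ZModModule.add_self]
        rw [e] at h1
        let L : U →+ U := AddMonoidHom.mk' (mv f ![2, 2, 2]) fun a b => by simp only [mv, op_map_add]; abel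
        change L (u + ∑ c, y c) = 0 at h1
        rw [map_add, map_sum, show L u = mv f ![2, 2, 2] u from rfl, mv, hu, ZModModule.add_self] at h1
        exact h1
      have hz : ∀ c : Fin 13, 4 ≤ c.val → c.val < 7 → y c = 0 := fun c h1 h2 => by
        have h3 := indep hf _ hmv (fun m => op_map_zero m) h0 c
        refine Wt.eq_zero hf (hy c) (n := ![2, 2, 2]) ?_ ?_
        · exact sum_dot c h1 h2
        · exact ((eq_neg_of_add_eq_zero_right h3).trans (ZModModule.neg_eq_self _))
      show Fx f (f 5 x)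
      rw [e, three_weights hf hno y hy, hz 4 (by decide) (by decide), hz 5 (by decide) (by decide), hz 6 (by decide) (by decide),
        add_zero, add_zero, add_zero]
      exact hu
  · obtain ⟨u, hu, y, hy, rfl⟩ := decompose hf x
    exact ⟨u, _, hu, rfl, fun v hv => by
      rw [map_sum]
      exact Finset.sum_eq_zero fun c _ => Wt.orth hf hv (hy c)⟩

end CfsgLib.Recognition.USixTwoOuter
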